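import Cfsg.Agent.Mrg.Omega.NatPair.Pair


/-!
# Mutual pairs of natural modules relative to subgroups `N ≤ N_G(V)`, `N' ≤ N_G(V')`; Sylow subgroups and tori

The same statements as in `NatPair.{Pair, Bridge}`, with `N` in place of `N_G(V)`.
-/

set_option autoImplicit false
set_option linter.unusedSectionVars false

namespace Cfsg.Agent.Omega.Mix

open Subgroup Cfsg.Agent.Lib.SL2Mat
open Cfsg.Agent.Omega.NatPair (ap ap_zero' ap_one' ap_mul ap_one ap_add ap_smul ap_inv_ap ap_ap_inv ap_inj exists_ap_e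
  exists_ap ap_up_e ext2 exists_ringEquiv card_ringAut_lt exists_of_fix dt dt_add dt_smul exists_smul_of_dt exists_comb
  fix_all cj mem_cj cj_mul cj_one cj_eq_iff mem_normalizer_cj sq_of_fix eq_one_of_pow)

variable {G : Type*} [Group G]

/-- two subgroups which normalise each other (inside `N`, `N'`) and do not commute -/
structure RMutual (V V' N N' : Subgroup G) : Prop where
  le : V' ≤ N
  le' : V ≤ N'
  ne : ∃ v ∈ V, ∃ w ∈ V', v * w ≠ w * v

theorem RMutual.symm {V V' N N' : Subgroup G} (h : RMutual V V' N N') : RMutual V' V N' N where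
  le := h.le'
  le' := h.le
  ne := by
    obtain ⟨v, hv, w, hw, hvw⟩ := h.ne
    exact ⟨w, hw, v, hv, fun h => hvw h.symm⟩

theorem RMutual.ne_of {V V' N N' : Subgroup G} (h : RMutual V V' N N') : ∃ a ∈ V', ∃ v ∈ V, a * v ≠ v * a := by
  obtain ⟨v, hv, w, hw, hvw⟩ := h.ne
  exact ⟨w, hw, v, hv, fun h => hvw h.symm⟩

section pair

variable {F F' : Type*} [Field F] [Field F'] {V V' N N' : Subgroup G} (M : RMod F V N) (M' : RMod F' V' N')

include M M' in
theorem RMutual.comm_mem (h : RMutual V V' N N') {a v : G} (ha : a ∈ V') (hv : v ∈ V) :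
    a * v * a⁻¹ * v⁻¹ ∈ V ⊓ V' := by
  rw [mem_inf]
  constructor
  · exact mul_mem ((mem_normalizer_iff.1 (M.le (h.le ha)) v).1 hv) (inv_mem hv)
  · have h1 : v * a⁻¹ * v⁻¹ ∈ V' := (mem_normalizer_iff.1 (M'.le (h.le' hv)) a⁻¹).1 (inv_mem ha)
    have h2 : a * v * a⁻¹ * v⁻¹ = a * (v * a⁻¹ * v⁻¹) := by group
    rw [h2]
    exact mul_mem ha h1

include M M' in
theorem RMutual.quad (h : RMutual V V' N N') : ∀ a ∈ V', ∀ b ∈ V', ∀ v ∈ V,
    b * (a * v * a⁻¹ * v⁻¹) = (a * v * a⁻¹ * v⁻¹) * b := fun _ ha _ hb _ hv =>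
  M'.comm hb (mem_inf.1 (h.comm_mem M M' ha hv)).2

theorem pair_aux [Finite G] [Finite F] [Finite F'] [CharP F 2] [CharP F' 2] (h : RMutual V V' N N')
    (hle : (centralizer (V' : Set G)).relIndex V ≤ (centralizer (V : Set G)).relIndex V') :
    ∃ w w', M.Quad V' w ∧ M'.Quad V w' := by
  obtain ⟨w, hw⟩ := M.quad_ff h.le h.ne_of (h.quad M M') hle
  obtain ⟨w', hw'⟩ := M'.quad_ff h.le' h.symm.ne_of (h.symm.quad M' M) (by rw [hw.card, hw.index])
  exact ⟨w, w', hw, hw'⟩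

theorem pair_aux' [Finite G] [Finite F] [Finite F'] [CharP F 2] [CharP F' 2] (h : RMutual V V' N N') :
    ∃ w w', M.Quad V' w ∧ M'.Quad V w' := by
  rcases le_total ((centralizer (V' : Set G)).relIndex V) ((centralizer (V : Set G)).relIndex V') with hle | hle
  · exact pair_aux M M' h hle
  · obtain ⟨w', w, h1, h2⟩ := pair_aux M' M h.symm hle
    exact ⟨w, w', h2, h1⟩

/-- **mutual pairs of natural modules** -/
theorem pair [Finite G] [Finite F] [Finite F'] [CharP F 2] [CharP F' 2] (h : RMutual V V' N N') :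
    Nat.card F = Nat.card F' ∧ ∃ w w', M.Quad V' w ∧ M'.Quad V w' ∧ V ⊓ V' = M.line w ∧ V ⊓ V' = M'.line w' := by
  obtain ⟨w, w', hw, hw'⟩ := pair_aux' M M' h
  refine ⟨by rw [← hw.card, hw'.index], w, w', hw, hw', ?_, ?_⟩
  · apply le_antisymm
    · rw [← hw.cent]
      intro g hg
      rw [mem_inf] at hg ⊢
      exact ⟨mem_centralizer_iff.2 fun v hv => M'.comm hv hg.2, hg.1⟩
    · intro r hr
      obtain ⟨a, ha, v, hv, rfl⟩ := hw.comm' r hr
      exact h.comm_mem M M' ha hv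
  · apply le_antisymm
    · rw [← hw'.cent]
      intro g hg
      rw [mem_inf] at hg ⊢
      exact ⟨mem_centralizer_iff.2 fun v hv => M.comm hv hg.1, hg.2⟩
    · intro r hr
      obtain ⟨a, ha, v, hv, rfl⟩ := hw'.comm' r hr
      have := h.symm.comm_mem M' M ha hv
      rwa [inf_comm]

end pair

section conj

variable {F : Type*} [Field F] {V N : Subgroup G} (M : RMod F V N)

/-- the conjugate of a natural module -/
def RMod.conj (g : G) : RMod F (cj g V) (cj g N) where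
  e x := g * M.e x * g⁻¹
  e_add x y := by rw [M.e_add]; group
  e_inj x y h := M.e_inj (mul_left_cancel (mul_right_cancel h))
  mem_iff x := by
    rw [mem_cj, M.mem_iff]
    constructor
    · rintro ⟨y, hy⟩
      exact ⟨y, by rw [hy]; group⟩
    · rintro ⟨y, hy⟩
      exact ⟨y, by rw [← hy]; group⟩
  le := by
    rintro _ ⟨x, hx, rfl⟩
    rw [mem_normalizer_cj]
    have e : g⁻¹ * (MulAut.conj g).toMonoidHom x * g = x := by
      show g⁻¹ * (MulAut.conj g x) * g = x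
      rw [MulAut.conj_apply]; group
    rw [e]
    exact M.le hx
  cent := by
    intro x hx
    rw [mem_cj]
    apply M.cent
    rw [mem_centralizer_iff] at hx ⊢
    intro v hv
    have h1 := hx (g * v * g⁻¹) (by
      rw [SetLike.mem_coe, mem_cj]
      have : g⁻¹ * (g * v * g⁻¹) * g = v := by group
      rw [this]
      exact hv)
    calc v * (g⁻¹ * x * g) = g⁻¹ * (g * v * g⁻¹ * x) * g := by group
      _ = g⁻¹ * (x * (g * v * g⁻¹)) * g := by rw [h1]
      _ = g⁻¹ * x * g * v := by group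
  lift' A := by
    obtain ⟨h, hN, hA⟩ := M.lift' A
    refine ⟨g * h * g⁻¹, ⟨h, hN, by simp⟩, fun x => ?_⟩
    rw [← hA x]; group
  norm x hx h A hA := by
    rw [mem_cj] at hx
    obtain ⟨B, hB⟩ := M.norm _ hx (g⁻¹ * h * g) A (by
      intro y
      have h1 : g⁻¹ * h * g * M.e y * (g⁻¹ * h * g)⁻¹ = g⁻¹ * (h * (g * M.e y * g⁻¹) * h⁻¹) * g := by group
      rw [h1, hA]; group)
    refine ⟨B, fun y => ?_⟩
    rw [← hB y]; group

theorem RMod.conj_line (g : G) (w : Fin 2 → F) : (M.conj g).line w = cj g (M.line w) := by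
  ext x
  rw [RMod.mem_line, mem_cj, RMod.mem_line]
  constructor
  · rintro ⟨c, hc⟩
    refine ⟨c, ?_⟩
    rw [← hc]
    show _ = g⁻¹ * (g * M.e (c • w) * g⁻¹) * g
    group
  · rintro ⟨c, hc⟩
    refine ⟨c, ?_⟩
    show g * M.e (c • w) * g⁻¹ = x
    rw [hc]; group

theorem RMod.cj_line_of_ind {h : G} {A : Matrix.SpecialLinearGroup (Fin 2) F} (hA : M.Ind h A) (w : Fin 2 → F) :
    cj h (M.line w) = M.line (ap A w) := by
  ext x
  rw [mem_cj, RMod.mem_line, RMod.mem_line]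
  constructor
  · rintro ⟨c, hc⟩
    refine ⟨c, ?_⟩
    rw [← ap_smul, ← hA, hc]; group
  · rintro ⟨c, hc⟩
    refine ⟨c, ?_⟩
    rw [← ap_smul, ← hA] at hc
    rw [← hc]; group

include M in
/-- `N_G(V)` is transitive on the nontrivial elements of `V` -/
theorem RMod.trans {v v' : G} (hv : v ∈ V) (hv1 : v ≠ 1) (hv' : v' ∈ V) (hv'1 : v' ≠ 1) :
    ∃ l ∈ N, l * v * l⁻¹ = v' := by
  obtain ⟨x, rfl⟩ := (M.mem_iff v).1 hv
  obtain ⟨y, rfl⟩ := (M.mem_iff v').1 hv'
  obtain ⟨A, hA⟩ := exists_ap (x := x) (y := y) (fun h => hv1 (by rw [h, M.e_zero])) (fun h => hv'1 (by rw [h, M.e_zero]))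
  obtain ⟨l, hl⟩ := M.lift A
  exact ⟨l, M.mem_normalizer hl, by rw [hl, hA]⟩

include M in
/-- if `N_G(V) ≤ K`, `Q` a normal 2-subgroup of `K` with `C_K(Q) ≤ Q`, then `V ≤ Z(Q)` -/
theorem RMod.le_center_of [Finite G] [Finite F] [CharP F 2] (S : Sylow 2 G) (hS : (S : Subgroup G) ≤ N)
    (hZ : ∀ z ∈ S, z * z = 1 → (∀ s ∈ S, s * z = z * s) → z ∈ V) {K Q : Subgroup G} (hVK : N ≤ K)
    (hQK : Q ≤ K) (hQ : IsPGroup 2 Q) (hQn : K ≤ normalizer (Q : Set G)) (hQc : ∀ x ∈ K, (∀ q ∈ Q, q * x = x * q) → x ∈ Q) :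
    ∀ v ∈ V, v ∈ Q ∧ ∀ q ∈ Q, q * v = v * q := by
  have : Fact (Nat.Prime 2) := ⟨Nat.prime_two⟩
  -- `Q ≤ S`
  have hQS : Q ≤ (S : Subgroup G) := by
    have hSQ : (S : Subgroup G) ≤ normalizer (Q : Set G) := (hS.trans hVK).trans hQn
    have h1 : IsPGroup 2 ((S : Subgroup G) ⊔ Q : Subgroup G) := S.isPGroup'.to_sup_of_normal_right' hQ hSQ
    have h2 := S.is_maximal' h1 le_sup_left
    rw [← h2]
    exact le_sup_right
  -- a central involution of `S`
  have hVne : Nontrivial V := by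
    have h1 : (1 : ℕ) < Nat.card V := by
      rw [M.card_V]
      exact Nat.one_lt_pow (by norm_num) Finite.one_lt_card
    exact Finite.one_lt_card_iff_nontrivial.1 h1
  have hSne : Nontrivial S := by
    have h2V : IsPGroup 2 V := fun v => ⟨1, by
      rw [pow_one, pow_two]; exact Subtype.ext (M.sq v.2)⟩
    obtain ⟨P, hP⟩ := h2V.exists_le_sylow
    have h1 : Nat.card S = Nat.card P := Nat.card_congr (Sylow.equiv S P).toEquiv
    rw [← Finite.one_lt_card_iff_nontrivial, h1]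
    exact lt_of_lt_of_le (Finite.one_lt_card_iff_nontrivial.2 hVne)
      (Nat.card_le_card_of_injective _ (inclusion_injective hP))
  obtain ⟨z, hzS, hz2, hzc, hz1⟩ : ∃ z ∈ (S : Subgroup G), z * z = 1 ∧ (∀ s ∈ S, s * z = z * s) ∧ z ≠ 1 := by
    have h1 : Nontrivial (center S) := S.isPGroup'.center_nontrivial
    have h2 : 2 ∣ Nat.card (center S) := by
      obtain ⟨n, hn⟩ := IsPGroup.iff_card.1 (S.isPGroup'.to_subgroup (center S))
      rw [hn]
      have : n ≠ 0 := by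
        rintro rfl
        rw [pow_zero] at hn
        exact absurd (Finite.one_lt_card_iff_nontrivial.2 h1) (by rw [hn]; norm_num)
      exact dvd_pow_self 2 this
    obtain ⟨z, hz⟩ := exists_prime_orderOf_dvd_card' 2 h2
    have hz2 : z * z = 1 := by
      have h3 := pow_orderOf_eq_one z
      rwa [hz, pow_two] at h3
    refine ⟨((z : S) : G), (z : S).2, ?_, ?_, ?_⟩
    · exact congrArg (fun t : center S => ((t : S) : G)) hz2
    · intro s hs
      exact congrArg Subtype.val (mem_center_iff.1 z.2 ⟨s, hs⟩)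
    · intro h
      have : z = 1 := Subtype.ext (Subtype.ext h)
      rw [this, orderOf_one] at hz
      norm_num at hz
  have hzV : z ∈ V := hZ z hzS hz2 hzc
  have hzQ : z ∈ Q := hQc z (hVK (hS hzS)) fun q hq => hzc q (hQS hq)
  intro v hv
  by_cases hv1 : v = 1
  · rw [hv1]
    exact ⟨one_mem _, fun q _ => by rw [mul_one, one_mul]⟩
  · obtain ⟨l, hl, rfl⟩ := M.trans hzV hz1 hv hv1
    have hlQ := hQn (hVK hl)
    refine ⟨(mem_normalizer_iff.1 hlQ z).1 hzQ, fun q hq => ?_⟩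
    have h1 : l⁻¹ * q * l ∈ Q := by
      have := (mem_normalizer_iff.1 (inv_mem hlQ) q).1 hq
      rwa [inv_inv] at this
    have h2 := hzc _ (hQS h1)
    calc q * (l * z * l⁻¹) = l * (l⁻¹ * q * l * z) * l⁻¹ := by group
      _ = l * (z * (l⁻¹ * q * l)) * l⁻¹ := by rw [h2]
      _ = l * z * l⁻¹ * q := by group

end conj


namespace RMod

variable {F : Type*} [Field F] {V N : Subgroup G} (M : RMod F V N)

/-- the image of a line -/
theorem cj_line [Finite F] {g : G} (hg : g ∈ N) (w : Fin 2 → F) :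
    cj g (M.line w) = M.line (M.act g w) := by
  obtain ⟨s, hs⟩ := M.exists_semi hg
  ext x
  rw [mem_cj, mem_line, mem_line]
  constructor
  · rintro ⟨c, hc⟩
    refine ⟨s c, ?_⟩
    rw [← hs, M.e_act hg, hc]; group
  · rintro ⟨c, hc⟩
    refine ⟨s.symm c, ?_⟩
    have h1 : M.act g (s.symm c • w) = c • M.act g w := by rw [hs, RingEquiv.apply_symm_apply]
    have h2 := M.e_act hg (s.symm c • w)
    rw [h1, hc] at h2
    rw [h2]; group

theorem line_smul {w : Fin 2 → F} {c : F} (hc : c ≠ 0) : M.line (c • w) = M.line w := by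
  ext x
  rw [mem_line, mem_line]
  constructor
  · rintro ⟨d, hd⟩
    exact ⟨d * c, by rw [mul_smul]; exact hd⟩
  · rintro ⟨d, hd⟩
    refine ⟨d * c⁻¹, ?_⟩
    rw [smul_smul, mul_assoc, inv_mul_cancel₀ hc, mul_one]
    exact hd

theorem line_eq_iff {w w' : Fin 2 → F} (hw' : w' ≠ 0) : M.line w' = M.line w ↔ ∃ c : F, w' = c • w := by
  constructor
  · intro h
    have h1 : M.e w' ∈ M.line w' := M.e_mem_line.2 ⟨1, (one_smul _ _).symm⟩
    rw [h, M.e_mem_line] at h1
    exact h1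
  · rintro ⟨c, rfl⟩
    refine M.line_smul ?_
    rintro rfl
    exact hw' (zero_smul _ _)

/-- a line of `V` is normalised by a Sylow 2-subgroup of `G` inside `N_G(V)` -/
theorem exists_sylow [Finite G] [Finite F] [CharP F 2] (S : Sylow 2 G) (hS : (S : Subgroup G) ≤ N)
    {w : Fin 2 → F} (hw : w ≠ 0) :
    ∃ S₁ : Sylow 2 G, (S₁ : Subgroup G) ≤ N ∧
      (S₁ : Subgroup G) ≤ normalizer ((M.line w : Subgroup G) : Set G) := by
  have : Fact (Nat.Prime 2) := ⟨Nat.prime_two⟩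
  -- a fixed vector
  let _ : MulAction S (Fin 2 → F) :=
    { smul := fun s x => M.act s x
      one_smul := fun x => M.act_one x
      mul_smul := fun s t x => M.act_mul (hS s.2) (hS t.2) x }
  have hcard : 2 ∣ Nat.card (Fin 2 → F) := by
    have h1 : 2 ∣ Nat.card F := by
      have : Fintype F := Fintype.ofFinite F
      obtain ⟨n, -, hn⟩ := FiniteField.card F 2
      rw [Nat.card_eq_fintype_card, hn]
      exact dvd_pow_self 2 n.pos.ne'
    rw [show Nat.card (Fin 2 → F) = Nat.card F * Nat.card F by simp [Nat.card_fun, pow_two]]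
    exact h1.mul_left _
  obtain ⟨x, hx, hx0⟩ := S.isPGroup'.exists_fixed_point_of_prime_dvd_card_of_fixed_point (Fin 2 → F) hcard (a := 0) (by
    intro s
    show M.act s 0 = 0
    apply M.e_inj
    rw [M.e_act (hS s.2), M.e_zero]; group)
  obtain ⟨A, hA⟩ := exists_ap (x := x) (y := w) (Ne.symm hx0) hw
  obtain ⟨l, hl⟩ := M.lift A
  have hlV := M.mem_normalizer hl
  refine ⟨l • S, ?_, ?_⟩
  · intro s hs
    have h1 : l⁻¹ * s * l ∈ (S : Subgroup G) := by
      have h2 := Subgroup.mem_pointwise_smul_iff_inv_smul_mem.1 hs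
      rw [← map_inv, MulAut.smul_def, MulAut.conj_apply, inv_inv] at h2
      exact h2
    have h2 := mul_mem (mul_mem hlV (hS h1)) (inv_mem hlV)
    have h3 : l * (l⁻¹ * s * l) * l⁻¹ = s := by group
    rwa [h3] at h2
  · intro s hs
    have h1 : l⁻¹ * s * l ∈ (S : Subgroup G) := by
      have h2 := Subgroup.mem_pointwise_smul_iff_inv_smul_mem.1 hs
      rw [← map_inv, MulAut.smul_def, MulAut.conj_apply, inv_inv] at h2
      exact h2
    have h2 : M.act (l⁻¹ * s * l) x = x := hx ⟨_, h1⟩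
    rw [← cj_eq_iff, ← hA, ← M.cj_line_of_ind hl, ← cj_mul]
    have h3 : s * l = l * (l⁻¹ * s * l) := by group
    rw [h3, cj_mul, M.cj_line (hS h1), h2]

/-- the group of all elements which induce a transvection with axis `w` -/
def UW (w : Fin 2 → F) : Subgroup G where
  carrier := {u | ∃ B, ap B w = w ∧ M.Ind u B}
  mul_mem' := by
    rintro a b ⟨A, hA, hA'⟩ ⟨B, hB, hB'⟩
    refine ⟨A * B, by rw [ap_mul, hB, hA], fun x => ?_⟩
    have h1 : a * b * M.e x * (a * b)⁻¹ = a * (b * M.e x * b⁻¹) * a⁻¹ := by group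
    rw [h1, hB', hA', ap_mul]
  one_mem' := ⟨1, ap_one w, fun x => by rw [ap_one]; group⟩
  inv_mem' := by
    rintro a ⟨A, hA, hA'⟩
    refine ⟨A⁻¹, ?_, fun x => ?_⟩
    · nth_rewrite 1 [← hA]
      exact ap_inv_ap A w
    · have h1 := hA' (ap A⁻¹ x)
      rw [ap_ap_inv] at h1
      rw [← h1]; group

theorem UW_le (w : Fin 2 → F) : M.UW w ≤ N := by
  rintro u ⟨B, -, hB⟩
  exact M.mem_normalizer hB

theorem conj_mem_UW [Finite F] {w : Fin 2 → F} (hw : w ≠ 0) {g u : G} (hg : g ∈ N)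
    (hgw : g ∈ normalizer ((M.line w : Subgroup G) : Set G)) (hu : u ∈ M.UW w) : g * u * g⁻¹ ∈ M.UW w := by
  obtain ⟨B, hB, hB'⟩ := hu
  obtain ⟨B', hB''⟩ := M.norm g hg u B hB'
  have hI : M.Ind (g * u * g⁻¹) B' := hB''
  have huV : u ∈ N := M.mem_normalizer hB'
  refine ⟨B', ?_, hI⟩
  rw [← cj_eq_iff, M.cj_line hg, M.line_eq_iff (M.act_ne_zero hg hw)] at hgw
  obtain ⟨c, hc⟩ := hgw
  have hc0 : c ≠ 0 := by
    rintro rfl
    rw [zero_smul] at hc
    exact M.act_ne_zero hg hw hc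
  have h1 : M.act (g * u * g⁻¹) (M.act g w) = M.act g w := by
    rw [← M.act_mul (M.mem_normalizer hI) hg]
    have h2 : g * u * g⁻¹ * g = g * u := by group
    rw [h2, M.act_mul hg huV, M.act_of_ind hB', hB]
  rw [M.act_of_ind hI, hc, ap_smul] at h1
  exact smul_right_injective _ hc0 h1

/-- a Sylow 2-subgroup of `G` inside `N_G(V) ∩ N_G(R)` induces all the transvections with axis `R` -/
theorem full_of_sylow [Finite G] [Finite F] [CharP F 2] (S : Sylow 2 G)
    (hS : (S : Subgroup G) ≤ N) {w : Fin 2 → F} (hw : w ≠ 0)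
    (hSw : (S : Subgroup G) ≤ normalizer ((M.line w : Subgroup G) : Set G)) {B : Matrix.SpecialLinearGroup (Fin 2) F}
    (hB : ap B w = w) : ∃ s ∈ S, M.Ind s B := by
  have : Fact (Nat.Prime 2) := ⟨Nat.prime_two⟩
  let φ : N →* MulAut V := V.normalizerMonoidHom.comp (inclusion M.le)
  have hφ : ∀ n : N, ∀ v : V, ((φ n v : V) : G) = n * v * (n : G)⁻¹ := fun n v => rfl
  let ψ : N →* φ.range := φ.rangeRestrict
  have hψ : Function.Surjective ψ := φ.rangeRestrict_surjective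
  let P : Sylow 2 N := S.subtype hS
  let P' : Sylow 2 φ.range := P.mapSurjective hψ
  let U : Subgroup φ.range := ((M.UW w).subgroupOf N).map ψ
  have hU2 : IsPGroup 2 U := by
    rintro ⟨_, ⟨n, hn, rfl⟩⟩
    obtain ⟨B, hB, hB'⟩ := mem_subgroupOf.1 hn
    refine ⟨1, ?_⟩
    apply Subtype.ext
    show ψ n ^ (2 ^ 1) = 1
    rw [pow_one, pow_two]
    apply Subtype.ext
    show φ n * φ n = 1
    ext v
    obtain ⟨x, hx⟩ := (M.mem_iff (v : G)).1 v.2
    show (n : G) * ((n : G) * v * (n : G)⁻¹) * (n : G)⁻¹ = v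
    rw [← hx, hB', hB', sq_of_fix hw hB]
  have hnorm : (P' : Subgroup φ.range) ≤ normalizer (U : Set φ.range) := by
    rintro _ ⟨p, hp, rfl⟩
    have hp' : (p : G) ∈ (S : Subgroup G) := mem_subgroupOf.1 hp
    have key : ∀ g : N, (g : G) ∈ normalizer ((M.line w : Subgroup G) : Set G) → ∀ u ∈ U, ψ g * u * (ψ g)⁻¹ ∈ U := by
      rintro g hg _ ⟨n, hn, rfl⟩
      refine ⟨g * n * g⁻¹, ?_, by rw [map_mul, map_mul, map_inv]⟩
      exact mem_subgroupOf.2 (M.conj_mem_UW hw g.2 hg (mem_subgroupOf.1 hn))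
    rw [mem_normalizer_iff]
    intro u
    constructor
    · exact key p (hSw hp') u
    · intro h
      have h1 := key p⁻¹ (inv_mem (hSw hp')) _ h
      rw [map_inv, inv_inv] at h1
      have h2 : (ψ p)⁻¹ * (ψ p * u * (ψ p)⁻¹) * ψ p = u := by group
      rwa [h2] at h1
  have h1 : IsPGroup 2 ((P' : Subgroup φ.range) ⊔ U : Subgroup φ.range) := P'.isPGroup'.to_sup_of_normal_right' hU2 hnorm
  have h2 := P'.is_maximal' h1 le_sup_left
  have hUP : U ≤ (P' : Subgroup φ.range) := by rw [← h2]; exact le_sup_right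
  obtain ⟨l, hl⟩ := M.lift B
  have hlN : l ∈ N := M.mem_normalizer hl
  obtain ⟨p, hp, hpl⟩ := hUP ⟨⟨l, hlN⟩, mem_subgroupOf.2 ⟨B, hB, hl⟩, rfl⟩
  refine ⟨p, mem_subgroupOf.1 hp, fun x => ?_⟩
  have h3 : φ p = φ ⟨l, hlN⟩ := congrArg Subtype.val hpl
  have h4 := congrArg (fun α : MulAut V => ((α ⟨M.e x, M.e_mem x⟩ : V) : G)) h3
  rw [← hl x]
  exact h4

theorem cent_le_of_sylow [Finite G] [Finite F] [CharP F 2] (S : Sylow 2 G)
    (hS : (S : Subgroup G) ≤ N) {w : Fin 2 → F} (hw : w ≠ 0)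
    (hSw : (S : Subgroup G) ≤ normalizer ((M.line w : Subgroup G) : Set G)) :
    centralizer ((S : Subgroup G) : Set G) ⊓ V ≤ M.line w := by
  intro v hv
  rw [mem_inf] at hv
  obtain ⟨x, rfl⟩ := (M.mem_iff v).1 hv.2
  obtain ⟨D, hD⟩ := exists_ap_e hw
  have h1 : ap (D * up 1 * D⁻¹) w = w := by
    rw [← hD, ap_mul, ap_mul, ap_inv_ap, ap_up_e]
  obtain ⟨s, hs, hsB⟩ := M.full_of_sylow S hS hw hSw h1
  have h2 : ap (D * up 1 * D⁻¹) x = x := by
    apply M.e_inj
    rw [← hsB, mul_inv_eq_iff_eq_mul]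
    exact mem_centralizer_iff.1 hv.1 s hs
  obtain ⟨y, rfl⟩ : ∃ y, ap D y = x := ⟨ap D⁻¹ x, ap_ap_inv D x⟩
  rw [ap_mul, ap_mul, ap_inv_ap] at h2
  have h3 : ap (up 1) y = y := by
    have h4 := congrArg (ap D⁻¹) h2
    rwa [ap_inv_ap, ap_inv_ap] at h4
  have h4 := congrFun h3 0
  rw [ap_zero', up_00, up_01, one_mul, one_mul] at h4
  have h5 : y 1 = 0 := left_eq_add.1 h4.symm
  rw [M.e_mem_line]
  refine ⟨y 0, ?_⟩
  rw [← hD, ← ap_smul]
  congr 1
  apply ext2
  · simp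
  · rw [h5]; simp

theorem act_pow {g : G} (hg : g ∈ N) {w : Fin 2 → F} {γ : F}
    (hl : ∀ (c : F) x, M.act g (c • x) = c • M.act g x) (hw : M.act g w = γ • w) (n : ℕ) :
    M.act (g ^ n) w = γ ^ n • w := by
  induction n with
  | zero => rw [pow_zero, pow_zero, M.act_one, one_smul]
  | succ n ih => rw [pow_succ', M.act_mul hg (pow_mem hg n), ih, hl, hw, smul_smul, ← pow_succ]

/-- the torus element -/
theorem exists_torus {w : Fin 2 → F} (hw : w ≠ 0) {c : F} (hc : c ≠ 0) :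
    ∃ l : G, ∃ B : Matrix.SpecialLinearGroup (Fin 2) F, M.Ind l B ∧ ap B w = c • w := by
  obtain ⟨D, hD⟩ := exists_ap_e hw
  obtain ⟨l, hl⟩ := M.lift (D * dg c hc * D⁻¹)
  refine ⟨l, _, hl, ?_⟩
  rw [← hD, ap_mul, ap_mul, ap_inv_ap, ← ap_smul]
  congr 1
  apply ext2
  · rw [ap_zero']; simp
  · rw [ap_one']; simp

/-- a 2-subgroup of `N_G(V) ∩ N_G(R)` normalised by `N_G(V) ∩ N_G(R)` induces transvections with axis `R` only -/
theorem lin_of_torus [Finite G] [Finite F] [CharP F 2] {w : Fin 2 → F} (hw : w ≠ 0) {Q : Subgroup G}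
    (hQV : Q ≤ N) (hQw : Q ≤ normalizer ((M.line w : Subgroup G) : Set G)) (hQ : IsPGroup 2 Q)
    (hQn : ∀ g ∈ N, g ∈ normalizer ((M.line w : Subgroup G) : Set G) → ∀ x ∈ Q, g * x * g⁻¹ ∈ Q) :
    Q ≤ M.UW w := by
  intro x hx
  have hxV := hQV hx
  have hmul : ∀ g ∈ N, g ∈ normalizer ((M.line w : Subgroup G) : Set G) →
      ∃ c : F, c ≠ 0 ∧ M.act g w = c • w := by
    intro g hg hgw
    rw [← cj_eq_iff, M.cj_line hg, M.line_eq_iff (M.act_ne_zero hg hw)] at hgw
    obtain ⟨c, hc⟩ := hgw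
    refine ⟨c, ?_, hc⟩
    rintro rfl
    rw [zero_smul] at hc
    exact M.act_ne_zero hg hw hc
  obtain ⟨s, hs⟩ := M.exists_semi hxV
  obtain ⟨s', hs'⟩ := M.exists_semi (inv_mem hxV)
  obtain ⟨α, hα0, hα⟩ := hmul x hxV (hQw hx)
  obtain ⟨β, hβ0, hβ⟩ := hmul x⁻¹ (inv_mem hxV) (inv_mem (hQw hx))
  have hαβ : s β * α = 1 := by
    have h1 := M.act_act_inv hxV w
    rw [hβ, hs, hα, smul_smul] at h1
    exact smul_left_injective F hw (by simpa using h1)
  have hss : ∀ c, s (s' c) = c := by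
    intro c
    have h1 := M.act_act_inv hxV (c • w)
    rw [hs', hs, M.act_act_inv hxV] at h1
    exact smul_left_injective F hw h1
  -- the field automorphism is trivial
  have hs1 : ∀ c, s c = c := by
    intro c
    by_cases hc : c = 0
    · rw [hc, map_zero]
    obtain ⟨l, T, hl, hT⟩ := M.exists_torus hw hc
    have hlV : l ∈ N := M.mem_normalizer hl
    have hlw : l ∈ normalizer ((M.line w : Subgroup G) : Set G) := by
      rw [← cj_eq_iff, M.cj_line_of_ind hl, hT, M.line_smul hc]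
    have hlact : ∀ y, M.act l y = ap T y := M.act_of_ind hl
    have hlinv : ∀ (d : F) y, M.act l⁻¹ (d • y) = d • M.act l⁻¹ y := by
      intro d y
      obtain ⟨z, rfl⟩ : ∃ z, M.act l z = y := ⟨M.act l⁻¹ y, M.act_act_inv hlV y⟩
      rw [M.act_inv_act hlV, hlact, ← ap_smul, ← hlact, M.act_inv_act hlV]
    have hlw' : M.act l⁻¹ w = c⁻¹ • w := by
      have h1 : w = M.act l (c⁻¹ • w) := by
        rw [hlact, ap_smul, hT, smul_smul, inv_mul_cancel₀ hc, one_smul]
      nth_rewrite 1 [h1]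
      rw [M.act_inv_act hlV]
    set u := x * (l * x⁻¹ * l⁻¹) with hu
    have huQ : u ∈ Q := mul_mem hx (hQn l hlV hlw _ (inv_mem hx))
    have huV := hQV huQ
    have hact : ∀ y, M.act u y = M.act x (M.act l (M.act x⁻¹ (M.act l⁻¹ y))) := by
      intro y
      rw [hu, M.act_mul hxV (mul_mem (mul_mem hlV (inv_mem hxV)) (inv_mem hlV)),
        M.act_mul (mul_mem hlV (inv_mem hxV)) (inv_mem hlV), M.act_mul hlV (inv_mem hxV)]
    have hulin : ∀ (d : F) y, M.act u (d • y) = d • M.act u y := by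
      intro d y
      rw [hact, hact, hlinv, hs', hlact, ap_smul, hs, hss, hlact]
    have huw : M.act u w = (s c * c⁻¹) • w := by
      rw [hact, hlw', hs', hβ, smul_smul, hlact, ap_smul, hT, smul_smul, hs, hα, smul_smul]
      congr 1
      rw [map_mul, map_mul, hss]
      calc c⁻¹ * s β * s c * α = (s β * α) * (s c * c⁻¹) := by ring
        _ = s c * c⁻¹ := by rw [hαβ, one_mul]
    obtain ⟨k, hk⟩ := hQ ⟨u, huQ⟩
    have hk' : u ^ 2 ^ k = 1 := congrArg Subtype.val hk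
    have h1 := M.act_pow huV hulin huw (2 ^ k)
    rw [hk', M.act_one] at h1
    have h2 : (s c * c⁻¹) ^ 2 ^ k = 1 := (smul_left_injective F hw (by simpa using h1)).symm
    have h3 := eq_one_of_pow h2
    rwa [mul_inv_eq_one₀ hc] at h3
  have hlin : ∀ (d : F) y, M.act x (d • y) = d • M.act x y := fun d y => by rw [hs, hs1]
  obtain ⟨k, hk⟩ := hQ ⟨x, hx⟩
  have hk' : x ^ 2 ^ k = 1 := congrArg Subtype.val hk
  have hα1 : α = 1 := by
    have h1 := M.act_pow hxV hlin hα (2 ^ k)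
    rw [hk', M.act_one] at h1
    exact eq_one_of_pow (smul_left_injective F hw (by simpa using h1)).symm
  rw [hα1, one_smul] at hα
  -- the determinant
  obtain ⟨D, hD⟩ := exists_ap_e hw
  set y := ap D ![0, 1] with hy
  have hwy : dt w y = 1 := by
    have h1 := det_eq D
    rw [← hD, hy]
    unfold dt
    rw [ap_zero', ap_zero', ap_one', ap_one']
    simp only [Matrix.cons_val_zero, Matrix.cons_val_one, mul_one, mul_zero, add_zero, zero_add]
    rw [← h1]; ring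
  have hww : dt w w = 0 := by unfold dt; ring
  set δ := dt w (M.act x y) with hδ
  have hdt : ∀ z, dt w (M.act x z) = δ * dt w z := by
    intro z
    obtain ⟨a, b, rfl⟩ := exists_comb (by rw [hwy]; exact one_ne_zero : dt w y ≠ 0) z
    rw [M.act_add hxV, hlin, hlin, hα]
    simp only [dt_add, dt_smul, hww, hwy, ← hδ]
    ring
  have hdt' : ∀ (n : ℕ) z, dt w (M.act (x ^ n) z) = δ ^ n * dt w z := by
    intro n
    induction n with
    | zero => intro z; rw [pow_zero, pow_zero, M.act_one, one_mul]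
    | succ n ih =>
      intro z
      rw [pow_succ', M.act_mul hxV (pow_mem hxV n), hdt, ih, pow_succ']; ring
  have hδ1 : δ = 1 := by
    have h1 := hdt' (2 ^ k) y
    rw [hk', M.act_one, hwy, mul_one] at h1
    exact eq_one_of_pow h1.symm
  obtain ⟨B, hB⟩ := exists_of_fix hw (M.act x) (M.act_add hxV) hlin hα (fun z => by
    refine exists_smul_of_dt hw ?_
    have h1 := hdt z
    rw [hδ1, one_mul] at h1
    unfold dt at h1 ⊢
    rw [Pi.sub_apply, Pi.sub_apply]
    linear_combination h1)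
  exact ⟨B, by rw [← hB, hα], M.ind_of_act hxV hB⟩

end RMod

/-- **the bridge**: `V' ≤ Q` a mutual partner of `V`, `Q` a 2-group normalised by `N ∩ N_G(R)`, `R = V ∩ V'`: `Q`
induces on `V` exactly the transvections with axis `R`; in particular `C_V(Q) = R` and `[V, Q] ≤ R` -/
theorem bridge [Finite G] {F F' : Type*} [Field F] [Field F'] [Finite F] [Finite F'] [CharP F 2] [CharP F' 2]
    {V V' N N' : Subgroup G} (M : RMod F V N) (M' : RMod F' V' N') (h : RMutual V V' N N') {Q : Subgroup G} (hV'Q : V' ≤ Q)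
    (hQV : Q ≤ N) (hQR : Q ≤ normalizer ((V ⊓ V' : Subgroup G) : Set G)) (hQ : IsPGroup 2 Q)
    (hQn : ∀ g ∈ N, g ∈ normalizer ((V ⊓ V' : Subgroup G) : Set G) → ∀ x ∈ Q, g * x * g⁻¹ ∈ Q) :
    ∃ w, w ≠ 0 ∧ V ⊓ V' = M.line w ∧ Q ≤ M.UW w ∧ (∀ B, ap B w = w → ∃ x ∈ V', M.Ind x B) ∧
      centralizer (Q : Set G) ⊓ V = V ⊓ V' ∧ ∀ x ∈ Q, ∀ v ∈ V, x * v * x⁻¹ * v⁻¹ ∈ V ⊓ V' := by
  obtain ⟨-, w, w', hw, hw', hl, -⟩ := pair M M' h
  have hU : Q ≤ M.UW w := M.lin_of_torus hw.ne hQV (by rwa [← hl]) hQ (by rw [← hl]; exact hQn)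
  refine ⟨w, hw.ne, hl, hU, hw.full, ?_, ?_⟩
  · apply le_antisymm
    · rw [hl, ← hw.cent]
      exact inf_le_inf_right _ (centralizer_le hV'Q)
    · rw [hl]
      rintro _ ⟨c, rfl⟩
      refine mem_inf.2 ⟨mem_centralizer_iff.2 ?_, M.e_mem _⟩
      intro x hx
      obtain ⟨B, hB, hB'⟩ := hU hx
      rw [M.commute_e (hQV hx), M.act_of_ind hB', ap_smul, hB]
  · intro x hx v hv
    obtain ⟨B, hB, hB'⟩ := hU hx
    obtain ⟨b, hb, hb'⟩ := hw.full B hB
    have h1 : x * v * x⁻¹ = b * v * b⁻¹ := by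
      obtain ⟨y, rfl⟩ := (M.mem_iff v).1 hv
      rw [hB' y, hb' y]
    rw [h1, hl]
    exact hw.comm b hb v hv


end Cfsg.Agent.Omega.Mix
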