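import Cfsg.Agent.Mrg.Omega.Mix.RelPair
import Cfsg.Agent.Mrg.Omega.Mix.Pts
import Cfsg.Agent.Mrg.Omega.BTwo.Entry
import Cfsg.Agent.Mrg.Omega.BTwo.Str
import Cfsg.Agent.Lib.NormalAbelian

section


/-!
# TEXT MIX (1) (bb OMEGA #12374): the entry, relative version

`MixedN M₁ M₂ R`: the mixed mutual pair in normal form, `Vᵢ` natural `SL₂`-modules relative to `Nᵢ ≤ N_G(Vᵢ)`,
`R` a line of both, a Sylow 2-subgroup `S ≤ N₁ ∩ N₂ ∩ N_G(R)` with `Ω₁Z(S) ≤ R`, `W₁`, `W₂` abelian, not commuting.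

* `MixedN.V_le_QQ` : `V₁ ≤ O₂(N_G(R))`; `MixedN.QQ_le` : `O₂(N_G(R)) ≤ UW w`;
* `MixedN.side` : `Side V₁ (points) (W₂ (R i)) (W₁ (R i))`;
* `MixedN.QB`, `MixedN.QC` : `[O₂(N_G(R i)), W_k (R i)] ≤ R i`;
* `MixedN.card_eq` : `|F₁| = |F₂|`; `MixedN.nl` : no 2-subgroup is normalised by `N₁`, `N₂`, `N_G(R)`;
* `MixedN.center` : `C_G(W₁ W₂) = R`;
* the side at `V₂` is the same for `m.symm`.
-/

set_option autoImplicit false
set_option linter.unusedSectionVars false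

namespace Cfsg.Agent.Omega.Mix

open Subgroup Cfsg.Agent.Lib.SL2Mat Cfsg.Agent.Omega.BTwo
open Cfsg.Agent.Omega.NatPair (dt dt_add dt_smul exists_smul_of_dt exists_comb ap ap_smul ap_add ap_zero' ap_one'
  ap_mul ap_inv_ap ap_ap_inv ap_one exists_ap exists_ap_e ap_up_e ext2)

variable {G : Type*} [Group G]

/-! ### Points -/

section points

variable {F : Type*} [Field F] {V N : Subgroup G} (M : RMod F V N)

theorem RMod.line_inf {w u : Fin 2 → F} (h1 : dt w u ≠ 0) : M.line w ⊓ M.line u = ⊥ := by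
  rw [eq_bot_iff]
  rintro _ ⟨⟨c, hc⟩, ⟨d, hd⟩⟩
  have h2 : c • w = d • u := M.e_inj (hc.trans hd.symm)
  have h3 : d = 0 := by
    have h4 := congrArg (dt w) h2
    rw [dt_smul, dt_smul, dt_self, mul_zero] at h4
    exact (mul_eq_zero.1 h4.symm).resolve_right h1
  rw [mem_bot, ← hd, h3, zero_smul, M.e_zero]

theorem RMod.pt_dt {i j : Pt M} (hij : i ≠ j) {w u : Fin 2 → F} (hw : w ≠ 0) (hu : u ≠ 0)
    (hi : i.1 = M.line w) (hj : j.1 = M.line u) : dt w u ≠ 0 := by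
  intro h1
  apply hij
  apply Subtype.ext
  rw [hi, hj, (line_eq_iff_dt M hw hu).2 h1]

theorem RMod.third (i j : Pt M) : ∃ k : Pt M, k ≠ i ∧ k ≠ j := by
  obtain ⟨_, w, hw, rfl⟩ := i
  obtain ⟨_, u, hu, rfl⟩ := j
  by_cases hwu : dt w u = 0
  · obtain ⟨x, hx⟩ := exists_dt hw
    refine ⟨⟨_, x, ne_zero_of_dt hx, rfl⟩, ?_, ?_⟩
    · intro h1
      exact hx ((line_eq_iff_dt M hw (ne_zero_of_dt hx)).1 (congrArg Subtype.val h1))
    · intro h1
      have h2 : M.line x = M.line u := congrArg Subtype.val h1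
      rw [(line_eq_iff_dt M hw hu).2 hwu, line_eq_iff_dt M hw (ne_zero_of_dt hx)] at h2
      exact hx h2
  · have h0 : w + u ≠ 0 := by
      intro h1
      apply hwu
      have h2 := congrArg (dt w) h1
      rw [dt_add, dt_self, zero_add] at h2
      rw [h2]
      unfold dt
      simp
    refine ⟨⟨_, w + u, h0, rfl⟩, ?_, ?_⟩
    · intro h1
      have h2 : M.line (w + u) = M.line w := congrArg Subtype.val h1
      rw [line_eq_iff_dt M hw h0, dt_add, dt_self, zero_add] at h2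
      exact hwu h2
    · intro h1
      have h2 : M.line (w + u) = M.line u := congrArg Subtype.val h1
      rw [line_eq_iff_dt M hu h0, dt_add, dt_self, add_zero] at h2
      apply hwu
      have h3 : dt w u = - dt u w := by unfold dt; ring
      rw [h3, h2, neg_zero]

theorem RMod.pt_ne (i : Pt M) : pt M i ≠ ⊥ := by
  obtain ⟨_, w, hw, rfl⟩ := i
  intro h1
  have h2 : M.e w ∈ M.line w := ⟨1, by rw [one_smul]⟩
  have h3 : M.line w = ⊥ := h1
  rw [h3, mem_bot, M.e_eq_one] at h2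
  exact hw h2

theorem RMod.pt_le (i : Pt M) : pt M i ≤ V := by
  obtain ⟨_, w, hw, rfl⟩ := i
  exact M.line_le w

/-! ### Transvections -/

theorem RMod.UW_cent {w : Fin 2 → F} {x r : G} (hx : x ∈ M.UW w) (hr : r ∈ M.line w) : x * r = r * x := by
  obtain ⟨B, hB, hB'⟩ := hx
  obtain ⟨c, rfl⟩ := hr
  rw [← mul_inv_eq_iff_eq_mul, hB', ap_smul, hB]

theorem fix_sub' {B : Matrix.SpecialLinearGroup (Fin 2) F} {w : Fin 2 → F} (hw : w ≠ 0) (hB : ap B w = w)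
    (u : Fin 2 → F) : ∃ c : F, ap B u - u = c • w := by
  have h1 : dt w (ap B u - u) = 0 := by
    have h2 : dt (ap B w) (ap B u) = dt w u := by
      unfold dt
      rw [ap_zero', ap_zero', ap_one', ap_one']
      linear_combination (w 0 * u 1 - w 1 * u 0) * det_eq B
    rw [hB] at h2
    unfold dt at h2 ⊢
    rw [Pi.sub_apply, Pi.sub_apply]
    linear_combination h2
  exact exists_smul_of_dt hw h1

theorem RMod.UW_comm {w : Fin 2 → F} (hw : w ≠ 0) {x v : G} (hx : x ∈ M.UW w) (hv : v ∈ V) :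
    x * v * x⁻¹ * v⁻¹ ∈ M.line w := by
  obtain ⟨B, hB, hB'⟩ := hx
  obtain ⟨y, rfl⟩ := (M.mem_iff v).1 hv
  rw [hB', ← M.e_sub]
  obtain ⟨c, hc⟩ := fix_sub' hw hB y
  rw [hc]
  exact ⟨c, rfl⟩

/-- a transvection with centre `w` which fixes another point is trivial on `V` -/
theorem RMod.UW_free {w u : Fin 2 → F} (hw : w ≠ 0) (hwu : dt w u ≠ 0) {x : G} (hx : x ∈ M.UW w)
    (hfix : cj x (M.line u) = M.line u) : ∀ v ∈ V, x * v = v * x := by
  obtain ⟨B, hB, hB'⟩ := hx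
  have h1 : M.line (ap B u) = M.line u := by
    rw [← M.cj_line_of_ind hB' u]
    exact hfix
  have hu := ne_zero_of_dt hwu
  have h2 : M.e (ap B u) ∈ M.line u := by
    rw [← h1]
    exact ⟨1, by rw [one_smul]⟩
  obtain ⟨c, hc⟩ := M.e_mem_line.1 h2
  obtain ⟨d, hd⟩ := fix_sub' hw hB u
  have h3 : dt w (ap B u - u) = 0 := by rw [hd, dt_smul, dt_self, mul_zero]
  have h4 : c = 1 := by
    rw [hc] at h3
    have h5 : dt w (c • u - u) = (c - 1) * dt w u := by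
      unfold dt
      simp only [Pi.sub_apply, Pi.smul_apply, smul_eq_mul]
      ring
    rw [h5] at h3
    exact sub_eq_zero.1 ((mul_eq_zero.1 h3).resolve_right hwu)
  rw [h4, one_smul] at hc
  intro v hv
  obtain ⟨y, rfl⟩ := (M.mem_iff v).1 hv
  obtain ⟨α, β, rfl⟩ := exists_comb hwu y
  rw [← mul_inv_eq_iff_eq_mul, hB', ap_add, ap_smul, ap_smul, hB, hc]

/-- `A` induces all transvections with centre `w` -/
def RMod.Full (A : Subgroup G) (w : Fin 2 → F) : Prop := ∀ B, ap B w = w → ∃ a ∈ A, M.Ind a B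

theorem RMod.Full.move {M : RMod F V N} {A : Subgroup G} {w : Fin 2 → F} (h : M.Full A w) {u u' : Fin 2 → F}
    (hu : dt w u ≠ 0) (hu' : dt w u' ≠ 0) : ∃ a ∈ A, cj a (M.line u) = M.line u' := by
  obtain ⟨B, hB, c, hc, hBu⟩ := exists_move hu hu'
  obtain ⟨a, ha, haB⟩ := h B hB
  refine ⟨a, ha, ?_⟩
  have h1 := M.cj_line_of_ind haB u
  rw [hBu, M.line_smul hc] at h1
  exact h1

theorem RMod.Full.cent {M : RMod F V N} {A : Subgroup G} {w : Fin 2 → F} (hw : w ≠ 0) (h : M.Full A w) {v : G}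
    (hv : v ∈ V) (hc : ∀ a ∈ A, a * v = v * a) : v ∈ M.line w := by
  obtain ⟨x, rfl⟩ := (M.mem_iff v).1 hv
  obtain ⟨D, hD⟩ := exists_ap_e hw
  have h1 : ap (D * up 1 * D⁻¹) w = w := by
    rw [← hD, ap_mul, ap_mul, ap_inv_ap, ap_up_e]
  obtain ⟨s, hs, hsB⟩ := h _ h1
  have h2 : ap (D * up 1 * D⁻¹) x = x := by
    apply M.e_inj
    rw [← hsB, mul_inv_eq_iff_eq_mul]
    exact hc s hs
  obtain ⟨y, rfl⟩ : ∃ y, ap D y = x := ⟨ap D⁻¹ x, ap_ap_inv D x⟩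
  rw [ap_mul, ap_mul, ap_inv_ap] at h2
  have h3 : ap (up 1) y = y := by
    have h4 := congrArg (ap D⁻¹) h2
    rwa [ap_inv_ap, ap_inv_ap] at h4
  have h4 := congrFun h3 0
  rw [ap_zero', up_00, up_01, one_mul, one_mul] at h4
  have h5 : y 1 = 0 := left_eq_add.1 h4.symm
  rw [M.e_mem_line]
  refine ⟨y 0, ?_⟩
  rw [← hD, ← ap_smul]
  congr 1
  apply ext2
  · simp
  · rw [h5]; simp

theorem RMod.Full.mono {M : RMod F V N} {A A' : Subgroup G} {w : Fin 2 → F} (h : M.Full A w) (hA : A ≤ A') :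
    M.Full A' w := fun B hB => by
  obtain ⟨a, ha, haB⟩ := h B hB
  exact ⟨a, hA ha, haB⟩

theorem RMod.Full.smul {M : RMod F V N} {A : Subgroup G} {w : Fin 2 → F} (h : M.Full A w) {c : F} (hc : c ≠ 0) :
    M.Full A (c • w) := fun B hB => by
  refine h B ?_
  rw [ap_smul] at hB
  have := congrArg (fun z => c⁻¹ • z) hB
  simpa [smul_smul, inv_mul_cancel₀ hc] using this

end points

/-! ### A general lemma: stabilisers of `O₂(N(R)) ≥ R ≥ 1` -/

theorem stab_le [Finite G] {R : Subgroup G} (hR : R ≤ QQ R)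
    (hc : Char2 (normalizer (R : Set G))) {x : G}
    (hx : x ∈ normalizer (R : Set G)) (h1 : ∀ r ∈ R, x * r = r * x)
    (h2 : ∀ y ∈ QQ R, x * y * x⁻¹ * y⁻¹ ∈ R) : x ∈ QQ R := by
  let T : Subgroup G :=
    { carrier := {x | x ∈ normalizer (R : Set G) ∧ (∀ r ∈ R, x * r = r * x) ∧ ∀ y ∈ QQ R, x * y * x⁻¹ * y⁻¹ ∈ R}
      one_mem' := ⟨one_mem _, fun r _ => by rw [one_mul, mul_one], fun y _ => by
        have : 1 * y * 1⁻¹ * y⁻¹ = 1 := by group
        rw [this]; exact one_mem _⟩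
      mul_mem' := by
        rintro a b ⟨ha, ha1, ha2⟩ ⟨hb, hb1, hb2⟩
        refine ⟨mul_mem ha hb, fun r hr => ?_, fun y hy => ?_⟩
        · rw [mul_assoc, hb1 r hr, ← mul_assoc, ha1 r hr, mul_assoc]
        · have e : a * b * y * (a * b)⁻¹ * y⁻¹ = a * (b * y * b⁻¹ * y⁻¹) * a⁻¹ * (a * y * a⁻¹ * y⁻¹) := by group
          rw [e]
          exact mul_mem (conj_mem_of_normalizer ha (hb2 y hy)) (ha2 y hy)
      inv_mem' := by
        rintro a ⟨ha, ha1, ha2⟩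
        refine ⟨inv_mem ha, fun r hr => ?_, fun y hy => ?_⟩
        · rw [inv_mul_eq_iff_eq_mul, ← mul_assoc, ha1 r hr, mul_inv_cancel_right]
        · have e : a⁻¹ * y * a⁻¹⁻¹ * y⁻¹ = a⁻¹ * (a * y * a⁻¹ * y⁻¹)⁻¹ * a := by group
          rw [e]
          exact conj_inv_mem_of_normalizer ha (inv_mem (ha2 y hy)) }
  have hT : IsPGroup 2 T := by
    refine isPGroup_of_odd fun c hcT ho => ?_
    obtain ⟨hc1, hc2, hc3⟩ := hcT
    have hcQ : c ∈ QQ R := by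
      refine hc c hc1 fun y hy => ?_
      exact comm_of_odd ho ((O2_isPGroup _).to_le hR) (hc3 y hy) (hc2 _ (hc3 y hy))
    obtain ⟨n, hn⟩ := O2_isPGroup (normalizer (R : Set G)) ⟨c, hcQ⟩
    have hn' : c ^ 2 ^ n = 1 := congrArg Subtype.val hn
    have hco : Nat.Coprime (orderOf c) (2 ^ n) := (Nat.coprime_two_right.2 ho).pow_right n
    exact orderOf_eq_one_iff.1 (Nat.eq_one_of_dvd_coprimes hco dvd_rfl (orderOf_dvd_of_pow_eq_one hn'))
  have hTN : T ≤ normalizer (R : Set G) := fun y hy => hy.1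
  refine le_O2_of_normal hTN hT ?_ (show x ∈ T from ⟨hx, h1, h2⟩)
  rintro g hg a ⟨ha, ha1, ha2⟩
  refine ⟨mul_mem (mul_mem hg ha) (inv_mem hg), fun r hr => ?_, fun y hy => ?_⟩
  · have h3 := ha1 _ (conj_inv_mem_of_normalizer hg hr)
    calc g * a * g⁻¹ * r = g * (a * (g⁻¹ * r * g)) * g⁻¹ := by group
      _ = g * (g⁻¹ * r * g * a) * g⁻¹ := by rw [h3]
      _ = r * (g * a * g⁻¹) := by group
  · have h3 := ha2 _ (conj_inv_mem_of_normalizer (le_normalizer_O2 _ hg) hy)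
    have h4 := conj_mem_of_normalizer hg h3
    have e : g * (a * (g⁻¹ * y * g) * a⁻¹ * (g⁻¹ * y * g)⁻¹) * g⁻¹ = g * a * g⁻¹ * y * (g * a * g⁻¹)⁻¹ * y⁻¹ := by
      group
    rwa [e] at h4


theorem cj_QQ (g : G) (R : Subgroup G) : cj g (QQ R) = QQ (cj g R) := by
  unfold QQ
  rw [normalizer_cj, cj_O2]

theorem LL_conj (l : G) (V R r : Subgroup G) : LL (cj l V) (cj l R) r = LL V R r := by
  apply le_antisymm
  · refine LL_le fun g hg => ?_
    rw [← cj_mul] at hg ⊢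
    exact cj_le_LL hg
  · refine LL_le fun g hg => ?_
    have h1 : cj (g * l⁻¹) (cj l R) = r := by rw [← cj_mul, inv_mul_cancel_right, hg]
    have h2 := cj_le_LL (V := cj l V) h1
    rwa [← cj_mul, inv_mul_cancel_right] at h2

theorem exists_central [Finite G] {S : Sylow 2 G} {K : Subgroup G} (hK : IsPGroup 2 K)
    (hn : (S : Subgroup G) ≤ normalizer (K : Set G)) (hne : K ≠ ⊥) :
    ∃ z ∈ K, z ∈ (S : Subgroup G) ∧ z ≠ 1 ∧ z * z = 1 ∧ ∀ s ∈ (S : Subgroup G), s * z = z * s := by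
  have : Fact (Nat.Prime 2) := ⟨Nat.prime_two⟩
  have hKS : K ≤ (S : Subgroup G) := by
    have h1 : IsPGroup 2 ((S : Subgroup G) ⊔ K : Subgroup G) := S.isPGroup'.to_sup_of_normal_right' hK hn
    have h2 := S.is_maximal' h1 le_sup_left
    exact le_sup_right.trans_eq h2
  have hnil : Group.IsNilpotent (S : Subgroup G) := S.isPGroup'.isNilpotent
  have hnK : (K.subgroupOf (S : Subgroup G)).Normal := (normal_subgroupOf_iff_le_normalizer hKS).2 hn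
  have hneK : K.subgroupOf (S : Subgroup G) ≠ ⊥ := by
    intro h
    apply hne
    rw [subgroupOf_eq_bot] at h
    exact h.eq_bot_of_le hKS
  have h := Cfsg.Agent.Lib.NormalAbelian.normal_inf_center_ne_bot _ hneK
  obtain ⟨⟨z, hzS⟩, hz, hz1⟩ := (bot_or_exists_ne_one _).resolve_left h
  have hzK : z ∈ K := mem_subgroupOf.1 hz.1
  have hzc : ∀ s ∈ (S : Subgroup G), s * z = z * s := fun s hs =>
    congrArg Subtype.val (mem_center_iff.1 hz.2 ⟨s, hs⟩)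
  have hz1' : z ≠ 1 := fun h => hz1 (Subtype.ext h)
  obtain ⟨n, hn⟩ := S.isPGroup' ⟨z, hzS⟩
  have hn' : z ^ 2 ^ n = 1 := congrArg Subtype.val hn
  obtain ⟨k, hk⟩ := (Nat.dvd_prime_pow Nat.prime_two).1 (orderOf_dvd_of_pow_eq_one hn')
  obtain ⟨hk1, hk2⟩ := hk
  have hk0 : k ≠ 0 := by
    rintro rfl
    rw [pow_zero, orderOf_eq_one_iff] at hk2
    exact hz1' hk2
  obtain ⟨j, rfl⟩ := Nat.exists_eq_succ_of_ne_zero hk0
  refine ⟨z ^ 2 ^ j, pow_mem hzK _, pow_mem hzS _, ?_, ?_, ?_⟩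
  · intro h1
    have h2 := orderOf_dvd_of_pow_eq_one h1
    rw [hk2] at h2
    have := Nat.le_of_dvd (by positivity) h2
    exact absurd this (by
      rw [not_le]
      exact Nat.pow_lt_pow_right (by norm_num) (Nat.lt_succ_self j))
  · rw [← pow_add, ← two_mul, ← pow_succ', ← hk2, pow_orderOf_eq_one]
  · intro s hs
    exact ((show Commute s z from hzc s hs).pow_right _).eq

/-! ### The entry -/

/-- the facts at a point `r` of `V₁` -/
structure PF {F₁ : Type*} [Field F₁] {V₁ N₁ : Subgroup G} (M₁ : RMod F₁ V₁ N₁) (V₂ R r : Subgroup G) : Prop where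
  V_C : V₁ ≤ LL V₁ R r
  R_B : r ≤ LL V₂ R r
  B_comm : ∀ a ∈ LL V₂ R r, ∀ b ∈ LL V₂ R r, a * b = b * a
  B_sq : ∀ a ∈ LL V₂ R r, a * a = 1
  C_comm : ∀ a ∈ LL V₁ R r, ∀ b ∈ LL V₁ R r, a * b = b * a
  C_sq : ∀ a ∈ LL V₁ R r, a * a = 1
  B_Q : LL V₂ R r ≤ QQ r
  C_Q : LL V₁ R r ≤ QQ r
  uw : ∃ w, w ≠ 0 ∧ r = M₁.line w ∧ QQ r ≤ M₁.UW w ∧ M₁.Full (LL V₂ R r) w
  QB : ∀ g ∈ QQ r, ∀ b ∈ LL V₂ R r, g * b * g⁻¹ * b⁻¹ ∈ r
  QC : ∀ g ∈ QQ r, ∀ b ∈ LL V₁ R r, g * b * g⁻¹ * b⁻¹ ∈ r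

theorem sq_of_comm_LL {V R r : Subgroup G} (h : ∀ a ∈ LL V R r, ∀ b ∈ LL V R r, a * b = b * a)
    (hV : ∀ v ∈ V, v * v = 1) : ∀ a ∈ LL V R r, a * a = 1 := by
  let D : Subgroup G :=
    { carrier := {a | a ∈ LL V R r ∧ a * a = 1}
      one_mem' := ⟨one_mem _, mul_one _⟩
      mul_mem' := by
        rintro a b ⟨ha, ha1⟩ ⟨hb, hb1⟩
        refine ⟨mul_mem ha hb, ?_⟩
        calc a * b * (a * b) = a * (b * a) * b := by group
          _ = a * (a * b) * b := by rw [h b hb a ha]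
          _ = (a * a) * (b * b) := by group
          _ = 1 := by rw [ha1, hb1, mul_one]
      inv_mem' := by
        rintro a ⟨ha, ha1⟩
        refine ⟨inv_mem ha, ?_⟩
        rw [← mul_inv_rev, ha1, inv_one] }
  have h1 : LL V R r ≤ D := by
    refine LL_le fun g hg => ?_
    intro x hx
    refine ⟨cj_le_LL hg hx, ?_⟩
    have h2 := hV _ (mem_cj.1 hx)
    calc x * x = g * (g⁻¹ * x * g * (g⁻¹ * x * g)) * g⁻¹ := by group
      _ = 1 := by rw [h2, mul_one, mul_inv_cancel]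
  exact fun a ha => (h1 ha).2

namespace MixedN

variable {F₁ F₂ : Type*} [Field F₁] [Field F₂] {V₁ V₂ N₁ N₂ : Subgroup G} {M₁ : RMod F₁ V₁ N₁}
  {M₂ : RMod F₂ V₂ N₂} {R : Subgroup G}

section base

variable (m : MixedN M₁ M₂ R)
include m

theorem RV : R ≤ V₁ := by
  obtain ⟨w, -, hR⟩ := m.line₁
  rw [hR]
  exact M₁.line_le w

theorem R_ne : R ≠ ⊥ := by
  obtain ⟨w, hw, hR⟩ := m.line₁
  exact M₁.pt_ne ⟨R, w, hw, hR⟩

variable [CharP F₁ 2]

theorem R_pGroup : IsPGroup 2 R := fun v => ⟨1, by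
  rw [pow_one, pow_two]
  exact Subtype.ext (M₁.sq (m.RV v.2))⟩

variable [Finite G]

theorem R_le_QQ : R ≤ QQ R :=
  le_O2_of_normal le_normalizer m.R_pGroup fun _ hg _ ha => conj_mem_of_normalizer hg ha

omit m [CharP F₁ 2] in
theorem QQ_le_sylow {S : Sylow 2 G} (hS : (S : Subgroup G) ≤ normalizer (R : Set G)) :
    QQ R ≤ (S : Subgroup G) := by
  have : Fact (Nat.Prime 2) := ⟨Nat.prime_two⟩
  have h3 : IsPGroup 2 ((S : Subgroup G) ⊔ QQ R : Subgroup G) :=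
    S.isPGroup'.to_sup_of_normal_right' (O2_isPGroup _) (hS.trans (le_normalizer_O2 _))
  have h4 := S.is_maximal' h3 le_sup_left
  exact le_sup_right.trans_eq h4

theorem QQ_le_N : QQ R ≤ N₁ := by
  obtain ⟨S, h1, -, h3, -⟩ := m.sylow
  exact (QQ_le_sylow h3).trans h1

variable [Finite F₁]

theorem QQ_le_UW {w : Fin 2 → F₁} (hw : w ≠ 0) (hR : R = M₁.line w) : QQ R ≤ M₁.UW w := by
  refine M₁.lin_of_torus hw m.QQ_le_N ?_ (O2_isPGroup _) ?_
  · rw [← hR]; exact O2_le _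
  · intro g _ hg x hx
    rw [← hR] at hg
    exact conj_mem_of_normalizer (le_normalizer_O2 _ hg) hx

/-- **(1)** `V₁ ≤ O₂(N_G(R))` -/
theorem V_le_QQ : V₁ ≤ QQ R := by
  obtain ⟨w, hw, hR⟩ := m.line₁
  intro v hv
  have hvR : ∀ r ∈ R, v * r = r * v := fun r hr => M₁.comm hv (m.RV hr)
  have hvR' : ∀ r ∈ R, v * r * v⁻¹ ∈ R := fun r hr => by
    rw [hvR r hr, mul_inv_cancel_right]; exact hr
  refine stab_le m.R_le_QQ (m.char R m.R_pGroup m.R_ne) (mem_normalizer_of_conj hvR') hvR ?_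
  intro y hy
  have h1 := M₁.UW_comm hw (m.QQ_le_UW hw hR hy) (inv_mem hv)
  rw [← hR] at h1
  have h2 := hvR' _ h1
  have e : v * (y * v⁻¹ * y⁻¹ * v⁻¹⁻¹) * v⁻¹ = v * y * v⁻¹ * y⁻¹ := by group
  rwa [e] at h2

theorem C_le_QQ : LL V₁ R R ≤ QQ R := by
  refine LL_le fun g hg => ?_
  intro x hx
  have h1 := conj_mem_of_normalizer (le_normalizer_O2 _ (cj_eq_self_iff.1 hg)) (m.V_le_QQ (mem_cj.1 hx))
  have e : g * (g⁻¹ * x * g) * g⁻¹ = x := by group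
  rwa [e] at h1

theorem QC {g b : G} (hg : g ∈ QQ R) (hb : b ∈ LL V₁ R R) : g * b * g⁻¹ * b⁻¹ ∈ R := by
  obtain ⟨w, hw, hR⟩ := m.line₁
  let D : Subgroup G :=
    { carrier := {a | a ∈ normalizer (R : Set G) ∧ ∀ x ∈ QQ R, x * a * x⁻¹ * a⁻¹ ∈ R}
      one_mem' := ⟨one_mem _, fun x _ => by
        have : x * 1 * x⁻¹ * 1⁻¹ = 1 := by group
        rw [this]; exact one_mem _⟩
      mul_mem' := by
        rintro a b ⟨ha, ha1⟩ ⟨hb, hb1⟩
        refine ⟨mul_mem ha hb, fun x hx => ?_⟩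
        have e : x * (a * b) * x⁻¹ * (a * b)⁻¹ = (x * a * x⁻¹ * a⁻¹) * (a * (x * b * x⁻¹ * b⁻¹) * a⁻¹) := by group
        rw [e]
        exact mul_mem (ha1 x hx) (conj_mem_of_normalizer ha (hb1 x hx))
      inv_mem' := by
        rintro a ⟨ha, ha1⟩
        refine ⟨inv_mem ha, fun x hx => ?_⟩
        have e : x * a⁻¹ * x⁻¹ * a⁻¹⁻¹ = a⁻¹ * (x * a * x⁻¹ * a⁻¹)⁻¹ * a := by group
        rw [e]
        exact conj_inv_mem_of_normalizer ha (inv_mem (ha1 x hx)) }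
  have h1 : LL V₁ R R ≤ D := by
    refine LL_le fun h hh => ?_
    have hhR := cj_eq_self_iff.1 hh
    intro a ha
    refine ⟨O2_le _ (m.C_le_QQ (cj_le_LL hh ha)), fun x hx => ?_⟩
    have h2 := M₁.UW_comm hw (m.QQ_le_UW hw hR (conj_inv_mem_of_normalizer (le_normalizer_O2 _ hhR) hx))
      (mem_cj.1 ha)
    rw [← hR] at h2
    have h3 := conj_mem_of_normalizer hhR h2
    have e : h * (h⁻¹ * x * h * (h⁻¹ * a * h) * (h⁻¹ * x * h)⁻¹ * (h⁻¹ * a * h)⁻¹) * h⁻¹ = x * a * x⁻¹ * a⁻¹ := by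
      group
    rwa [e] at h3
  exact (h1 hb).2 g hg

end base

section both

variable [Finite G] [Finite F₁] [Finite F₂] [CharP F₁ 2] [CharP F₂ 2] (m : MixedN M₁ M₂ R)
include m

/-- a mutual partner of `V₁` of type 2 on `R` -/
theorem exists_partner : ∃ g ∈ normalizer (R : Set G), RMutual V₁ (cj g V₂) N₁ (cj g N₂) := by
  by_contra hcon
  have key : ∀ g ∈ normalizer (R : Set G), ∀ v ∈ V₁, ∀ w ∈ cj g V₂, v * w = w * v := by
    intro g hg v hv w hw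
    by_contra hvw
    refine hcon ⟨g, hg, ?_, ?_, v, hv, w, hw, hvw⟩
    · exact (cj_le_LL (cj_eq_self_iff.2 hg)).trans (m.symm.C_le_QQ.trans m.QQ_le_N)
    · have h1 := cj_mono (g := g) m.symm.QQ_le_N
      rw [cj_QQ, cj_eq_self_iff.2 hg] at h1
      exact m.V_le_QQ.trans h1
  obtain ⟨a, ha, b, hb, hab⟩ := m.ne
  apply hab
  have h1 : LL V₂ R R ≤ centralizer (V₁ : Set G) := by
    refine LL_le fun g hg => ?_
    intro w hw
    rw [mem_centralizer_iff]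
    exact fun v hv => key g (cj_eq_self_iff.1 hg) v hv w hw
  have h2 : LL V₁ R R ≤ centralizer (LL V₂ R R : Set G) := by
    refine LL_le fun g hg => ?_
    intro x hx
    rw [mem_centralizer_iff]
    intro y hy
    have h3 : g⁻¹ * y * g ∈ LL V₂ R R :=
      conj_inv_mem_of_normalizer (normalizer_le_LL V₂ R R (cj_eq_self_iff.1 hg)) hy
    have h4 := mem_centralizer_iff.1 (h1 h3) _ (mem_cj.1 hx)
    calc y * x = g * (g⁻¹ * y * g * (g⁻¹ * x * g)) * g⁻¹ := by group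
      _ = g * (g⁻¹ * x * g * (g⁻¹ * y * g)) * g⁻¹ := by rw [h4]
      _ = x * y := by group
  exact (mem_centralizer_iff.1 (h2 ha) b hb).symm

/-- `|F₁| = |F₂|` -/
theorem card_eq : Nat.card F₁ = Nat.card F₂ := by
  obtain ⟨g, hg, h⟩ := m.exists_partner
  exact (pair M₁ (M₂.conj g) h).1

/-- `W₂(R)` induces the full root group on `V₁` -/
theorem full {w : Fin 2 → F₁} (hw : w ≠ 0) (hR : R = M₁.line w) : M₁.Full (LL V₂ R R) w := by
  obtain ⟨g, hg, h⟩ := m.exists_partner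
  obtain ⟨-, w₁, w', hq, hq', hl, -⟩ := pair M₁ (M₂.conj g) h
  have h1 : R = M₁.line w₁ := by
    refine Subgroup.eq_of_le_of_card_ge ?_ ?_
    · rw [← hl]
      refine le_inf m.RV ?_
      have h2 := cj_mono (g := g) m.symm.RV
      rwa [cj_eq_self_iff.2 hg] at h2
    · rw [M₁.card_line hq.ne, hR, M₁.card_line hw]
  have h2 : M₁.line w = M₁.line w₁ := by rw [← hR, h1]
  obtain ⟨c, hc⟩ := (M₁.line_eq_iff hw).1 h2
  have hc0 : c ≠ 0 := by
    rintro rfl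
    rw [zero_smul] at hc
    exact hw hc
  have h3 : M₁.Full (cj g V₂) w₁ := hq.full
  rw [hc]
  exact (h3.mono (cj_le_LL (cj_eq_self_iff.2 hg))).smul hc0

theorem facts : PF M₁ V₂ R R where
  V_C := V_le_LL V₁ R
  R_B := m.symm.RV.trans (V_le_LL V₂ R)
  B_comm := m.comm₂
  B_sq := sq_of_comm_LL m.comm₂ fun _ hv => M₂.sq hv
  C_comm := m.comm₁
  C_sq := sq_of_comm_LL m.comm₁ fun _ hv => M₁.sq hv
  B_Q := m.symm.C_le_QQ
  C_Q := m.C_le_QQ
  uw := by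
    obtain ⟨w, hw, hR⟩ := m.line₁
    exact ⟨w, hw, hR, m.QQ_le_UW hw hR, m.full hw hR⟩
  QB := fun _ hg _ hb => m.symm.QC hg hb
  QC := fun _ hg _ hb => m.QC hg hb

/-- transport by an element of `N₁` -/
theorem move {l : G} (hl : l ∈ N₁) : MixedN M₁ (M₂.conj l) (cj l R) := by
  have hV : cj l V₁ = V₁ := cj_eq_self_iff.2 (M₁.le hl)
  have hL₁ : LL V₁ (cj l R) (cj l R) = cj l (LL V₁ R R) := by
    rw [cj_LL (rfl : cj l R = cj l R)]
    have := LL_conj l V₁ R (cj l R)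
    rwa [hV] at this
  have hL₂ : LL (cj l V₂) (cj l R) (cj l R) = cj l (LL V₂ R R) := by
    rw [cj_LL (rfl : cj l R = cj l R)]
    exact LL_conj l V₂ R (cj l R)
  refine ⟨?_, ?_, ?_, m.char, ?_, ?_, ?_⟩
  · obtain ⟨w, hw, hR⟩ := m.line₁
    refine ⟨M₁.act l w, M₁.act_ne_zero hl hw, ?_⟩
    rw [hR]
    exact M₁.cj_line hl w
  · obtain ⟨w, hw, hR⟩ := m.line₂
    refine ⟨w, hw, ?_⟩
    rw [hR]
    exact (M₂.conj_line l w).symm
  · obtain ⟨S, h1, h2, h3, h4⟩ := m.sylow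
    have hS : ((l • S : Sylow 2 G) : Subgroup G) = cj l (S : Subgroup G) := by
      rw [Sylow.coe_subgroup_smul]
      rfl
    refine ⟨l • S, ?_, ?_, ?_, ?_⟩
    · rw [hS]
      have h5 := cj_mono (g := l) h1
      rwa [cj_of_mem hl] at h5
    · rw [hS]
      exact cj_mono h2
    · rw [hS, normalizer_cj]
      exact cj_mono h3
    · intro z hz hzz hzc
      have hz' : z ∈ cj l (S : Subgroup G) := by rw [← hS]; exact hz
      rw [mem_cj]
      apply h4 _ (mem_cj.1 hz')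
      · calc l⁻¹ * z * l * (l⁻¹ * z * l) = l⁻¹ * (z * z) * l := by group
          _ = 1 := by rw [hzz, mul_one, inv_mul_cancel]
      · intro s hs
        have h5 := hzc (l * s * l⁻¹) (by
          show l * s * l⁻¹ ∈ ((l • S : Sylow 2 G) : Subgroup G)
          rw [hS]; exact conj_mem_cj hs)
        calc s * (l⁻¹ * z * l) = l⁻¹ * (l * s * l⁻¹ * z) * l := by group
          _ = l⁻¹ * (z * (l * s * l⁻¹)) * l := by rw [h5]
          _ = l⁻¹ * z * l * s := by group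
  · rw [hL₁]
    intro a ha b hb
    have h5 := m.comm₁ _ (mem_cj.1 ha) _ (mem_cj.1 hb)
    calc a * b = l * (l⁻¹ * a * l * (l⁻¹ * b * l)) * l⁻¹ := by group
      _ = l * (l⁻¹ * b * l * (l⁻¹ * a * l)) * l⁻¹ := by rw [h5]
      _ = b * a := by group
  · show ∀ a ∈ LL (cj l V₂) (cj l R) (cj l R), ∀ b ∈ LL (cj l V₂) (cj l R) (cj l R), a * b = b * a
    rw [hL₂]
    intro a ha b hb
    have h5 := m.comm₂ _ (mem_cj.1 ha) _ (mem_cj.1 hb)
    calc a * b = l * (l⁻¹ * a * l * (l⁻¹ * b * l)) * l⁻¹ := by group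
      _ = l * (l⁻¹ * b * l * (l⁻¹ * a * l)) * l⁻¹ := by rw [h5]
      _ = b * a := by group
  · show ∃ a ∈ LL V₁ (cj l R) (cj l R), ∃ b ∈ LL (cj l V₂) (cj l R) (cj l R), a * b ≠ b * a
    rw [hL₁, hL₂]
    obtain ⟨a, ha, b, hb, hab⟩ := m.ne
    refine ⟨l * a * l⁻¹, conj_mem_cj ha, l * b * l⁻¹, conj_mem_cj hb, fun h => hab ?_⟩
    have h5 : l * (a * b) * l⁻¹ = l * (b * a) * l⁻¹ := by
      calc l * (a * b) * l⁻¹ = l * a * l⁻¹ * (l * b * l⁻¹) := by group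
        _ = l * b * l⁻¹ * (l * a * l⁻¹) := h
        _ = l * (b * a) * l⁻¹ := by group
    exact mul_left_cancel (mul_right_cancel h5)

theorem exists_to (i : Pt M₁) : ∃ l ∈ N₁, cj l R = pt M₁ i := by
  obtain ⟨w, hw, hR⟩ := m.line₁
  obtain ⟨u, hu, hi⟩ := i.2
  obtain ⟨A, hA⟩ := exists_ap hw hu
  obtain ⟨l, hlA⟩ := M₁.lift A
  refine ⟨l, M₁.mem_normalizer hlA, ?_⟩
  show cj l R = i.1
  rw [hR, hi]
  have := M₁.cj_line_of_ind hlA w
  rw [hA] at this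
  exact this

theorem facts_at (i : Pt M₁) : PF M₁ V₂ R (pt M₁ i) := by
  obtain ⟨l, hl, hli⟩ := m.exists_to i
  have h := (m.move hl).facts
  have hV : cj l V₁ = V₁ := cj_eq_self_iff.2 (M₁.le hl)
  have hL₁ : LL V₁ (cj l R) (cj l R) = LL V₁ R (cj l R) := by
    have := LL_conj l V₁ R (cj l R)
    rwa [hV] at this
  have hL₂ : LL (cj l V₂) (cj l R) (cj l R) = LL V₂ R (cj l R) := LL_conj l V₂ R (cj l R)
  rw [← hli]
  exact
    { V_C := hL₁ ▸ h.V_C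
      R_B := hL₂ ▸ h.R_B
      B_comm := hL₂ ▸ h.B_comm
      B_sq := hL₂ ▸ h.B_sq
      C_comm := hL₁ ▸ h.C_comm
      C_sq := hL₁ ▸ h.C_sq
      B_Q := hL₂ ▸ h.B_Q
      C_Q := hL₁ ▸ h.C_Q
      uw := hL₂ ▸ h.uw
      QB := hL₂ ▸ h.QB
      QC := hL₁ ▸ h.QC }

/-- `[O₂(N(R i)), W₂(R i)] ≤ R i` -/
theorem QB_at (i : Pt M₁) : ∀ g ∈ QQ (pt M₁ i), ∀ b ∈ LL V₂ R (pt M₁ i), g * b * g⁻¹ * b⁻¹ ∈ pt M₁ i :=
  (m.facts_at i).QB

theorem QC_at (i : Pt M₁) : ∀ g ∈ QQ (pt M₁ i), ∀ b ∈ LL V₁ R (pt M₁ i), g * b * g⁻¹ * b⁻¹ ∈ pt M₁ i :=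
  (m.facts_at i).QC

/-- **the situation at `V₁`** -/
theorem side : SideM M₁ (fun i => LL V₂ R (pt M₁ i)) (fun i => LL V₁ R (pt M₁ i)) where
  third := M₁.third
  V_C := fun i => (m.facts_at i).V_C
  R_V := M₁.pt_le
  R_B := fun i => (m.facts_at i).R_B
  R_ne := M₁.pt_ne
  R_inf := by
    intro i j hij
    obtain ⟨w, hw, hi⟩ := i.2
    obtain ⟨u, hu, hj⟩ := j.2
    show i.1 ⊓ j.1 = ⊥
    have h1 := M₁.pt_dt hij hw hu hi hj
    rw [hi, hj]
    exact M₁.line_inf h1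
  B_comm := fun i => (m.facts_at i).B_comm
  B_sq := fun i => (m.facts_at i).B_sq
  C_comm := fun i => (m.facts_at i).C_comm
  C_sq := fun i => (m.facts_at i).C_sq
  CB := fun i c hc b hb => (m.facts_at i).QB c ((m.facts_at i).C_Q hc) b hb
  B_NV := by
    intro i
    obtain ⟨w, hw, hi, hU, -⟩ := (m.facts_at i).uw
    exact ((m.facts_at i).B_Q.trans (hU.trans (M₁.UW_le w))).trans M₁.le
  nB := fun i => normalizer_le_LL V₂ R (pt M₁ i)
  nC := fun i => normalizer_le_LL V₁ R (pt M₁ i)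
  perm := by
    intro i g hg j
    obtain ⟨w, hw, hi, hU, -⟩ := (m.facts_at i).uw
    exact M₁.cj_pt (((m.facts_at i).B_Q.trans (hU.trans (M₁.UW_le w))) hg) j
  cB := fun g i j h => cj_LL h
  cC := fun g i j h => cj_LL h
  trans := by
    intro i j k hj hk
    obtain ⟨w, hw, hi, -, hf⟩ := (m.facts_at i).uw
    obtain ⟨u, hu, hj'⟩ := j.2
    obtain ⟨u', hu', hk'⟩ := k.2
    have h1 := M₁.pt_dt hj.symm hw hu hi hj'
    have h2 := M₁.pt_dt hk.symm hw hu' hi hk'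
    obtain ⟨a, ha, hau⟩ := hf.move h1 h2
    refine ⟨a, ha, ?_⟩
    show cj a j.1 = k.1
    rw [hj', hk']
    exact hau
  free := by
    intro i j hj b hb hfix
    obtain ⟨w, hw, hi, hU, -⟩ := (m.facts_at i).uw
    obtain ⟨u, hu, hj'⟩ := j.2
    have h1 := M₁.pt_dt hj.symm hw hu hi hj'
    have h2 : cj b j.1 = j.1 := hfix
    rw [hj'] at h2
    exact M₁.UW_free hw h1 (hU ((m.facts_at i).B_Q hb)) h2
  fix := by
    intro K hK hKN i j hij hKi hKj
    by_contra hne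
    obtain ⟨S, h1, -, -, h4⟩ := m.sylow
    obtain ⟨z, hzK, hzS, hz1, hzz, hzc⟩ := exists_central hK ((h1.trans M₁.le_ST).trans hKN) hne
    have hzV : z ∈ V₁ := m.RV (h4 z hzS hzz hzc)
    obtain ⟨w, hw, hi, -, hf⟩ := (m.facts_at i).uw
    obtain ⟨u, hu, hj', -, hf'⟩ := (m.facts_at j).uw
    have h5 := hf.cent hw hzV (hKi z hzK)
    have h6 := hf'.cent hu hzV (hKj z hzK)
    have h7 : z ∈ M₁.line w ⊓ M₁.line u := ⟨h5, h6⟩
    rw [M₁.line_inf (M₁.pt_dt hij hw hu hi hj'), mem_bot] at h7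
    exact hz1 h7
  B_N := by
    intro i
    obtain ⟨w, hw, hi, hU, -⟩ := (m.facts_at i).uw
    exact (m.facts_at i).B_Q.trans (hU.trans (M₁.UW_le w))

/-- **(NL)** no 2-subgroup `≠ 1` is normalised by `N₁`, `N₂` and `N_G(R)` -/
theorem nl {K : Subgroup G} (hK : IsPGroup 2 K) (h₁ : N₁ ≤ normalizer (K : Set G))
    (h₂ : N₂ ≤ normalizer (K : Set G)) (hR : normalizer (R : Set G) ≤ normalizer (K : Set G)) : K = ⊥ := by
  by_contra hne
  have hch := m.char K hK hne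
  obtain ⟨S, hS1, hS2, -, hZ⟩ := m.sylow
  set Q := O2 (normalizer (K : Set G)) with hQ
  have hc : ∀ x ∈ normalizer (K : Set G), (∀ q ∈ Q, q * x = x * q) → x ∈ Q :=
    fun x hx h => hch x hx fun q hq => (h q hq).symm
  have k1 := M₁.le_center_of S hS1 (fun z hz hzz hzc => m.RV (hZ z hz hzz hzc)) h₁ (O2_le _) (O2_isPGroup _)
    (le_normalizer_O2 _) hc
  have k2 := M₂.le_center_of S hS2 (fun z hz hzz hzc => m.symm.RV (hZ z hz hzz hzc)) h₂ (O2_le _) (O2_isPGroup _)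
    (le_normalizer_O2 _) hc
  obtain ⟨g, hg, h⟩ := m.exists_partner
  obtain ⟨v, hv, w, hw, hvw⟩ := h.ne
  apply hvw
  have hw' := k2 _ (mem_cj.1 hw)
  have hvQ := (k1 v hv).1
  have h5 : g⁻¹ * v * g ∈ Q := conj_inv_mem_of_normalizer (le_normalizer_O2 _ (hR hg)) hvQ
  have h6 := hw'.2 _ h5
  calc v * w = g * (g⁻¹ * v * g * (g⁻¹ * w * g)) * g⁻¹ := by group
    _ = g * (g⁻¹ * w * g * (g⁻¹ * v * g)) * g⁻¹ := by rw [h6]
    _ = w * v := by group

/-- (NL) with the stabilisers of the point sets -/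
theorem nl_ST {K : Subgroup G} (hK : IsPGroup 2 K) (h₁ : ST V₁ (pt M₁) ≤ normalizer (K : Set G))
    (h₂ : ST V₂ (pt M₂) ≤ normalizer (K : Set G)) (hR : normalizer (R : Set G) ≤ normalizer (K : Set G)) : K = ⊥ :=
  m.nl hK (M₁.le_ST.trans h₁) (M₂.le_ST.trans h₂) hR

/-- `R` as a point of `V₁` -/
theorem exists_pt : ∃ i : Pt M₁, pt M₁ i = R := by
  obtain ⟨w, hw, hR⟩ := m.line₁
  exact ⟨⟨R, w, hw, hR⟩, rfl⟩

/-- **(3)-(5)** `C_G(W₁ W₂) = R`, at every point of `V₁` -/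
theorem center_at (k : Pt M₁) : YY (LL V₂ R (pt M₁ k)) (LL V₁ R (pt M₁ k)) = pt M₁ k := by
  obtain ⟨i, hi⟩ := m.exists_pt
  obtain ⟨j, hj⟩ := m.symm.exists_pt
  refine center_eq m.side.toSide m.symm.side.toSide (i := i) (j := j) (by rw [hi, hj]) ?_ ?_ ?_ ?_ m.QB_at k
  · show LL V₂ R (pt M₁ i) = LL V₂ R (pt M₂ j)
    rw [hi, hj]
  · show LL V₁ R (pt M₁ i) = LL V₁ R (pt M₂ j)
    rw [hi, hj]
  · rw [hi]
    exact m.char R m.R_pGroup m.R_ne
  · intro K hK h1 h2 h3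
    rw [hi] at h3
    exact m.nl_ST hK h1 h2 h3

/-- **(3)-(5)** `C_G(W₁ W₂) = R` -/
theorem center : centralizer ((LL V₁ R R ⊔ LL V₂ R R : Subgroup G) : Set G) = R := by
  obtain ⟨i, hi⟩ := m.exists_pt
  have h := m.center_at i
  rw [hi, YY, sup_comm] at h
  exact h

end both

end MixedN

end Cfsg.Agent.Omega.Mix

end

section


/-!
# `MixedW` : from the normal form of a mixed pair (without `Ω₁(Z(S)) ≤ R`) to `Z(S) ≤ R`, `|F| ≥ 4`

* `MixedW.atR` : `AtR M₁ V₂ R w`;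
* `MixedW.two` : `TwoW`;
* `MixedW.center_le` : `Z(S) ≤ R` (#13275), `MixedW.mixedN` : `Mix.MixedN` holds.

The first part is `Mix.Entry` (helper958) for `MixedW`.
-/

set_option autoImplicit false
set_option linter.unusedSectionVars false

namespace Cfsg.Agent.Omega.MixOne

open Subgroup Cfsg.Agent.Lib.SL2Mat Cfsg.Agent.Omega.BTwo Cfsg.Agent.Omega.Mix
open Cfsg.Agent.Omega.NatPair (dt dt_add dt_smul exists_smul_of_dt exists_comb ap ap_smul ap_add ap_zero' ap_one'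
  ap_mul ap_inv_ap ap_ap_inv ap_one exists_ap exists_ap_e ap_up_e ext2)

variable {G : Type*} [Group G]

theorem exists_ne_zero_one {F : Type*} [Field F] [Finite F] (h : 4 ≤ Nat.card F) : ∃ c : F, c ≠ 0 ∧ c ≠ 1 := by
  classical
  have : Fintype F := Fintype.ofFinite F
  rw [Nat.card_eq_fintype_card] at h
  by_contra hcon
  push Not at hcon
  have h1 : (Finset.univ : Finset F) ⊆ {0, 1} := by
    intro c _
    rw [Finset.mem_insert, Finset.mem_singleton]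
    by_cases hc : c = 0
    · exact Or.inl hc
    · exact Or.inr (hcon c hc)
  have h2 := (Finset.card_le_card h1).trans Finset.card_le_two
  rw [Finset.card_univ] at h2
  omega

namespace MixedW

variable {F₁ F₂ : Type*} [Field F₁] [Field F₂] {V₁ V₂ N₁ N₂ : Subgroup G} {M₁ : RMod F₁ V₁ N₁}
  {M₂ : RMod F₂ V₂ N₂} {R : Subgroup G}

section base

variable (m : MixedW M₁ M₂ R)
include m

theorem RV : R ≤ V₁ := by
  obtain ⟨w, -, hR⟩ := m.line₁
  rw [hR]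
  exact M₁.line_le w

theorem R_ne : R ≠ ⊥ := by
  obtain ⟨w, hw, hR⟩ := m.line₁
  exact M₁.pt_ne ⟨R, w, hw, hR⟩

variable [CharP F₁ 2]

theorem R_pGroup : IsPGroup 2 R := fun v => ⟨1, by
  rw [pow_one, pow_two]
  exact Subtype.ext (M₁.sq (m.RV v.2))⟩

variable [Finite G]

theorem R_le_QQ : R ≤ QQ R :=
  le_O2_of_normal le_normalizer m.R_pGroup fun _ hg _ ha => conj_mem_of_normalizer hg ha

omit m [CharP F₁ 2] in
theorem QQ_le_sylow {S : Sylow 2 G} (hS : (S : Subgroup G) ≤ normalizer (R : Set G)) :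
    QQ R ≤ (S : Subgroup G) := by
  have : Fact (Nat.Prime 2) := ⟨Nat.prime_two⟩
  have h3 : IsPGroup 2 ((S : Subgroup G) ⊔ QQ R : Subgroup G) :=
    S.isPGroup'.to_sup_of_normal_right' (O2_isPGroup _) (hS.trans (le_normalizer_O2 _))
  have h4 := S.is_maximal' h3 le_sup_left
  exact le_sup_right.trans_eq h4

theorem QQ_le_N : QQ R ≤ N₁ := by
  obtain ⟨S, h1, -, h3⟩ := m.sylow
  exact (QQ_le_sylow h3).trans h1

variable [Finite F₁]

theorem QQ_le_UW {w : Fin 2 → F₁} (hw : w ≠ 0) (hR : R = M₁.line w) : QQ R ≤ M₁.UW w := by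
  refine M₁.lin_of_torus hw m.QQ_le_N ?_ (O2_isPGroup _) ?_
  · rw [← hR]; exact O2_le _
  · intro g _ hg x hx
    rw [← hR] at hg
    exact conj_mem_of_normalizer (le_normalizer_O2 _ hg) hx

/-- **(1)** `V₁ ≤ O₂(N_G(R))` -/
theorem V_le_QQ : V₁ ≤ QQ R := by
  obtain ⟨w, hw, hR⟩ := m.line₁
  intro v hv
  have hvR : ∀ r ∈ R, v * r = r * v := fun r hr => M₁.comm hv (m.RV hr)
  have hvR' : ∀ r ∈ R, v * r * v⁻¹ ∈ R := fun r hr => by
    rw [hvR r hr, mul_inv_cancel_right]; exact hr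
  refine stab_le m.R_le_QQ (m.char R m.R_pGroup m.R_ne) (mem_normalizer_of_conj hvR') hvR ?_
  intro y hy
  have h1 := M₁.UW_comm hw (m.QQ_le_UW hw hR hy) (inv_mem hv)
  rw [← hR] at h1
  have h2 := hvR' _ h1
  have e : v * (y * v⁻¹ * y⁻¹ * v⁻¹⁻¹) * v⁻¹ = v * y * v⁻¹ * y⁻¹ := by group
  rwa [e] at h2

theorem C_le_QQ : LL V₁ R R ≤ QQ R := by
  refine Mix.LL_le fun g hg => ?_
  intro x hx
  have h1 := conj_mem_of_normalizer (le_normalizer_O2 _ (cj_eq_self_iff.1 hg)) (m.V_le_QQ (mem_cj.1 hx))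
  have e : g * (g⁻¹ * x * g) * g⁻¹ = x := by group
  rwa [e] at h1

theorem QC {g b : G} (hg : g ∈ QQ R) (hb : b ∈ LL V₁ R R) : g * b * g⁻¹ * b⁻¹ ∈ R := by
  obtain ⟨w, hw, hR⟩ := m.line₁
  let D : Subgroup G :=
    { carrier := {a | a ∈ normalizer (R : Set G) ∧ ∀ x ∈ QQ R, x * a * x⁻¹ * a⁻¹ ∈ R}
      one_mem' := ⟨one_mem _, fun x _ => by
        have : x * 1 * x⁻¹ * 1⁻¹ = 1 := by group
        rw [this]; exact one_mem _⟩
      mul_mem' := by
        rintro a b ⟨ha, ha1⟩ ⟨hb, hb1⟩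
        refine ⟨mul_mem ha hb, fun x hx => ?_⟩
        have e : x * (a * b) * x⁻¹ * (a * b)⁻¹ = (x * a * x⁻¹ * a⁻¹) * (a * (x * b * x⁻¹ * b⁻¹) * a⁻¹) := by group
        rw [e]
        exact mul_mem (ha1 x hx) (conj_mem_of_normalizer ha (hb1 x hx))
      inv_mem' := by
        rintro a ⟨ha, ha1⟩
        refine ⟨inv_mem ha, fun x hx => ?_⟩
        have e : x * a⁻¹ * x⁻¹ * a⁻¹⁻¹ = a⁻¹ * (x * a * x⁻¹ * a⁻¹)⁻¹ * a := by group
        rw [e]
        exact conj_inv_mem_of_normalizer ha (inv_mem (ha1 x hx)) }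
  have h1 : LL V₁ R R ≤ D := by
    refine Mix.LL_le fun h hh => ?_
    have hhR := cj_eq_self_iff.1 hh
    intro a ha
    refine ⟨O2_le _ (m.C_le_QQ (cj_le_LL hh ha)), fun x hx => ?_⟩
    have h2 := M₁.UW_comm hw (m.QQ_le_UW hw hR (conj_inv_mem_of_normalizer (le_normalizer_O2 _ hhR) hx))
      (mem_cj.1 ha)
    rw [← hR] at h2
    have h3 := conj_mem_of_normalizer hhR h2
    have e : h * (h⁻¹ * x * h * (h⁻¹ * a * h) * (h⁻¹ * x * h)⁻¹ * (h⁻¹ * a * h)⁻¹) * h⁻¹ = x * a * x⁻¹ * a⁻¹ := by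
      group
    rwa [e] at h3
  exact (h1 hb).2 g hg

end base

section both

variable [Finite G] [Finite F₁] [Finite F₂] [CharP F₁ 2] [CharP F₂ 2] (m : MixedW M₁ M₂ R)
include m

/-- a mutual partner of `V₁` of type 2 on `R` -/
theorem exists_partner : ∃ g ∈ normalizer (R : Set G), RMutual V₁ (cj g V₂) N₁ (cj g N₂) := by
  by_contra hcon
  have key : ∀ g ∈ normalizer (R : Set G), ∀ v ∈ V₁, ∀ w ∈ cj g V₂, v * w = w * v := by
    intro g hg v hv w hw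
    by_contra hvw
    refine hcon ⟨g, hg, ?_, ?_, v, hv, w, hw, hvw⟩
    · exact (cj_le_LL (cj_eq_self_iff.2 hg)).trans (m.symm.C_le_QQ.trans m.QQ_le_N)
    · have h1 := cj_mono (g := g) m.symm.QQ_le_N
      rw [cj_QQ, cj_eq_self_iff.2 hg] at h1
      exact m.V_le_QQ.trans h1
  obtain ⟨a, ha, b, hb, hab⟩ := m.ne
  apply hab
  have h1 : LL V₂ R R ≤ centralizer (V₁ : Set G) := by
    refine Mix.LL_le fun g hg => ?_
    intro w hw
    rw [mem_centralizer_iff]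
    exact fun v hv => key g (cj_eq_self_iff.1 hg) v hv w hw
  have h2 : LL V₁ R R ≤ centralizer (LL V₂ R R : Set G) := by
    refine Mix.LL_le fun g hg => ?_
    intro x hx
    rw [mem_centralizer_iff]
    intro y hy
    have h3 : g⁻¹ * y * g ∈ LL V₂ R R :=
      conj_inv_mem_of_normalizer (normalizer_le_LL V₂ R R (cj_eq_self_iff.1 hg)) hy
    have h4 := mem_centralizer_iff.1 (h1 h3) _ (mem_cj.1 hx)
    calc y * x = g * (g⁻¹ * y * g * (g⁻¹ * x * g)) * g⁻¹ := by group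
      _ = g * (g⁻¹ * x * g * (g⁻¹ * y * g)) * g⁻¹ := by rw [h4]
      _ = x * y := by group
  exact (mem_centralizer_iff.1 (h2 ha) b hb).symm

/-- `|F₁| = |F₂|` -/
theorem card_eq : Nat.card F₁ = Nat.card F₂ := by
  obtain ⟨g, hg, h⟩ := m.exists_partner
  exact (pair M₁ (M₂.conj g) h).1

/-- `W₂(R)` induces the full root group on `V₁` -/
theorem full {w : Fin 2 → F₁} (hw : w ≠ 0) (hR : R = M₁.line w) : M₁.Full (LL V₂ R R) w := by
  obtain ⟨g, hg, h⟩ := m.exists_partner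
  obtain ⟨-, w₁, w', hq, hq', hl, -⟩ := pair M₁ (M₂.conj g) h
  have h1 : R = M₁.line w₁ := by
    refine Subgroup.eq_of_le_of_card_ge ?_ ?_
    · rw [← hl]
      refine le_inf m.RV ?_
      have h2 := cj_mono (g := g) m.symm.RV
      rwa [cj_eq_self_iff.2 hg] at h2
    · rw [M₁.card_line hq.ne, hR, M₁.card_line hw]
  have h2 : M₁.line w = M₁.line w₁ := by rw [← hR, h1]
  obtain ⟨c, hc⟩ := (M₁.line_eq_iff hw).1 h2
  have hc0 : c ≠ 0 := by
    rintro rfl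
    rw [zero_smul] at hc
    exact hw hc
  have h3 : M₁.Full (cj g V₂) w₁ := hq.full
  rw [hc]
  exact (h3.mono (cj_le_LL (cj_eq_self_iff.2 hg))).smul hc0


theorem atR {w : Fin 2 → F₁} (hw : w ≠ 0) (hR : R = M₁.line w) : AtR M₁ V₂ R w where
  ne := hw
  line := hR
  R_le := m.symm.RV
  UW := m.symm.C_le_QQ.trans (m.QQ_le_UW hw hR)
  full := m.full hw hR
  comm := fun _ hc _ hb => m.symm.QC (m.C_le_QQ hc) hb
  comm₁ := m.comm₁
  sq₁ := sq_of_comm_LL m.comm₁ fun _ hv => M₁.sq hv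
  comm₂ := m.comm₂
  sq₂ := sq_of_comm_LL m.comm₂ fun _ hv => M₂.sq hv

theorem sideW : SideW V₁ (pt M₁) (fun i => LL V₂ R (pt M₁ i)) (fun i => LL V₁ R (pt M₁ i)) := by
  obtain ⟨w, hw, hR⟩ := m.line₁
  exact (m.atR hw hR).sideW

/-- `V₁ ≤ Z(Q)` for `Q = O₂(N(K))`, `N₁ ≤ N(K)` -/
theorem le_center {S : Sylow 2 G} (hS : (S : Subgroup G) ≤ N₁) (hSR : (S : Subgroup G) ≤ normalizer (R : Set G))
    {K : Subgroup G} (hVK : N₁ ≤ normalizer (K : Set G))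
    (hQc : ∀ x ∈ normalizer (K : Set G), (∀ q ∈ O2 (normalizer (K : Set G)), x * q = q * x) →
      x ∈ O2 (normalizer (K : Set G))) :
    ∀ v ∈ V₁, v ∈ O2 (normalizer (K : Set G)) ∧ ∀ q ∈ O2 (normalizer (K : Set G)), q * v = v * q := by
  set Q := O2 (normalizer (K : Set G)) with hQ
  have hQn : normalizer (K : Set G) ≤ normalizer (Q : Set G) := le_normalizer_O2 _
  have hQS : Q ≤ (S : Subgroup G) := by
    have : Fact (Nat.Prime 2) := ⟨Nat.prime_two⟩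
    have h3 : IsPGroup 2 ((S : Subgroup G) ⊔ Q : Subgroup G) :=
      S.isPGroup'.to_sup_of_normal_right' (O2_isPGroup _) ((hS.trans hVK).trans hQn)
    have h4 := S.is_maximal' h3 le_sup_left
    exact le_sup_right.trans_eq h4
  obtain ⟨z, hzR, hzS, hz1, -, hzc⟩ := exists_central m.R_pGroup hSR m.R_ne
  have hzV := m.RV hzR
  have hzQ : z ∈ Q := hQc z (hVK (hS hzS)) fun q hq => (hzc q (hQS hq)).symm
  intro v hv
  by_cases hv1 : v = 1
  · rw [hv1]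
    exact ⟨one_mem _, fun q _ => by rw [mul_one, one_mul]⟩
  · obtain ⟨l, hl, rfl⟩ := M₁.trans hzV hz1 hv hv1
    have hlQ := hQn (hVK hl)
    refine ⟨conj_mem_of_normalizer hlQ hzQ, fun q hq => ?_⟩
    have h1 : l⁻¹ * q * l ∈ Q := conj_inv_mem_of_normalizer hlQ hq
    have h2 := hzc _ (hQS h1)
    calc q * (l * z * l⁻¹) = l * (l⁻¹ * q * l * z) * l⁻¹ := by group
      _ = l * (z * (l⁻¹ * q * l)) * l⁻¹ := by rw [h2]
      _ = l * z * l⁻¹ * q := by group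

/-- **(NL)** -/
theorem nl {K : Subgroup G} (hK : IsPGroup 2 K) (h₁ : N₁ ≤ normalizer (K : Set G))
    (h₂ : N₂ ≤ normalizer (K : Set G)) (hR : normalizer (R : Set G) ≤ normalizer (K : Set G)) : K = ⊥ := by
  by_contra hne
  have hch := m.char K hK hne
  obtain ⟨S, hS1, hS2, hS3⟩ := m.sylow
  have k1 := m.le_center hS1 hS3 h₁ hch
  have k2 := m.symm.le_center hS2 hS3 h₂ hch
  obtain ⟨g, hg, h⟩ := m.exists_partner
  obtain ⟨v, hv, w, hw, hvw⟩ := h.ne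
  apply hvw
  have hw' := k2 _ (mem_cj.1 hw)
  have hvQ := (k1 v hv).1
  have h5 : g⁻¹ * v * g ∈ O2 (normalizer (K : Set G)) :=
    conj_inv_mem_of_normalizer (le_normalizer_O2 _ (hR hg)) hvQ
  have h6 := hw'.2 _ h5
  calc v * w = g * (g⁻¹ * v * g * (g⁻¹ * w * g)) * g⁻¹ := by group
    _ = g * (g⁻¹ * w * g * (g⁻¹ * v * g)) * g⁻¹ := by rw [h6]
    _ = w * v := by group

theorem two {S : Sylow 2 G} (h₁ : (S : Subgroup G) ≤ N₁) (h₂ : (S : Subgroup G) ≤ N₂)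
    (h₃ : (S : Subgroup G) ≤ normalizer (R : Set G)) : ∃ (i : Pt M₁) (j : Pt M₂), pt M₁ i = R ∧ pt M₂ j = R ∧
      TwoW V₁ V₂ (pt M₁) (fun i => LL V₂ R (pt M₁ i)) (fun i => LL V₁ R (pt M₁ i)) (pt M₂)
        (fun i => LL V₁ R (pt M₂ i)) (fun i => LL V₂ R (pt M₂ i)) i j S := by
  obtain ⟨w, hw, hR⟩ := m.line₁
  obtain ⟨w', hw', hR'⟩ := m.line₂
  refine ⟨⟨R, w, hw, hR⟩, ⟨R, w', hw', hR'⟩, rfl, rfl, ?_⟩
  exact
    { s₁ := m.sideW
      s₂ := m.symm.sideW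
      hR := rfl
      hB := rfl
      hC := rfl
      ch := m.char R m.R_pGroup m.R_ne
      NL := fun K hK k1 k2 k3 => m.nl hK (M₁.le_ST.trans k1) (M₂.le_ST.trans k2) k3
      SV₁ := h₁.trans M₁.le_ST
      SV₂ := h₂.trans M₂.le_ST
      SR := h₃
      gen₁ := fun K hK => Mix.LL_le fun g hg => hK g (cj_eq_self_iff.1 hg)
      gen₂ := fun K hK => Mix.LL_le fun g hg => hK g (cj_eq_self_iff.1 hg) }

/-- **`Z(S) ≤ R`** -/
theorem center_le (h4 : 4 ≤ Nat.card F₁) {S : Sylow 2 G} (h₁ : (S : Subgroup G) ≤ N₁) (h₂ : (S : Subgroup G) ≤ N₂)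
    (h₃ : (S : Subgroup G) ≤ normalizer (R : Set G)) {z : G} (hz : ∀ s ∈ (S : Subgroup G), s * z = z * s) :
    z ∈ R := by
  obtain ⟨i, j, hi, hj, t⟩ := m.two h₁ h₂ h₃
  obtain ⟨w, hw, hR⟩ := m.line₁
  obtain ⟨w', hw', hR'⟩ := m.line₂
  obtain ⟨c, hc0, hc1⟩ := exists_ne_zero_one h4
  obtain ⟨c', hc0', hc1'⟩ := exists_ne_zero_one (by rw [← m.card_eq]; exact h4 : 4 ≤ Nat.card F₂)
  have hQS := QQ_le_sylow h₃
  have h5 := t.center_le (z := z) (by rw [hi]; exact (m.atR hw hR).exists_torus hc0 hc1)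
    (by rw [hj]; exact (m.symm.atR hw' hR').exists_torus hc0' hc1')
    (by rw [hi]; exact m.symm.C_le_QQ.trans hQS)
    (by rw [hi]; exact m.C_le_QQ.trans hQS)
    (fun x hx => (hz x hx).symm)
  rwa [hi] at h5

theorem mixedN (h4 : 4 ≤ Nat.card F₁) : MixedN M₁ M₂ R where
  line₁ := m.line₁
  line₂ := m.line₂
  sylow := by
    obtain ⟨S, h1, h2, h3⟩ := m.sylow
    exact ⟨S, h1, h2, h3, fun z _ _ hz => m.center_le h4 h1 h2 h3 hz⟩
  char := m.char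
  comm₁ := m.comm₁
  comm₂ := m.comm₂
  ne := m.ne

end both

end MixedW

end Cfsg.Agent.Omega.MixOne

end
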