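import Cfsg.Agent.Mrg.Omega.Mix.RelPair
import Cfsg.Agent.Mrg.Omega.BTwo.Entry
import Cfsg.Agent.Mrg.Omega.VP

section


/-!
# From the frame to the normal form of a mixed pair (TEXT MIX, bb OMEGA #12374)

* `exists_rmod` : `NatOver F P V ⊥` (`Omega.FrameFF`) gives `RMod F V N` with `P ≤ N`;
* `exists_twist` : a 2-subgroup of `N_G(V)` is contained in `N` for a suitable `RMod F V N`;
* `RMod.V_le_Q` : `V ≤ O₂(N_G(R))` for a line `R` of `V` normalised by a Sylow 2-subgroup of `G` in `N` (MIX (1));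
* `normal_form` : the normal form of a mutual pair.
-/

set_option autoImplicit false
set_option linter.unusedSectionVars false

namespace Cfsg.Agent.Omega.Mix

open Subgroup Cfsg.Agent.Lib.SL2Mat Cfsg.Agent.Omega.BTwo
open Cfsg.Agent.Omega.NatPair (ap ap_mul ap_one ap_inv_ap ap_ap_inv)
open Cfsg.Agent.Omega.FrameFF (NatOver)
open scoped Pointwise

variable {G : Type*} [Group G]

/-! ### `RMod` from the frame -/

section rmod

variable {F : Type*} [Field F]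

/-- the elements which induce an element of `SL₂(F)` -/
def slG (e : (Fin 2 → F) → G) : Subgroup G where
  carrier := {h | ∃ A, ∀ x, h * e x * h⁻¹ = e (ap A x)}
  one_mem' := ⟨1, fun x => by rw [ap_one]; group⟩
  mul_mem' := by
    rintro g h ⟨A, hA⟩ ⟨B, hB⟩
    refine ⟨A * B, fun x => ?_⟩
    have e1 : g * h * e x * (g * h)⁻¹ = g * (h * e x * h⁻¹) * g⁻¹ := by group
    rw [e1, hB, hA, ap_mul]
  inv_mem' := by
    rintro g ⟨A, hA⟩
    refine ⟨A⁻¹, fun x => ?_⟩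
    have h1 := hA (ap A⁻¹ x)
    rw [ap_ap_inv] at h1
    rw [← h1]; group

end rmod

/-- `NatOver F P V ⊥` gives `RMod F V N` with `P ≤ N` -/
theorem exists_rmod [Finite G] {F : Type} [Field F] {P V : Subgroup G} (o : NatOver F P V ⊥)
    (hPV : P ≤ normalizer (V : Set G)) : ∃ N : Subgroup G, P ≤ N ∧ Nonempty (RMod F V N) := by
  have e1 : ∀ v ∈ V, o.e v = 0 → v = 1 := fun v hv h => mem_bot.1 ((o.ker v hv).1 h)
  have eone : o.e 1 = 0 := (o.ker 1 (one_mem V)).2 (one_mem _)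
  have hinj : ∀ v ∈ V, ∀ w ∈ V, o.e v = o.e w → v = w := by
    intro v hv w hw h
    have h2 : o.e (v * w⁻¹) = 0 := by
      have h3 := o.mul (v * w⁻¹) (mul_mem hv (inv_mem hw)) w hw
      rw [inv_mul_cancel_right, h] at h3
      exact right_eq_add.1 h3
    exact mul_inv_eq_one.1 (e1 _ (mul_mem hv (inv_mem hw)) h2)
  choose f hfV hf using o.surj
  have hfe : ∀ v ∈ V, f (o.e v) = v := fun v hv => hinj _ (hfV _) _ hv (hf _)
  have hconj : ∀ {g : G}, g ∈ normalizer (V : Set G) → ∀ v ∈ V, g * v * g⁻¹ ∈ V := fun hg v hv =>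
    conj_mem_of_normalizer hg hv
  -- the action in coordinates
  have hiff : ∀ (g : G) (A : Matrix.SpecialLinearGroup (Fin 2) F), g ∈ normalizer (V : Set G) →
      ((∀ x, g * f x * g⁻¹ = f (ap A x)) ↔ ∀ v ∈ V, o.e (g * v * g⁻¹) = ap A (o.e v)) := by
    intro g A hg
    constructor
    · intro h v hv
      have h1 := h (o.e v)
      rw [hfe v hv] at h1
      rw [h1, hf]
    · intro h x
      have h1 := h (f x) (hfV x)
      rw [hf] at h1
      rw [← h1, hfe _ (hconj hg _ (hfV x))]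
  have hslV : slG f ≤ normalizer (V : Set G) := by
    rintro h ⟨A, hA⟩
    refine mem_normalizer_of_conj fun v hv => ?_
    rw [← hfe v hv, hA]
    exact hfV _
  have hcent : centralizer (V : Set G) ≤ slG f := by
    intro c hc
    refine ⟨1, fun x => ?_⟩
    rw [ap_one, ← mem_centralizer_iff.1 hc (f x) (hfV x), mul_inv_cancel_right]
  -- lifts in `P`
  have hlift : ∀ A : Matrix.SpecialLinearGroup (Fin 2) F, ∃ g ∈ P, ∀ x, g * f x * g⁻¹ = f (ap A x) := by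
    intro A
    obtain ⟨g, hg, h1, -⟩ := o.lift A
    exact ⟨g, hg, (hiff g A (hPV hg)).2 h1⟩
  have hPn : P ≤ normalizer (slG f : Set G) := by
    intro g hg
    refine mem_normalizer_of_conj fun h hh => ?_
    obtain ⟨A, hA⟩ := hh
    obtain ⟨h', hh', hA'⟩ := hlift A
    obtain ⟨B, hB⟩ := o.norm g hg h' hh' A ((hiff h' A (hPV hh')).1 hA')
    have h1 : g * h' * g⁻¹ ∈ slG f :=
      ⟨B, (hiff _ B (hPV (mul_mem (mul_mem hg hh') (inv_mem hg)))).2 hB⟩
    have h2 : h'⁻¹ * h ∈ centralizer (V : Set G) := by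
      rw [mem_centralizer_iff]
      intro v hv
      have h3 : h * v * h⁻¹ = h' * v * h'⁻¹ := by
        rw [← hfe v hv, hA, hA']
      calc v * (h'⁻¹ * h) = h'⁻¹ * (h' * v * h'⁻¹) * h := by group
        _ = h'⁻¹ * (h * v * h⁻¹) * h := by rw [h3]
        _ = h'⁻¹ * h * v := by group
    have h3 : g * (h'⁻¹ * h) * g⁻¹ ∈ slG f :=
      hcent (conj_mem_of_normalizer (normalizer_le_normalizer_centralizer V (hPV hg)) h2)
    have e2 : g * h * g⁻¹ = (g * h' * g⁻¹) * (g * (h'⁻¹ * h) * g⁻¹) := by group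
    rw [e2]
    exact mul_mem h1 h3
  refine ⟨normalizer (V : Set G) ⊓ normalizer (slG f : Set G), le_inf hPV hPn, ⟨?_⟩⟩
  exact
    { e := f
      e_add := fun x y => by
        refine hinj _ (hfV _) _ (mul_mem (hfV _) (hfV _)) ?_
        rw [o.mul _ (hfV _) _ (hfV _), hf, hf, hf]
      e_inj := fun x y h => by rw [← hf x, h, hf]
      mem_iff := fun g => ⟨fun hg => ⟨o.e g, hfe g hg⟩, by rintro ⟨x, rfl⟩; exact hfV x⟩
      le := inf_le_left
      cent := le_inf (hcent.trans hslV) (hcent.trans le_normalizer)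
      lift' := fun A => by
        obtain ⟨g, hg, h⟩ := hlift A
        exact ⟨g, ⟨hPV hg, hPn hg⟩, h⟩
      norm := fun g hg h A hA => by
        obtain ⟨B, hB⟩ := conj_mem_of_normalizer hg.2 (show h ∈ slG f from ⟨A, hA⟩)
        exact ⟨B, hB⟩ }

/-! ### Sylow subgroups -/

theorem cj_eq_cj (g : G) (V : Subgroup G) : NatPair.cj g V = cj g V := rfl

theorem coe_smul_eq (g : G) (S : Sylow 2 G) : ((g • S : Sylow 2 G) : Subgroup G) = cj g (S : Subgroup G) := rfl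

/-- a 2-subgroup of `N_G(V)` lies in a conjugate of the Sylow subgroup `S ≤ N_G(V)` under `N_G(V)` -/
theorem exists_conj_sylow [Finite G] {K : Subgroup G} (S : Sylow 2 G) (hS : (S : Subgroup G) ≤ K) {A : Subgroup G}
    (hA : IsPGroup 2 A) (hAK : A ≤ K) : ∃ n ∈ K, A ≤ cj n (S : Subgroup G) := by
  have : Fact (Nat.Prime 2) := ⟨Nat.prime_two⟩
  obtain ⟨Q, hQ⟩ := (hA.comap_of_injective K.subtype K.subtype_injective : IsPGroup 2 (A.subgroupOf K)).exists_le_sylow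
  obtain ⟨n, hn⟩ := MulAction.exists_smul_eq K (S.subtype hS) Q
  refine ⟨n, n.2, fun a ha => ?_⟩
  have h1 : (⟨a, hAK ha⟩ : K) ∈ (Q : Subgroup K) := hQ (mem_subgroupOf.2 ha)
  rw [← hn] at h1
  have h2 : (n⁻¹ * ⟨a, hAK ha⟩ * n : K) ∈ ((S.subtype hS : Sylow 2 K) : Subgroup K) := by
    have h3 := Subgroup.mem_pointwise_smul_iff_inv_smul_mem.1 h1
    rw [← map_inv, MulAut.smul_def, MulAut.conj_apply, inv_inv] at h3
    exact h3
  rw [mem_cj]
  exact h2

theorem exists_twist [Finite G] {F : Type*} [Field F] {V N : Subgroup G} (M : RMod F V N) (S : Sylow 2 G)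
    (hS : (S : Subgroup G) ≤ N) {A : Subgroup G} (hA : IsPGroup 2 A) (hAV : A ≤ normalizer (V : Set G)) :
    ∃ n ∈ normalizer (V : Set G), A ≤ cj n N ∧ cj n (S : Subgroup G) ≤ cj n N ∧ Nonempty (RMod F V (cj n N)) := by
  obtain ⟨n, hn, h⟩ := exists_conj_sylow S (hS.trans M.le) hA hAV
  refine ⟨n, hn, h.trans (cj_mono hS), cj_mono hS, ⟨?_⟩⟩
  have h1 : NatPair.cj n V = V := cj_eq_self_iff.2 hn
  exact h1 ▸ M.conj n

/-- central involutions of the Sylow subgroups of `G` in `N_G(V)` are in `V` -/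
theorem hZ_conj {V S T : Subgroup G} {n : G} (hn : n ∈ normalizer (V : Set G))
    (hT : T = cj n S)
    (hZ : ∀ z ∈ S, z * z = 1 → (∀ s ∈ S, s * z = z * s) → z ∈ V) :
    ∀ z ∈ T, z * z = 1 → (∀ s ∈ T, s * z = z * s) → z ∈ V := by
  subst hT
  rintro _ ⟨z, hz, rfl⟩ h1 h2
  have h3 : z ∈ V := by
    refine hZ z hz ?_ fun s hs => ?_
    · have h4 : n * z * n⁻¹ * (n * z * n⁻¹) = 1 := h1
      have e : n * z * n⁻¹ * (n * z * n⁻¹) = n * (z * z) * n⁻¹ := by group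
      rw [e] at h4
      have := conj_eq_one_iff.1 h4
      exact this
    · have h4 : n * s * n⁻¹ * (n * z * n⁻¹) = n * z * n⁻¹ * (n * s * n⁻¹) := h2 _ (conj_mem_cj hs)
      have h5 : n * (s * z) * n⁻¹ = n * (z * s) * n⁻¹ := by
        calc n * (s * z) * n⁻¹ = n * s * n⁻¹ * (n * z * n⁻¹) := by group
          _ = n * z * n⁻¹ * (n * s * n⁻¹) := h4
          _ = n * (z * s) * n⁻¹ := by group
      exact mul_left_cancel (mul_right_cancel h5)
  exact conj_mem_of_normalizer hn h3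

/-! ### MIX (1) -/

section one

variable [Finite G] {F : Type*} [Field F] [Finite F] [CharP F 2] {V N : Subgroup G} (M : RMod F V N)

theorem QQ_le_sylow {R : Subgroup G} (T : Sylow 2 G) (hT : (T : Subgroup G) ≤ normalizer (R : Set G)) :
    QQ R ≤ (T : Subgroup G) := by
  have : Fact (Nat.Prime 2) := ⟨Nat.prime_two⟩
  have h1 : IsPGroup 2 ((T : Subgroup G) ⊔ QQ R : Subgroup G) :=
    T.isPGroup'.to_sup_of_normal_right' (O2_isPGroup _) (hT.trans (le_normalizer_O2 _))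
  have h2 := T.is_maximal' h1 le_sup_left
  exact le_sup_right.trans h2.le

/-- `O₂(N_G(R))` induces transvections on `V` -/
theorem RMod.Q_le_UW {w : Fin 2 → F} (hw : w ≠ 0) (T : Sylow 2 G) (hT : (T : Subgroup G) ≤ N)
    (hTw : (T : Subgroup G) ≤ normalizer ((M.line w : Subgroup G) : Set G)) : QQ (M.line w) ≤ M.UW w := by
  refine M.lin_of_torus hw ((QQ_le_sylow T hTw).trans hT) (O2_le _) (O2_isPGroup _) ?_
  intro g _ hg x hx
  exact conj_mem_of_normalizer (le_normalizer_O2 _ hg) hx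

/-- an element of `SL₂(F)` fixing `w` moves every vector by a multiple of `w` -/
theorem exists_smul_of_fix {w : Fin 2 → F} (hw : w ≠ 0) {B : Matrix.SpecialLinearGroup (Fin 2) F} (hB : ap B w = w)
    (x : Fin 2 → F) : ∃ c : F, ap B x - x = c • w := by
  have h1 : NatPair.dt w (ap B x - x) = 0 := by
    have h2 : NatPair.dt (ap B w) (ap B x) = NatPair.dt w x := by
      unfold NatPair.dt
      rw [NatPair.ap_zero', NatPair.ap_zero', NatPair.ap_one', NatPair.ap_one']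
      linear_combination (w 0 * x 1 - w 1 * x 0) * det_eq B
    rw [hB] at h2
    unfold NatPair.dt at h2 ⊢
    rw [Pi.sub_apply, Pi.sub_apply]
    linear_combination h2
  exact NatPair.exists_smul_of_dt hw h1

/-- `[V, u] ≤ R` for `u ∈ UW` -/
theorem RMod.comm_UW {w : Fin 2 → F} (hw : w ≠ 0) {u v : G} (hu : u ∈ M.UW w) (hv : v ∈ V) :
    u * v * u⁻¹ * v⁻¹ ∈ M.line w := by
  obtain ⟨B, hB, hB'⟩ := hu
  obtain ⟨x, rfl⟩ := (M.mem_iff v).1 hv
  rw [hB', ← M.e_sub]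
  exact M.e_mem_line.2 (exists_smul_of_fix hw hB x)

/-- **MIX (1)**: `V ≤ O₂(N_G(R))` -/
theorem RMod.V_le_Q {w : Fin 2 → F} (hw : w ≠ 0) (T : Sylow 2 G) (hT : (T : Subgroup G) ≤ N)
    (hTw : (T : Subgroup G) ≤ normalizer ((M.line w : Subgroup G) : Set G))
    (hch : Char2 (normalizer ((M.line w : Subgroup G) : Set G))) : V ≤ QQ (M.line w) := by
  set R := M.line w with hR
  have hRV : R ≤ V := M.line_le w
  have hU := M.Q_le_UW hw T hT hTw
  -- the elements of `N(R)` which centralise `R` and `Q / R`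
  let D : Subgroup G := cenMod R (QQ R) ⊓ centralizer (R : Set G)
  have hDR : D ≤ normalizer (R : Set G) := fun x hx => hx.1.1
  have hD2 : IsPGroup 2 D := by
    intro x
    obtain ⟨⟨hxN, hxQ⟩, hxR⟩ := x.2
    have hx2 : (x : G) * x ∈ QQ R := by
      refine hch _ (mul_mem hxN hxN) fun q hq => ?_
      have h1 := hxQ q hq
      set r := (x : G) * q * (x : G)⁻¹ * q⁻¹ with hr
      have h2 : (x : G) * q * (x : G)⁻¹ = r * q := by rw [hr]; group
      have h3 : r * (x : G) = x * r := mem_centralizer_iff.1 hxR r h1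
      have h4 : r * r = 1 := M.sq (hRV h1)
      have h5 : (x : G) * x * q * ((x : G) * x)⁻¹ = q := by
        calc (x : G) * x * q * ((x : G) * x)⁻¹ = x * (x * q * (x : G)⁻¹) * (x : G)⁻¹ := by group
          _ = x * r * q * (x : G)⁻¹ := by rw [h2]; group
          _ = r * (x * q * (x : G)⁻¹) := by rw [← h3]; group
          _ = r * r * q := by rw [h2]; group
          _ = q := by rw [h4, one_mul]
      exact mul_inv_eq_iff_eq_mul.1 h5
    obtain ⟨k, hk⟩ := O2_isPGroup (normalizer (R : Set G)) ⟨_, hx2⟩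
    refine ⟨k + 1, Subtype.ext ?_⟩
    have h1 : ((x : G) * x) ^ 2 ^ k = 1 := congrArg Subtype.val hk
    show (x : G) ^ 2 ^ (k + 1) = 1
    rw [pow_succ', pow_mul, pow_two]
    exact h1
  have hDQ : D ≤ QQ R := by
    refine le_O2_of_normal hDR hD2 ?_
    rintro g hg x ⟨⟨h1, h2⟩, h3⟩
    refine ⟨⟨mul_mem (mul_mem hg h1) (inv_mem hg), fun q hq => ?_⟩, ?_⟩
    · have h4 : g⁻¹ * q * g ∈ QQ R := conj_inv_mem_of_normalizer (le_normalizer_O2 _ hg) hq
      have h5 := conj_mem_of_normalizer hg (h2 _ h4)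
      have e : g * (x * (g⁻¹ * q * g) * x⁻¹ * (g⁻¹ * q * g)⁻¹) * g⁻¹ = g * x * g⁻¹ * q * (g * x * g⁻¹)⁻¹ * q⁻¹ := by
        group
      rwa [e] at h5
    · exact conj_mem_of_normalizer (normalizer_le_normalizer_centralizer R hg) h3
  refine le_trans ?_ hDQ
  intro v hv
  have hvR : v ∈ centralizer (R : Set G) := mem_centralizer_iff.2 fun r hr => M.comm (hRV hr) hv
  refine ⟨⟨centralizer_le_normalizer _ hvR, fun q hq => ?_⟩, hvR⟩
  have h1 := inv_mem (M.comm_UW hw (hU hq) hv)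
  have e : (q * v * q⁻¹ * v⁻¹)⁻¹ = v * q * v⁻¹ * q⁻¹ := by group
  rwa [e] at h1

end one

/-! ### The normal form -/

theorem exists_conj_eq [Finite G] {K : Subgroup G} (S T : Sylow 2 G) (hS : (S : Subgroup G) ≤ K)
    (hT : (T : Subgroup G) ≤ K) : ∃ n ∈ K, (T : Subgroup G) = cj n (S : Subgroup G) := by
  have : Fact (Nat.Prime 2) := ⟨Nat.prime_two⟩
  obtain ⟨n, hn, h⟩ := exists_conj_sylow S hS T.isPGroup' hT
  refine ⟨n, hn, ?_⟩
  have h1 : (T : Subgroup G) ≤ ((n • S : Sylow 2 G) : Subgroup G) := h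
  exact (T.is_maximal' (n • S : Sylow 2 G).isPGroup' h1).symm

/-- **the normal form of a mutual pair** -/
theorem normal_form [Finite G] {F₁ F₂ : Type*} [Field F₁] [Field F₂] [Finite F₁] [Finite F₂] [CharP F₁ 2] [CharP F₂ 2]
    {V V' N N' : Subgroup G} (M : RMod F₁ V N) (M' : RMod F₂ V' N') (S S' : Sylow 2 G) (hS : (S : Subgroup G) ≤ N)
    (hS' : (S' : Subgroup G) ≤ N') (hZ : ∀ z ∈ (S : Subgroup G), z * z = 1 → (∀ s ∈ (S : Subgroup G), s * z = z * s) → z ∈ V)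
    (h1 : V' ≤ normalizer (V : Set G)) (h2 : V ≤ normalizer (V' : Set G)) (hne : ∃ v ∈ V, ∃ w ∈ V', v * w ≠ w * v) :
    Nat.card F₁ = Nat.card F₂ ∧ ∃ (h : G) (N₁ N₂ : Subgroup G) (M₁ : RMod F₁ V N₁) (M₂ : RMod F₂ (cj h V') N₂)
      (T : Sylow 2 G) (w₁ : Fin 2 → F₁) (w₂ : Fin 2 → F₂), w₁ ≠ 0 ∧ w₂ ≠ 0 ∧
        h ∈ normalizer ((V ⊓ V' : Subgroup G) : Set G) ∧ V ⊓ V' = M₁.line w₁ ∧ V ⊓ V' = M₂.line w₂ ∧
        (T : Subgroup G) ≤ N₁ ∧ (T : Subgroup G) ≤ N₂ ∧ (T : Subgroup G) ≤ normalizer ((V ⊓ V' : Subgroup G) : Set G) ∧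
        ∀ z ∈ (T : Subgroup G), z * z = 1 → (∀ s ∈ (T : Subgroup G), s * z = z * s) → z ∈ V ⊓ V' := by
  have hV2 : IsPGroup 2 V := fun v => ⟨1, by
    rw [pow_one, pow_two]; exact Subtype.ext (M.sq v.2)⟩
  have hV'2 : IsPGroup 2 V' := fun v => ⟨1, by
    rw [pow_one, pow_two]; exact Subtype.ext (M'.sq v.2)⟩
  obtain ⟨n, hn, hA, hSn, ⟨M1⟩⟩ := exists_twist M S hS hV'2 h1
  obtain ⟨n', hn', hA', hSn', ⟨M1'⟩⟩ := exists_twist M' S' hS' hV2 h2
  have hmut : RMutual V V' (cj n N) (cj n' N') := ⟨hA, hA', hne⟩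
  obtain ⟨hcard, w, w', hw, hw', hl, hl'⟩ := pair M1 M1' hmut
  obtain ⟨T, hT1, hT2⟩ := M1.exists_sylow (n • S) hSn hw.ne
  obtain ⟨T', hT1', hT2'⟩ := M1'.exists_sylow (n' • S') hSn' hw'.ne
  rw [← hl] at hT2
  rw [← hl'] at hT2'
  obtain ⟨h, hh, hTT⟩ := exists_conj_eq T' T hT2' hT2
  refine ⟨hcard, h, _, _, M1, M1'.conj h, T, w, w', hw.ne, hw'.ne, hh, hl, ?_, hT1, ?_, hT2, ?_⟩
  · have h3 : (M1'.conj h).line w' = cj h (M1'.line w') := M1'.conj_line h w'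
    rw [← hl', cj_eq_self_iff.2 hh] at h3
    exact h3.symm
  · rw [hTT]
    exact cj_mono hT1'
  · obtain ⟨m, hm, hTS⟩ := exists_conj_eq S T (hS.trans M.le) (hT1.trans M1.le)
    intro z hz hz2 hzc
    have h3 : z ∈ V := hZ_conj hm hTS hZ z hz hz2 hzc
    rw [hl]
    refine M1.cent_le_of_sylow T hT1 hw.ne (by rw [← hl]; exact hT2) ⟨?_, h3⟩
    exact mem_centralizer_iff.2 hzc

end Cfsg.Agent.Omega.Mix

end

section


/-!
# The frame gives a mixed pair (TEXT MIX, bb OMEGA #12374)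

* `char2_normalizer` : `IsCharacteristicTwoType G` gives `Char2 (N_G(K))` for 2-subgroups `K ≠ 1`;
* `LL_comm` : `W = ⟨V^g : g ∈ N(R)⟩` is abelian if there is no mutual pair `(V, V^g)`;
* `exists_rmod_of_frame` : `Single`, `Free` give `RMod F (zl S P) N`, `P ≤ N`;
* `mixedN_of_mutual` : the frame gives `MixedN`;
* `natOver_restrict`, `exists_rmod_of_split` : `NatOver F P V D`, `V = N D`, `N ∩ D = 1` give `RMod F N _`.
-/

set_option autoImplicit false
set_option linter.unusedSectionVars false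

namespace Cfsg.Agent.Omega.Mix

open Subgroup Cfsg Cfsg.Agent.Lib.SL2Mat Cfsg.Agent.Omega.BTwo Cfsg.Agent.ZN
open Cfsg.Agent.Omega.NatPair (ap ap_mul ap_one ap_inv_ap ap_ap_inv)
open Cfsg.Agent.Omega.FrameFF (NatOver Single Free cv)
open Cfsg.Agent.Omega.MinPar (IsParS)
open scoped Pointwise commutatorElement

universe u

variable {G : Type u} [Group G]

theorem char2_normalizer (hG : IsCharacteristicTwoType G) {K : Subgroup G} (hK : IsPGroup 2 K) (hK1 : K ≠ ⊥) :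
    Char2 (normalizer (K : Set G)) := by
  intro x hx h
  have h1 := hG.2 K hK hK1
  have h2 : (⟨x, hx⟩ : normalizer (K : Set G)) ∈ centralizer (pCore 2 (normalizer (K : Set G)) : Set _) := by
    rw [mem_centralizer_iff]
    intro q hq
    refine Subtype.ext ?_
    have h3 : (q : G) ∈ O2 (normalizer (K : Set G)) := ⟨q, hq, rfl⟩
    exact (h _ h3).symm
  exact ⟨_, h1 h2, rfl⟩

theorem cj_le_cj {g : G} {A B : Subgroup G} : cj g A ≤ cj g B ↔ A ≤ B := by
  refine ⟨fun h => ?_, cj_mono⟩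
  have h1 : cj g⁻¹ (cj g A) ≤ cj g⁻¹ (cj g B) := cj_mono h
  rwa [cj_inv_cj, cj_inv_cj] at h1

theorem RMod.line_ne_bot {F : Type*} [Field F] {V N : Subgroup G} (M : RMod F V N) {w : Fin 2 → F} (hw : w ≠ 0) :
    M.line w ≠ ⊥ := by
  intro h
  have h1 : M.e w ∈ M.line w := M.e_mem_line.2 ⟨1, (one_smul _ _).symm⟩
  rw [h, mem_bot, M.e_eq_one] at h1
  exact hw h1

/-- `no mutual pair of one type` is invariant under conjugation -/
theorem cj_no {V : Subgroup G} (k : G)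
    (hno : ∀ n : G, V ≤ normalizer (cj n V : Set G) → cj n V ≤ normalizer (V : Set G) →
      ∀ v ∈ V, ∀ w ∈ cj n V, v * w = w * v) :
    ∀ n : G, cj k V ≤ normalizer (cj n (cj k V) : Set G) → cj n (cj k V) ≤ normalizer (cj k V : Set G) →
      ∀ v ∈ cj k V, ∀ w ∈ cj n (cj k V), v * w = w * v := by
  intro n hn1 hn2 v hv w hw
  have e1 : cj n (cj k V) = cj k (cj (k⁻¹ * n * k) V) := by
    rw [← cj_mul, ← cj_mul]; congr 1; group
  rw [e1, normalizer_cj, cj_le_cj] at hn1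
  rw [e1, normalizer_cj, cj_le_cj] at hn2
  rw [e1] at hw
  obtain ⟨v', hv', rfl⟩ := hv
  obtain ⟨w', hw', rfl⟩ := hw
  have h3 := hno _ hn1 hn2 v' hv' w' hw'
  show k * v' * k⁻¹ * (k * w' * k⁻¹) = k * w' * k⁻¹ * (k * v' * k⁻¹)
  calc k * v' * k⁻¹ * (k * w' * k⁻¹) = k * (v' * w') * k⁻¹ := by group
    _ = k * (w' * v') * k⁻¹ := by rw [h3]
    _ = k * w' * k⁻¹ * (k * v' * k⁻¹) := by group

/-- `W = ⟨V^g : g ∈ N(R)⟩` is abelian if there is no mutual pair `(V, V^n)` -/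
theorem LL_comm [Finite G] {V R : Subgroup G} (T : Sylow 2 G) (hVQ : V ≤ QQ R)
    (hTV : (T : Subgroup G) ≤ normalizer (V : Set G)) (hTR : (T : Subgroup G) ≤ normalizer (R : Set G))
    (hno : ∀ n : G, V ≤ normalizer (cj n V : Set G) → cj n V ≤ normalizer (V : Set G) →
      ∀ v ∈ V, ∀ w ∈ cj n V, v * w = w * v) :
    ∀ a ∈ LL V R R, ∀ b ∈ LL V R R, a * b = b * a := by
  have hQT : QQ R ≤ normalizer (V : Set G) := (QQ_le_sylow T hTR).trans hTV
  have hcjQ : ∀ n ∈ normalizer (R : Set G), cj n (QQ R) = QQ R := fun n hn =>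
    cj_eq_self_iff.2 (le_normalizer_O2 _ hn)
  have key : ∀ n ∈ normalizer (R : Set G), ∀ v ∈ V, ∀ w ∈ cj n V, v * w = w * v := by
    intro n hn
    refine hno n ?_ ?_
    · have h1 : QQ R ≤ normalizer (cj n V : Set G) := by
        rw [← hcjQ n hn, normalizer_cj]
        exact cj_mono hQT
      exact hVQ.trans h1
    · have h1 : cj n V ≤ QQ R := by
        rw [← hcjQ n hn]
        exact cj_mono hVQ
      exact h1.trans hQT
  have key2 : ∀ g k : G, cj g R = R → cj k R = R → ∀ a ∈ cj g V, ∀ b ∈ cj k V, a * b = b * a := by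
    rintro g k hg hk _ ⟨v, hv, rfl⟩ b hb
    have hg' : g ∈ normalizer (R : Set G) := cj_eq_self_iff.1 hg
    have hk' : k ∈ normalizer (R : Set G) := cj_eq_self_iff.1 hk
    have h1 : g⁻¹ * b * g ∈ cj (g⁻¹ * k) V := by
      have h2 : g⁻¹ * b * g⁻¹⁻¹ ∈ cj g⁻¹ (cj k V) := conj_mem_cj hb
      rwa [← cj_mul, inv_inv] at h2
    have h2 := key _ (mul_mem (inv_mem hg') hk') v hv _ h1
    show g * v * g⁻¹ * b = b * (g * v * g⁻¹)
    calc g * v * g⁻¹ * b = g * (v * (g⁻¹ * b * g)) * g⁻¹ := by group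
      _ = g * (g⁻¹ * b * g * v) * g⁻¹ := by rw [h2]
      _ = b * (g * v * g⁻¹) := by group
  have h3 : LL V R R ≤ centralizer (LL V R R : Set G) := by
    refine LL_le fun g hg => ?_
    rw [le_centralizer_iff]
    refine LL_le fun k hk => ?_
    intro b hb
    rw [mem_centralizer_iff]
    intro a ha
    exact key2 g k hg hk a ha b hb
  intro a ha b hb
  exact (mem_centralizer_iff.1 (h3 ha) b hb).symm

/-- the normal form of a mutual pair without mutual pairs of one type -/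
theorem mixedN_of_rmod [Finite G]
    (hchar : ∀ K : Subgroup G, IsPGroup 2 K → K ≠ ⊥ → Char2 (normalizer (K : Set G)))
    {F₁ F₂ : Type*} [Field F₁] [Field F₂] [Finite F₁] [Finite F₂] [CharP F₁ 2] [CharP F₂ 2]
    {V V' N N' : Subgroup G} (M : RMod F₁ V N) (M' : RMod F₂ V' N') (S S' : Sylow 2 G) (hS : (S : Subgroup G) ≤ N)
    (hS' : (S' : Subgroup G) ≤ N') (hZ : ∀ z ∈ (S : Subgroup G), z * z = 1 → (∀ s ∈ (S : Subgroup G), s * z = z * s) → z ∈ V)
    (h1 : V' ≤ normalizer (V : Set G)) (h2 : V ≤ normalizer (V' : Set G)) (hne : ∃ v ∈ V, ∃ w ∈ V', v * w ≠ w * v)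
    (hno₁ : ∀ n : G, V ≤ normalizer (cj n V : Set G) → cj n V ≤ normalizer (V : Set G) →
      ∀ v ∈ V, ∀ w ∈ cj n V, v * w = w * v)
    (hno₂ : ∀ n : G, V' ≤ normalizer (cj n V' : Set G) → cj n V' ≤ normalizer (V' : Set G) →
      ∀ v ∈ V', ∀ w ∈ cj n V', v * w = w * v) :
    Nat.card F₁ = Nat.card F₂ ∧ ∃ (k : G) (N₁ N₂ : Subgroup G) (M₁ : RMod F₁ V N₁) (M₂ : RMod F₂ (cj k V') N₂)
      (R : Subgroup G), MixedN M₁ M₂ R := by
  obtain ⟨hcard, k, N₁, N₂, M₁, M₂, T, w₁, w₂, hw₁, hw₂, hk, hl₁, hl₂, hT₁, hT₂, hTR, hZT⟩ :=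
    normal_form M M' S S' hS hS' hZ h1 h2 hne
  refine ⟨hcard, k, N₁, N₂, M₁, M₂, V ⊓ V', ?_⟩
  have hR2 : IsPGroup 2 (V ⊓ V' : Subgroup G) := fun v => ⟨1, by
    rw [pow_one, pow_two]; exact Subtype.ext (M.sq v.2.1)⟩
  have hR1 : V ⊓ V' ≠ ⊥ := by
    rw [hl₁]
    exact M₁.line_ne_bot hw₁
  have hchR := hchar _ hR2 hR1
  have hVQ : V ≤ QQ (V ⊓ V') := by
    rw [hl₁] at hTR hchR ⊢
    exact M₁.V_le_Q hw₁ T hT₁ hTR hchR
  have hVQ' : cj k V' ≤ QQ (V ⊓ V') := by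
    rw [hl₂] at hTR hchR ⊢
    exact M₂.V_le_Q hw₂ T hT₂ hTR hchR
  refine ⟨⟨w₁, hw₁, hl₁⟩, ⟨w₂, hw₂, hl₂⟩, ⟨T, hT₁, hT₂, hTR, hZT⟩, hchar, ?_, ?_, ?_⟩
  · exact LL_comm T hVQ (hT₁.trans M₁.le) hTR hno₁
  · exact LL_comm T hVQ' (hT₂.trans M₂.le) hTR (cj_no k hno₂)
  · obtain ⟨v, hv, w, hw, hvw⟩ := hne
    refine ⟨v, V_le_LL _ _ hv, w, ?_, hvw⟩
    have h3 : cj k⁻¹ (cj k V') ≤ LL (cj k V') (V ⊓ V') (V ⊓ V') :=
      cj_le_LL (cj_eq_self_iff.2 (inv_mem hk))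
    rw [← cj_mul, inv_mul_cancel, cj_one] at h3
    exact h3 hw

/-! ### The frame -/

section frame

variable [Finite G]

theorem exists_rmod_of_frame {S P : Subgroup G} (hs : Single S P) (hf : Free S P) :
    ∃ (F : Type) (_ : Field F) (_ : Finite F) (_ : CharP F 2) (N : Subgroup G), P ≤ N ∧
      Nonempty (RMod F (zl S P) N) := by
  obtain ⟨F, i1, i2, i3, ⟨o⟩⟩ := hs
  have hf' : cv S P = ⊥ := hf
  rw [hf'] at o
  obtain ⟨N, h1, h2⟩ := exists_rmod o (MinSimple.VModule.le_normalizer_zl S P)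
  exact ⟨F, i1, i2, i3, N, h1, h2⟩

theorem mem_zl_of_central (S : Subgroup G) (P : Subgroup G) : ∀ z ∈ S, z * z = 1 → (∀ s ∈ S, s * z = z * s) →
    z ∈ zl S P := fun z hz h1 h2 =>
  MinSimple.VModule.zc_le_zl S P (MinSimple.VModule.mem_zc.2 ⟨hz, h2, by rw [pow_two]; exact h1⟩)

/-- no mutual pair of one type -/
theorem comm_of_not_mutual {S P : Subgroup G} (hP : IsParS S P) (hno : ∀ g : G, ¬ Mutual S P P g) {n : G}
    (h1 : zl S P ≤ normalizer (cj n (zl S P) : Set G)) (h2 : cj n (zl S P) ≤ normalizer (zl S P : Set G)) :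
    ∀ v ∈ zl S P, ∀ w ∈ cj n (zl S P), v * w = w * v := by
  by_contra hcon
  refine hno n ⟨hP, hP, h1, h2, fun h3 => hcon ?_⟩
  intro v hv w hw
  have h4 : ⁅v, w⁆ ∈ ⁅zl S P, MulAut.conj n • zl S P⁆ := commutator_mem_commutator hv hw
  rw [h3, mem_bot] at h4
  exact commutatorElement_eq_one_iff_mul_comm.1 h4

/-- **The frame gives a mixed pair.** -/
theorem mixedN_of_mutual (hG : IsCharacteristicTwoType G) (S : Sylow 2 G) {P₁ P₂ : Subgroup G} {x : G}
    (h : Mutual (S : Subgroup G) P₁ P₂ x) (hs₁ : Single (S : Subgroup G) P₁) (hs₂ : Single (S : Subgroup G) P₂)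
    (hf₁ : Free (S : Subgroup G) P₁) (hf₂ : Free (S : Subgroup G) P₂)
    (hsame : ∀ (P : Subgroup G) (g : G), ¬ Mutual (S : Subgroup G) P P g) :
    ∃ (F₁ : Type) (_ : Field F₁) (_ : Finite F₁) (_ : CharP F₁ 2) (F₂ : Type) (_ : Field F₂) (_ : Finite F₂)
      (_ : CharP F₂ 2) (k : G) (N₁ N₂ : Subgroup G) (M₁ : RMod F₁ (zl (S : Subgroup G) P₁) N₁)
      (M₂ : RMod F₂ (cj k (zl (S : Subgroup G) P₂)) N₂) (R : Subgroup G),
      MixedN M₁ M₂ R ∧ Nat.card F₁ = Nat.card F₂ := by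
  obtain ⟨F₁, i1, i2, i3, N, hPN, ⟨M⟩⟩ := exists_rmod_of_frame hs₁ hf₁
  obtain ⟨F₂, j1, j2, j3, N', hPN', ⟨M'⟩⟩ := exists_rmod_of_frame hs₂ hf₂
  have hSN : (S : Subgroup G) ≤ N := h.star₁.le.trans hPN
  have hSN' : ((x • S : Sylow 2 G) : Subgroup G) ≤ cj x N' := by
    rw [coe_smul_eq]
    exact cj_mono (h.star₂.le.trans hPN')
  have hne : ∃ v ∈ zl (S : Subgroup G) P₁, ∃ w ∈ cj x (zl (S : Subgroup G) P₂), v * w ≠ w * v := by
    by_contra hcon
    push Not at hcon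
    refine h.ne ((commutator_eq_bot_iff_le_centralizer).2 fun v hv => mem_centralizer_iff.2 fun w hw => ?_)
    exact (hcon v hv w hw).symm
  have hno₂ := cj_no x fun n h1 h2 => comm_of_not_mutual h.star₂ (hsame P₂) (n := n) h1 h2
  obtain ⟨hcard, k, N₁, N₂, M₁, M₂, R, hm⟩ :=
    mixedN_of_rmod (fun K h1 h2 => char2_normalizer hG h1 h2) M (M'.conj x) S (x • S) hSN hSN'
      (mem_zl_of_central _ _) h.le₂ h.le₁ hne (fun n h1 h2 => comm_of_not_mutual h.star₁ (hsame P₁) h1 h2) hno₂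
  have e2 : cj k (NatPair.cj x (zl (S : Subgroup G) P₂)) = cj (k * x) (zl (S : Subgroup G) P₂) := by
    rw [cj_mul]; rfl
  refine ⟨F₁, i1, i2, i3, F₂, j1, j2, j3, k * x, N₁, N₂, M₁, ?_⟩
  rw [← e2]
  exact ⟨M₂, R, hm, hcard⟩

end frame

/-! ### Split extensions -/

section split

variable {F : Type} [Field F] {P V D N : Subgroup G}

/-- `V = N D`, `N ∩ D = 1` : `N` is a natural module for `P`. -/
def natOverSplit (o : NatOver F P V D) (hVa : ∀ v ∈ V, ∀ w ∈ V, v * w = w * v) (hNV : N ≤ V) (hDV : D ≤ V)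
    (hPN : P ≤ normalizer (N : Set G)) (hPD : P ≤ normalizer (D : Set G)) (hND : N ⊓ D = ⊥) (hV : V ≤ N ⊔ D) :
    NatOver F P N ⊥ :=
  have h0 : ∀ d ∈ D, o.e d = 0 := fun d hd => (o.ker d (hDV hd)).2 hd
  have hdec : ∀ v ∈ V, ∃ n ∈ N, ∃ d ∈ D, v = n * d := fun v hv => by
    have h1 : N ≤ normalizer (D : Set G) := by
      intro n hn
      exact centralizer_le_normalizer _ (mem_centralizer_iff.2 fun d hd => hVa d (hDV hd) n (hNV hn))
    have h2 : v ∈ (N ⊔ D : Subgroup G) := hV hv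
    rw [← SetLike.mem_coe, coe_mul_of_left_le_normalizer_right N D h1] at h2
    obtain ⟨n, hn, d, hd, h⟩ := Set.mem_mul.1 h2
    exact ⟨n, hn, d, hd, h.symm⟩
  { e := o.e
    mul := fun v hv w hw => o.mul v (hNV hv) w (hNV hw)
    surj := fun x => by
      obtain ⟨v, hv, hx⟩ := o.surj x
      obtain ⟨n, hn, d, hd, rfl⟩ := hdec v hv
      rw [o.mul n (hNV hn) d (hDV hd), h0 d hd, add_zero] at hx
      exact ⟨n, hn, hx⟩
    ker := fun v hv => by
      rw [o.ker v (hNV hv), mem_bot]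
      constructor
      · intro h
        have h1 : v ∈ N ⊓ D := ⟨hv, h⟩
        rwa [hND, mem_bot] at h1
      · rintro rfl
        exact one_mem _
    lift := fun A => by
      obtain ⟨g, hg, h1, -⟩ := o.lift A
      refine ⟨g, hg, fun v hv => h1 v (hNV hv), fun d hd => ?_⟩
      rw [mem_bot.1 hd, mul_one, one_mul]
    norm := fun g hg h hh A hA => by
      have key : ∀ v ∈ V, o.e (h * v * h⁻¹) = ap A (o.e v) := by
        intro v hv
        obtain ⟨n, hn, d, hd, rfl⟩ := hdec v hv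
        have h1 : h * n * h⁻¹ ∈ N := conj_mem_of_normalizer (hPN hh) hn
        have h2 : h * d * h⁻¹ ∈ D := conj_mem_of_normalizer (hPD hh) hd
        have e1 : h * (n * d) * h⁻¹ = h * n * h⁻¹ * (h * d * h⁻¹) := by group
        rw [e1, o.mul _ (hNV h1) _ (hDV h2), o.mul _ (hNV hn) _ (hDV hd), h0 _ h2, h0 _ hd, add_zero, add_zero,
          hA n hn]
      obtain ⟨B, hB⟩ := o.norm g hg h hh A key
      exact ⟨B, fun v hv => hB v (hNV hv)⟩ }

theorem exists_rmod_of_split [Finite G] (o : NatOver F P V D) (hVa : ∀ v ∈ V, ∀ w ∈ V, v * w = w * v) (hNV : N ≤ V)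
    (hDV : D ≤ V) (hPN : P ≤ normalizer (N : Set G)) (hPD : P ≤ normalizer (D : Set G)) (hND : N ⊓ D = ⊥)
    (hV : V ≤ N ⊔ D) : ∃ K : Subgroup G, P ≤ K ∧ Nonempty (RMod F N K) :=
  exists_rmod (natOverSplit o hVa hNV hDV hPN hPD hND hV) hPN

end split

end Cfsg.Agent.Omega.Mix

end
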