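import Cfsg.Agent.Mrg.Omega.Mix.Pts
import Cfsg.Agent.Omega.Mix.Pairing
import Mathlib

section


/-!
# The lines `V^h`, `h ∈ N(R)`, of a natural module `V` as lines of `W = LL V R R` (TEXT MIX (6))
-/

set_option autoImplicit false
set_option linter.unusedSectionVars false

namespace Cfsg.Agent.Omega.Mix

open Subgroup Cfsg.Agent.Lib.SL2Mat Cfsg.Agent.Omega.BTwo
open Cfsg.Agent.Omega.NatPair (dt dt_smul exists_smul_of_dt exists_comb ap ap_smul ap_zero' ap_one' ap_mul ap_inv_ap ap_ap_inv ap_one)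

variable {G : Type*} [Group G] {F : Type*} [Field F] {V H₀ : Subgroup G} (M : RMod F V H₀)

/-- the elements inducing transvections with axis (and centre) `R` on all the lines `V^h`, `h ∈ N(R)` -/
def ZZ (w : Fin 2 → F) (R : Subgroup G) : Set G := {g | ∀ h ∈ normalizer (R : Set G), h⁻¹ * g * h ∈ M.UW w}

theorem fix_sub {B : Matrix.SpecialLinearGroup (Fin 2) F} {w : Fin 2 → F} (hw : w ≠ 0) (hB : ap B w = w)
    (x : Fin 2 → F) : ∃ t : F, x - ap B x = t • w := by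
  apply exists_smul_of_dt hw
  have h2 : dt (ap B w) (ap B x) = dt w x := by
    unfold dt
    rw [ap_zero', ap_zero', ap_one', ap_one']
    linear_combination (w 0 * x 1 - w 1 * x 0) * det_eq B
  rw [hB] at h2
  unfold dt at h2 ⊢
  rw [Pi.sub_apply, Pi.sub_apply]
  linear_combination -h2

/-- `[e x, g] = e (x - B x)` -/
theorem comm_ind {g : G} {B : Matrix.SpecialLinearGroup (Fin 2) F} (hg : M.Ind g B) (x : Fin 2 → F) :
    M.e x * g * (M.e x)⁻¹ * g⁻¹ = M.e (x - ap B x) := by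
  rw [M.e_sub, ← hg x]
  group

theorem conj_comm (h a g : G) :
    h * a * h⁻¹ * g * (h * a * h⁻¹)⁻¹ * g⁻¹ = h * (a * (h⁻¹ * g * h) * a⁻¹ * (h⁻¹ * g * h)⁻¹) * h⁻¹ := by
  group

variable {w : Fin 2 → F} (hw : w ≠ 0) {R : Subgroup G} (hR : R = M.line w)

include hR in
theorem ZZ_comm {g : G} (hg : g ∈ ZZ M w R) {r : G} (hr : r ∈ R) : r * g = g * r := by
  have h1 := hg 1 (one_mem _)
  rw [inv_one, one_mul, mul_one] at h1
  obtain ⟨B, hB, hB'⟩ := h1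
  rw [hR] at hr
  obtain ⟨c, rfl⟩ := hr
  have h2 := hB' (c • w)
  rw [ap_smul, hB] at h2
  exact (mul_inv_eq_iff_eq_mul.1 h2).symm

include hw hR in
theorem ZZ_line {g : G} (hg : g ∈ ZZ M w R) {h : G} (hh : h ∈ normalizer (R : Set G)) {a : G} (ha : a ∈ cj h V) :
    a * g * a⁻¹ * g⁻¹ ∈ R := by
  obtain ⟨v, hv, rfl⟩ := ha
  obtain ⟨x, rfl⟩ := (M.mem_iff v).1 hv
  show h * M.e x * h⁻¹ * g * (h * M.e x * h⁻¹)⁻¹ * g⁻¹ ∈ R
  rw [conj_comm]
  obtain ⟨B, hB, hB'⟩ := hg h hh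
  rw [comm_ind M hB']
  obtain ⟨t, ht⟩ := fix_sub hw hB x
  rw [ht]
  refine conj_mem_of_normalizer hh ?_
  rw [hR]
  exact ⟨t, rfl⟩

include hw hR in
theorem ZZ_tst (hc : ∀ a ∈ LL V R R, ∀ b ∈ LL V R R, a * b = b * a) {g : G} (hg : g ∈ ZZ M w R) :
    Tst (LL V R R) R g where
  cR := fun r hr => ZZ_comm M hR hg hr
  cm := fun a ha => by
    have hRW : R ≤ LL V R R := by
      refine le_trans ?_ (V_le_LL V R)
      rw [hR]
      exact M.line_le w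
    have h : a ∈ LL V R R ∧ a * g * a⁻¹ * g⁻¹ ∈ R := by
      refine iSup_induction (fun g : {g : G // cj g R = R} => cj (g : G) V)
        (C := fun a => a ∈ LL V R R ∧ a * g * a⁻¹ * g⁻¹ ∈ R) ha ?_ ?_ ?_
      · intro h x hx
        exact ⟨le_iSup (fun g : {g : G // cj g R = R} => cj (g : G) V) h hx,
          ZZ_line M hw hR hg (cj_eq_self_iff.1 h.2) hx⟩
      · refine ⟨one_mem _, ?_⟩
        have : (1 : G) * g * 1⁻¹ * g⁻¹ = 1 := by group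
        rw [this]; exact one_mem _
      · rintro x y ⟨hx, hx'⟩ ⟨hy, hy'⟩
        refine ⟨mul_mem hx hy, ?_⟩
        have e : x * y * g * (x * y)⁻¹ * g⁻¹ = (x * (y * g * y⁻¹ * g⁻¹) * x⁻¹) * (x * g * x⁻¹ * g⁻¹) := by group
        rw [e, hc x hx _ (hRW hy'), mul_inv_cancel_right]
        exact mul_mem hy' hx'
    exact h.2

section lines

variable {K : Type*} [Field K] {κ : K → G} {W' : Subgroup G} (p : Pai κ (LL V R R) W' R)
  (hZ : (W' : Set G) ⊆ ZZ M w R)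

include p hw hR in
/-- coordinates of the points of `V^h` -/
theorem exists_T {h : G} (hh : h ∈ normalizer (R : Set G)) :
    ∃ T : K → F, ∃ T' : F → K, (∀ z : K, M.e (T z • w) = h⁻¹ * κ z * h) ∧ (∀ c, T (T' c) = c) ∧ (∀ z, T' (T z) = z) ∧
      T 0 = 0 := by
  have h1 : ∀ z : K, ∃ c : F, M.e (c • w) = h⁻¹ * κ z * h := by
    intro z
    have h2 : κ z ∈ R := (p.κ_mem _).2 ⟨z, rfl⟩
    have h3 := conj_inv_mem_of_normalizer hh h2
    have h4 : h⁻¹ * κ z * h ∈ M.line w := by rw [← hR]; exact h3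
    exact h4
  choose T hT using h1
  have h2 : ∀ c : F, ∃ z : K, κ z = h * M.e (c • w) * h⁻¹ := by
    intro c
    refine (p.κ_mem _).1 (conj_mem_of_normalizer hh ?_)
    rw [hR]
    exact ⟨c, rfl⟩
  choose T' hT' using h2
  refine ⟨T, T', hT, ?_, ?_, ?_⟩
  · intro c
    apply smul_left_injective F hw
    apply M.e_inj
    show M.e (T (T' c) • w) = M.e (c • w)
    rw [hT, hT']; group
  · intro z
    apply p.κ_inj
    rw [hT', hT]; group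
  · apply smul_left_injective F hw
    apply M.e_inj
    show M.e (T 0 • w) = M.e ((0 : F) • w)
    rw [hT, p.κ_zero, zero_smul, M.e_zero]; group

include p hw hR in
/-- the commutator of `V^h` with an element of `ZZ` -/
theorem T_fm {h : G} (hh : h ∈ normalizer (R : Set G)) {T : K → F} (hT : ∀ z, M.e (T z • w) = h⁻¹ * κ z * h)
    {g : G} (hg : g ∈ ZZ M w R) {x : Fin 2 → F} {B : Matrix.SpecialLinearGroup (Fin 2) F}
    (hB : M.Ind (h⁻¹ * g * h) B) {t : F} (ht : x - ap B x = t • w) : T (fm κ (h * M.e x * h⁻¹) g) = t := by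
  have hc := p.comm
  have h1 : h * M.e x * h⁻¹ ∈ LL V R R :=
    cj_le_LL (cj_eq_self_iff.2 hh) (conj_mem_cj (M.e_mem x))
  apply smul_left_injective F hw
  apply M.e_inj
  show M.e (T _ • w) = M.e (t • w)
  rw [hT, p.spec h1 (ZZ_tst M hw hR hc hg), conj_comm, comm_ind M hB, ht]
  group

include p hw hR hZ in
theorem ln {h : G} (hh : h ∈ normalizer (R : Set G)) : Ln κ (LL V R R) W' (cj h V) (ZZ M w R) where
  le := cj_le_LL (cj_eq_self_iff.2 hh)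
  full := by
    rintro b hb ⟨_, ⟨v, hv, rfl⟩, hne⟩ c
    obtain ⟨T, T', hT, hTT', hT'T, hT0⟩ := exists_T M hw hR p hh
    obtain ⟨x, rfl⟩ := (M.mem_iff v).1 hv
    have hbZ := hZ hb
    obtain ⟨B, hB, hB'⟩ := hbZ h hh
    obtain ⟨t, ht⟩ := fix_sub hw hB x
    have h1 := T_fm M hw hR p hh hT hbZ hB' ht
    have h2 : h * M.e x * h⁻¹ ∈ LL V R R := cj_le_LL (cj_eq_self_iff.2 hh) (conj_mem_cj (M.e_mem x))
    have ht0 : t ≠ 0 := by
      rintro rfl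
      apply hne
      have h3 : fm κ (h * M.e x * h⁻¹) b = 0 := by rw [← hT'T (fm κ _ b), h1, ← hT0, hT'T]
      exact (p.fm_eq_zero h2 (p.tst hb)).1 h3
    refine ⟨h * M.e ((T c * t⁻¹) • x) * h⁻¹, conj_mem_cj (M.e_mem _), ?_⟩
    have h3 : (T c * t⁻¹) • x - ap B ((T c * t⁻¹) • x) = T c • w := by
      rw [ap_smul, ← smul_sub, ht, smul_smul, mul_assoc, inv_mul_cancel₀ ht0, mul_one]
    rw [← hT'T (fm κ _ b), T_fm M hw hR p hh hT hbZ hB' h3, hT'T]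
  trs := by
    intro c d hc
    obtain ⟨T, T', hT, hTT', hT'T, hT0⟩ := exists_T M hw hR p hh
    have hTc : T c ≠ 0 := by
      intro h
      apply hc
      rw [← hT'T c, h, ← hT0, hT'T]
    refine ⟨fun z => T' (T d * (T c)⁻¹ * T z), ?_, ?_⟩
    · show T' (T d * (T c)⁻¹ * T c) = d
      rw [mul_assoc, inv_mul_cancel₀ hTc, mul_one, hT'T]
    · rintro _ ⟨v, hv, rfl⟩
      obtain ⟨x, rfl⟩ := (M.mem_iff v).1 hv
      refine ⟨h * M.e ((T d * (T c)⁻¹) • x) * h⁻¹, conj_mem_cj (M.e_mem _), fun b hb => ?_⟩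
      obtain ⟨B, hB, hB'⟩ := hb h hh
      obtain ⟨t, ht⟩ := fix_sub hw hB x
      have h3 : (T d * (T c)⁻¹) • x - ap B ((T d * (T c)⁻¹) • x) = (T d * (T c)⁻¹ * t) • w := by
        rw [ap_smul, ← smul_sub, ht, smul_smul]
      show fm κ (h * M.e ((T d * (T c)⁻¹) • x) * h⁻¹) b = T' (T d * (T c)⁻¹ * T (fm κ (h * M.e x * h⁻¹) b))
      rw [T_fm M hw hR p hh hT hb hB' ht, ← T_fm M hw hR p hh hT hb hB' h3, hT'T]

include p hw hR in
theorem T_ne {h : G} {T : K → F} {T' : F → K} (hT'T : ∀ z, T' (T z) = z) (hT0 : T 0 = 0) {z : K} (hz : z ≠ 0) :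
    T z ≠ 0 := by
  have _ := h
  have _ := p
  have _ := hw
  have _ := hR
  intro h1
  apply hz
  rw [← hT'T z, h1, ← hT0, hT'T]

include p hw hR in
/-- the scalar `c` on the line `V^h`, explicitly -/
theorem sc_line {h : G} (hh : h ∈ normalizer (R : Set G)) {T : K → F} {T' : F → K}
    (hT : ∀ z, M.e (T z • w) = h⁻¹ * κ z * h) (hT'T : ∀ z, T' (T z) = z) (c : F) :
    ∀ a ∈ cj h V, ∃ a' ∈ cj h V, ∀ b ∈ ZZ M w R, fm κ a' b = T' (c * T (fm κ a b)) := by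
  rintro _ ⟨v, hv, rfl⟩
  obtain ⟨x, rfl⟩ := (M.mem_iff v).1 hv
  refine ⟨h * M.e (c • x) * h⁻¹, conj_mem_cj (M.e_mem _), fun b hb => ?_⟩
  obtain ⟨B, hB, hB'⟩ := hb h hh
  obtain ⟨t, ht⟩ := fix_sub hw hB x
  have h3 : c • x - ap B (c • x) = (c * t) • w := by rw [ap_smul, ← smul_sub, ht, smul_smul]
  show fm κ (h * M.e (c • x) * h⁻¹) b = T' (c * T (fm κ (h * M.e x * h⁻¹) b))
  rw [T_fm M hw hR p hh hT hb hB' ht, ← T_fm M hw hR p hh hT hb hB' h3, hT'T]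

end lines

section base

include hw in
/-- the base line -/
theorem lin_base {W' : Subgroup G} (hR : R = M.line w) (p : Pai (fun c : F => M.e (c • w)) (LL V R R) W' R) :
    Lin (fun c : F => M.e (c • w)) (ZZ M w R) V := by
  intro c a ha
  obtain ⟨x, rfl⟩ := (M.mem_iff a).1 ha
  refine ⟨M.e (c • x), M.e_mem _, fun b hb => ?_⟩
  obtain ⟨B, hB, hB'⟩ := hb 1 (one_mem _)
  obtain ⟨t, ht⟩ := fix_sub hw hB x
  have h3 : c • x - ap B (c • x) = (c * t) • w := by rw [ap_smul, ← smul_sub, ht, smul_smul]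
  have hT : ∀ z : F, M.e (z • w) = (1 : G)⁻¹ * (fun c : F => M.e (c • w)) z * 1 := by
    intro z
    show M.e (z • w) = 1⁻¹ * M.e (z • w) * 1
    group
  have h1 := T_fm M hw hR p (one_mem _) (T := fun z => z) hT hb hB' ht
  have h2 := T_fm M hw hR p (one_mem _) (T := fun z => z) hT hb hB' h3
  have e : ∀ y : G, (1 : G) * y * 1⁻¹ = y := fun y => by group
  rw [e] at h1 h2
  have h1' : fm (fun c : F => M.e (c • w)) (M.e x) b = t := h1
  have h2' : fm (fun c : F => M.e (c • w)) (M.e (c • x)) b = c * t := h2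
  rw [h1', h2']

end base

include hw hR in
/-- an element of `ZZ` centralising a vector of `V^h - R` centralises `V^h` -/
theorem comm_line {g : G} (hg : g ∈ ZZ M w R) {h : G} (hh : h ∈ normalizer (R : Set G)) {a : G} (ha : a ∈ cj h V)
    (haR : a ∉ R) (hag : a * g = g * a) : ∀ a' ∈ cj h V, a' * g = g * a' := by
  obtain ⟨v, hv, rfl⟩ := ha
  obtain ⟨x, rfl⟩ := (M.mem_iff v).1 hv
  obtain ⟨B, hB, hB'⟩ := hg h hh
  have e1 : ∀ y : Fin 2 → F, (h * M.e y * h⁻¹) * g = g * (h * M.e y * h⁻¹) ↔ ap B y = y := by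
    intro y
    rw [← M.e_inj.eq_iff, ← hB' y]
    constructor
    · intro h1
      calc h⁻¹ * g * h * M.e y * (h⁻¹ * g * h)⁻¹ = h⁻¹ * (g * (h * M.e y * h⁻¹)) * g⁻¹ * h := by group
        _ = h⁻¹ * (h * M.e y * h⁻¹ * g) * g⁻¹ * h := by rw [h1]
        _ = M.e y := by group
    · intro h1
      have h2 : g * (h * M.e y * h⁻¹) * g⁻¹ = h * M.e y * h⁻¹ := by
        calc g * (h * M.e y * h⁻¹) * g⁻¹ = h * (h⁻¹ * g * h * M.e y * (h⁻¹ * g * h)⁻¹) * h⁻¹ := by group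
          _ = h * M.e y * h⁻¹ := by rw [h1]
      exact (mul_inv_eq_iff_eq_mul.1 h2).symm
  have hx : ap B x = x := (e1 x).1 hag
  have hwx : dt w x ≠ 0 := by
    intro h0
    obtain ⟨d, rfl⟩ := exists_smul_of_dt hw h0
    apply haR
    refine conj_mem_of_normalizer hh ?_
    rw [hR]
    exact ⟨d, rfl⟩
  rintro _ ⟨v', hv', rfl⟩
  obtain ⟨y, rfl⟩ := (M.mem_iff v').1 hv'
  refine (e1 y).2 ?_
  obtain ⟨α, β, rfl⟩ := exists_comb hwx y
  rw [NatPair.ap_add, ap_smul, ap_smul, hB, hx]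

end Cfsg.Agent.Omega.Mix

end

section


/-!
# TEXT MIX (6), (7) (bb OMEGA #12374): one field on `R`, duality of `W₁ / R` and `W₂ / R`, all points are lines

`W₁ = LL V₁ R R`, `W₂ = LL V₂ R R` abelian, `C_G(W₁W₂) = R`.

* `FIn.lin₁`, `FIn.lin₂` : `F₁` acts on `W₁ / R` and on `W₂ / R` such that the commutator is bilinear;
* `FIn.mem_W` : `C_H(W / R) = W` in the form `ZZ ∩ ZZ ≤ W₁W₂`; `FIn.Q_eq`; `FIn.cen_W₁` : `C_G(W₁) = W₁`;
* `FIn.perp` : `C_{W₁}(C_{W₂}(V₁)) = V₁`;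
* `FIn.tv` : `[a, T_j] = R_j` for `a ∈ W₁ - V₁`; `FIn.cover` : `W₁` is the union of the lines `V₁^h`, `h ∈ N(R)`.
-/

set_option autoImplicit false
set_option linter.unusedSectionVars false

namespace Cfsg.Agent.Omega.Mix

open Subgroup Cfsg.Agent.Lib.SL2Mat Cfsg.Agent.Omega.BTwo
open Cfsg.Agent.Omega.NatPair (dt dt_smul exists_smul_of_dt exists_comb ap ap_smul ap_zero' ap_one' ap_mul
  ap_inv_ap ap_ap_inv ap_one)

variable {G : Type*} [Group G]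

/-- the point `R` of `V` as an index -/
def pt₀ {F : Type*} [Field F] {V N : Subgroup G} (M : RMod F V N) {w : Fin 2 → F} (hw : w ≠ 0) {R : Subgroup G}
    (hR : R = M.line w) : Pt M := ⟨R, w, hw, hR⟩

theorem not_le_line {F : Type*} [Field F] {V N : Subgroup G} (M : RMod F V N) {w : Fin 2 → F} (hw : w ≠ 0) :
    ¬ V ≤ M.line w := by
  intro h
  obtain ⟨u, hu⟩ := exists_dt hw
  obtain ⟨c, hc⟩ := M.e_mem_line.1 (h (M.e_mem u))
  rw [hc, dt_smul, dt_self, mul_zero] at hu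
  exact hu rfl

/-- the input of (6), (7) -/
structure FIn {F₁ F₂ : Type*} [Field F₁] [Field F₂] {V₁ V₂ N₁ N₂ : Subgroup G} (M₁ : RMod F₁ V₁ N₁)
    (M₂ : RMod F₂ V₂ N₂)
    (R : Subgroup G) (w₁ : Fin 2 → F₁) (w₂ : Fin 2 → F₂) : Prop where
  ne₁ : w₁ ≠ 0
  ne₂ : w₂ ≠ 0
  line₁ : R = M₁.line w₁
  line₂ : R = M₂.line w₂
  Q₁ : QQ R ≤ M₁.UW w₁
  Q₂ : QQ R ≤ M₂.UW w₂
  VQ₁ : V₁ ≤ QQ R
  VQ₂ : V₂ ≤ QQ R
  comm₁ : ∀ a ∈ LL V₁ R R, ∀ b ∈ LL V₁ R R, a * b = b * a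
  comm₂ : ∀ a ∈ LL V₂ R R, ∀ b ∈ LL V₂ R R, a * b = b * a
  cen : centralizer ((LL V₁ R R ⊔ LL V₂ R R : Subgroup G) : Set G) ≤ R
  side₁ : SideM M₁ (fun i => LL V₂ R (pt M₁ i)) (fun i => LL V₁ R (pt M₁ i))
  side₂ : SideM M₂ (fun i => LL V₁ R (pt M₂ i)) (fun i => LL V₂ R (pt M₂ i))

/-- coordinates on `R` -/
def kap {F : Type*} [Field F] {V N : Subgroup G} (M : RMod F V N) (w : Fin 2 → F) (c : F) : G := M.e (c • w)

theorem mem_cen_sup {A B : Subgroup G} {g : G} (h1 : ∀ a ∈ A, g * a = a * g) (h2 : ∀ b ∈ B, g * b = b * g) :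
    g ∈ centralizer ((A ⊔ B : Subgroup G) : Set G) := by
  have : (A ⊔ B : Subgroup G) ≤ centralizer ({g} : Set G) := by
    refine sup_le ?_ ?_
    · intro a ha
      rw [mem_centralizer_iff]
      intro z hz
      rw [Set.mem_singleton_iff.1 hz]
      exact h1 a ha
    · intro a ha
      rw [mem_centralizer_iff]
      intro z hz
      rw [Set.mem_singleton_iff.1 hz]
      exact h2 a ha
  rw [mem_centralizer_iff]
  intro x hx
  exact (mem_centralizer_iff.1 (this hx) g rfl).symm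

namespace FIn

variable {F₁ F₂ : Type*} [Field F₁] [Field F₂] {V₁ V₂ N₁ N₂ : Subgroup G} {M₁ : RMod F₁ V₁ N₁} {M₂ : RMod F₂ V₂ N₂}
  {R : Subgroup G} {w₁ : Fin 2 → F₁} {w₂ : Fin 2 → F₂} (f : FIn M₁ M₂ R w₁ w₂)
include f

theorem symm : FIn M₂ M₁ R w₂ w₁ where
  ne₁ := f.ne₂
  ne₂ := f.ne₁
  line₁ := f.line₂
  line₂ := f.line₁
  Q₁ := f.Q₂
  Q₂ := f.Q₁
  VQ₁ := f.VQ₂
  VQ₂ := f.VQ₁
  comm₁ := f.comm₂
  comm₂ := f.comm₁
  cen := by rw [sup_comm]; exact f.cen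
  side₁ := f.side₂
  side₂ := f.side₁

theorem R_V₁ : R ≤ V₁ := by
  rw [f.line₁]
  exact M₁.line_le w₁

theorem R_W₁ : R ≤ LL V₁ R R := f.R_V₁.trans (V_le_LL V₁ R)

theorem W₁_Q : LL V₁ R R ≤ QQ R := by
  refine LL_le fun g hg => ?_
  rw [cj_le_iff]
  intro x hx
  exact conj_mem_of_normalizer (le_normalizer_O2 _ (cj_eq_self_iff.1 hg)) (f.VQ₁ hx)

theorem U₁ : LL V₂ R R ≤ M₁.UW w₁ := f.symm.W₁_Q.trans f.Q₁

theorem Q_ZZ : (QQ R : Set G) ⊆ ZZ M₁ w₁ R := by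
  intro g hg h hh
  exact f.Q₁ (conj_inv_mem_of_normalizer (le_normalizer_O2 _ hh) hg)

/-- `W₂ ⊆ ZZ M₁` -/
theorem W₂_ZZ : (LL V₂ R R : Set G) ⊆ ZZ M₁ w₁ R := fun _ hg => f.Q_ZZ (f.symm.W₁_Q hg)

/-- `W₁ ⊆ ZZ M₁` -/
theorem W₁_ZZ : (LL V₁ R R : Set G) ⊆ ZZ M₁ w₁ R := fun _ hg => f.Q_ZZ (f.W₁_Q hg)

theorem pai : Pai (kap M₁ w₁) (LL V₁ R R) (LL V₂ R R) R where
  κ_add := fun c d => by
    show M₁.e ((c + d) • w₁) = M₁.e (c • w₁) * M₁.e (d • w₁)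
    rw [add_smul, M₁.e_add]
  κ_inj := fun c d h => smul_left_injective F₁ f.ne₁ (M₁.e_inj h)
  κ_mem := fun g => by
    have h1 : g ∈ R ↔ g ∈ M₁.line w₁ := by rw [← f.line₁]
    exact h1
  comm := f.comm₁
  comm' := f.comm₂
  R_le := f.R_W₁
  R_le' := f.symm.R_W₁
  cm := fun a ha b hb => (ZZ_tst M₁ f.ne₁ f.line₁ f.comm₁ (f.W₂_ZZ hb)).cm a ha
  nd := fun a ha h => f.cen (mem_cen_sup (fun b hb => f.comm₁ a ha b hb) h)
  nd' := fun b hb h => f.cen (mem_cen_sup (fun a ha => (h a ha).symm) (fun c hc => f.comm₂ b hb c hc))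

theorem tst₁ {g : G} (hg : g ∈ ZZ M₁ w₁ R) : Tst (LL V₁ R R) R g := ZZ_tst M₁ f.ne₁ f.line₁ f.comm₁ hg

/-- `V₁` and a line of type 1 have a common non-commuting line of type 2 -/
theorem common [Finite G] {h : G} (hh : h ∈ normalizer (R : Set G)) :
    ∃ g ∈ normalizer (R : Set G), (∃ a ∈ V₁, ∃ b ∈ cj g V₂, a * b ≠ b * a) ∧
      ∃ a ∈ cj h V₁, ∃ b ∈ cj g V₂, a * b ≠ b * a := by
  by_contra hc
  push Not at hc
  have p := f.pai
  set i₀ : Pt M₁ := pt₀ M₁ f.ne₁ f.line₁ with hi₀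
  have hRi : pt M₁ i₀ = R := rfl
  obtain ⟨j, hj, -⟩ := f.side₁.third i₀ i₀
  -- a line of type 2 not commuting with `V₁`
  obtain ⟨g₀, hg₀, v₀, hv₀, b₀, hb₀, hne⟩ : ∃ g ∈ normalizer (R : Set G), ∃ a ∈ V₁, ∃ b ∈ cj g V₂, a * b ≠ b * a := by
    by_contra hc2
    push Not at hc2
    have h1 : V₁ ≤ R := by
      intro v hv
      refine p.nd v (V_le_LL V₁ R hv) ?_
      have h2 : LL V₂ R R ≤ centralizer ({v} : Set G) := by
        refine LL_le fun g hg b hb => ?_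
        rw [mem_centralizer_iff]
        intro z hz
        rw [Set.mem_singleton_iff.1 hz]
        exact hc2 g (cj_eq_self_iff.1 hg) v hv b hb
      intro b hb
      exact mem_centralizer_iff.1 (h2 hb) v rfl
    rw [f.line₁] at h1
    exact not_le_line M₁ f.ne₁ h1
  have hb₀W : b₀ ∈ LL V₂ R R := cj_le_LL (cj_eq_self_iff.2 hg₀) hb₀
  have hb₀V : ¬ ∀ v ∈ V₁, b₀ * v = v * b₀ := fun h1 => hne (h1 v₀ hv₀).symm
  have h2 : ∀ u ∈ TT V₁ (LL V₂ R R), ∀ a ∈ cj h V₁, a * u = u * a := by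
    intro u hu a ha
    obtain ⟨t, ht, rfl⟩ := f.side₁.surj (i := i₀) (j := j) (Ne.symm hj) hb₀W hb₀V hu
    have htN : t ∈ normalizer (R : Set G) := f.side₁.cV_le_NR (mem_TT.1 ht).2 i₀
    have h3 := hc g₀ hg₀ ⟨v₀, hv₀, b₀, hb₀, hne⟩ a ha b₀ hb₀
    have h4 := hc (t * g₀) (mul_mem htN hg₀) ⟨v₀, hv₀, t * b₀ * t⁻¹, by rw [cj_mul]; exact conj_mem_cj hb₀, by
      intro h5
      apply hne
      have h6 := (mem_TT.1 ht).2 v₀ hv₀
      have h7 : t * (v₀ * b₀) * t⁻¹ = t * (b₀ * v₀) * t⁻¹ := by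
        calc t * (v₀ * b₀) * t⁻¹ = (t * v₀) * b₀ * t⁻¹ := by group
          _ = (v₀ * t) * b₀ * t⁻¹ := by rw [h6]
          _ = v₀ * (t * b₀ * t⁻¹) := by group
          _ = t * b₀ * t⁻¹ * v₀ := h5
          _ = t * b₀ * t⁻¹ * (v₀ * t) * t⁻¹ := by group
          _ = t * b₀ * t⁻¹ * (t * v₀) * t⁻¹ := by rw [h6]
          _ = t * (b₀ * v₀) * t⁻¹ := by group
      exact mul_left_cancel (mul_right_cancel h7)⟩ a ha (t * b₀ * t⁻¹) (by rw [cj_mul]; exact conj_mem_cj hb₀)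
    have h5 : a * (t * b₀ * t⁻¹)⁻¹ = (t * b₀ * t⁻¹)⁻¹ * a := by
      calc a * (t * b₀ * t⁻¹)⁻¹ = (t * b₀ * t⁻¹)⁻¹ * (t * b₀ * t⁻¹ * a) * (t * b₀ * t⁻¹)⁻¹ := by group
        _ = (t * b₀ * t⁻¹)⁻¹ * (a * (t * b₀ * t⁻¹)) * (t * b₀ * t⁻¹)⁻¹ := by rw [h4]
        _ = (t * b₀ * t⁻¹)⁻¹ * a := by group
    have e : b₀ * t * b₀⁻¹ * t⁻¹ = b₀ * (t * b₀ * t⁻¹)⁻¹ := by group
    rw [e]
    generalize (t * b₀ * t⁻¹)⁻¹ = z at h5 ⊢
    rw [← mul_assoc, h3, mul_assoc, h5, mul_assoc]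
  have h3 : cj h V₁ ≤ R := by
    intro a ha
    refine p.nd a (cj_le_LL (cj_eq_self_iff.2 hh) ha) ?_
    have h4 : LL V₂ R R ≤ centralizer ({a} : Set G) := by
      refine LL_le fun g hg b hb => ?_
      rw [mem_centralizer_iff]
      intro z hz
      rw [Set.mem_singleton_iff.1 hz]
      by_cases hgV : ∃ a ∈ V₁, ∃ b ∈ cj g V₂, a * b ≠ b * a
      · exact hc g (cj_eq_self_iff.1 hg) hgV a ha b hb
      · push Not at hgV
        exact h2 b (mem_TT.2 ⟨cj_le_LL hg hb, fun v hv => (hgV v hv b hb).symm⟩) a ha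
    intro b hb
    exact mem_centralizer_iff.1 (h4 hb) a rfl
  have h4 : V₁ ≤ R := by
    have h5 := cj_mono (g := h⁻¹) h3
    rwa [cj_inv_cj, cj_eq_self_iff.2 (inv_mem hh)] at h5
  rw [f.line₁] at h4
  exact not_le_line M₁ f.ne₁ h4

theorem line₂_of [Finite G] {g : G} (hg : g ∈ normalizer (R : Set G)) (hne : ∃ a ∈ V₁, ∃ b ∈ cj g V₂, a * b ≠ b * a) :
    Lin (kap M₁ w₁) (ZZ M₂ w₂ R) (cj g V₂) := by
  have hne' : ∃ a ∈ V₁, ∃ b ∈ cj g V₂, a * b ≠ b * a := hne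
  exact f.pai.lin_of f.W₂_ZZ f.symm.W₂_ZZ (V_le_LL V₁ R) (lin_base M₁ f.ne₁ f.line₁ f.pai)
    (ln M₂ f.ne₂ f.line₂ f.pai.symm f.symm.W₂_ZZ hg) hne'

/-- **(6), one field**: `F₁` acts on the lines of type 1 -/
theorem line₁_lin [Finite G] {h : G} (hh : h ∈ normalizer (R : Set G)) : Lin (kap M₁ w₁) (ZZ M₁ w₁ R) (cj h V₁) := by
  obtain ⟨g, hg, h1, a, ha, b, hb, hne⟩ := f.common hh
  have h2 := f.line₂_of hg h1
  exact f.pai.symm.lin_of f.symm.W₂_ZZ f.W₂_ZZ (cj_le_LL (cj_eq_self_iff.2 hg)) h2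
    (ln M₁ f.ne₁ f.line₁ f.pai f.W₂_ZZ hh) ⟨b, hb, a, ha, fun h3 => hne h3.symm⟩

/-- `F₁` acts on the lines of type 2 -/
theorem line₂_lin [Finite G] {g : G} (hg : g ∈ normalizer (R : Set G)) : Lin (kap M₁ w₁) (ZZ M₂ w₂ R) (cj g V₂) := by
  have p := f.pai
  obtain ⟨h, hh, a, ha, b, hb, hne⟩ : ∃ h ∈ normalizer (R : Set G), ∃ a ∈ cj h V₁, ∃ b ∈ cj g V₂, a * b ≠ b * a := by
    by_contra hc2
    push Not at hc2
    have h1 : cj g V₂ ≤ R := by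
      intro v hv
      refine p.nd' v (cj_le_LL (cj_eq_self_iff.2 hg) hv) ?_
      have h2 : LL V₁ R R ≤ centralizer ({v} : Set G) := by
        refine LL_le fun h hh b hb => ?_
        rw [mem_centralizer_iff]
        intro z hz
        rw [Set.mem_singleton_iff.1 hz]
        exact (hc2 h (cj_eq_self_iff.1 hh) b hb v hv).symm
      intro b hb
      exact (mem_centralizer_iff.1 (h2 hb) v rfl).symm
    have h4 : V₂ ≤ R := by
      have h5 := cj_mono (g := g⁻¹) h1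
      rwa [cj_inv_cj, cj_eq_self_iff.2 (inv_mem hg)] at h5
    rw [f.line₂] at h4
    exact not_le_line M₂ f.ne₂ h4
  exact p.lin_of f.W₂_ZZ f.symm.W₂_ZZ (cj_le_LL (cj_eq_self_iff.2 hh)) (f.line₁_lin hh)
    (ln M₂ f.ne₂ f.line₂ p.symm f.symm.W₂_ZZ hg) ⟨a, ha, b, hb, hne⟩

/-- `F₁` acts on `W₁ / R` -/
theorem lin₁ [Finite G] : Lin (kap M₁ w₁) (ZZ M₁ w₁ R) (LL V₁ R R) :=
  f.pai.lin_iSup (fun _ hb => f.tst₁ hb) (l := fun g : {g : G // cj g R = R} => cj (g : G) V₁)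
    (fun g => cj_le_LL g.2) fun g => f.line₁_lin (cj_eq_self_iff.1 g.2)

/-- `F₁` acts on `W₂ / R` -/
theorem lin₂ [Finite G] : Lin (kap M₁ w₁) (ZZ M₂ w₂ R) (LL V₂ R R) :=
  f.pai.symm.lin_iSup (fun _ hb => f.symm.tst₁ hb) (l := fun g : {g : G // cj g R = R} => cj (g : G) V₂)
    (fun g => cj_le_LL g.2) fun g => f.line₂_lin (cj_eq_self_iff.1 g.2)

/-- **(6)** `C_H(W / R) = W` -/
theorem mem_W [Finite G] {g : G} (h1 : g ∈ ZZ M₁ w₁ R) (h2 : g ∈ ZZ M₂ w₂ R) : g ∈ LL V₁ R R ⊔ LL V₂ R R := by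
  have p := f.pai
  obtain ⟨b, hb, hgb⟩ := p.exists_mem f.W₂_ZZ f.symm.W₂_ZZ (fun _ h => f.tst₁ h) f.lin₁ f.lin₂ h1
  have h3 : g * b⁻¹ ∈ ZZ M₂ w₂ R := by
    intro h hh
    have e : h⁻¹ * (g * b⁻¹) * h = (h⁻¹ * g * h) * (h⁻¹ * b * h)⁻¹ := by group
    rw [e]
    exact mul_mem (h2 h hh) (inv_mem (f.symm.W₁_ZZ hb h hh))
  obtain ⟨a, ha, hga⟩ := p.symm.exists_mem f.symm.W₂_ZZ f.W₂_ZZ (fun _ h => f.symm.tst₁ h) f.lin₂ f.lin₁ h3
  have h4 : g * b⁻¹ * a⁻¹ ∈ R := by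
    refine f.cen (mem_cen_sup ?_ hga)
    intro x hx
    have h5 := f.comm₁ _ (inv_mem ha) x hx
    rw [mul_assoc, h5, ← mul_assoc, hgb x hx, mul_assoc]
  have h5 : g * b⁻¹ * a⁻¹ * (a * b) ∈ LL V₁ R R ⊔ LL V₂ R R :=
    mul_mem (mem_sup_left (f.R_W₁ h4)) (mul_mem (mem_sup_left ha) (mem_sup_right hb))
  have e : g * b⁻¹ * a⁻¹ * (a * b) = g := by group
  rwa [e] at h5

end FIn

/-- `C(R) ∩ C(W₁ / R) ∩ C(W₂ / R)` -/
def Gam (R W W' : Subgroup G) : Subgroup G where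
  carrier := {g | g ∈ normalizer (R : Set G) ∧ (∀ r ∈ R, g * r = r * g) ∧ (∀ a ∈ W, g * a * g⁻¹ * a⁻¹ ∈ R) ∧
    ∀ a ∈ W', g * a * g⁻¹ * a⁻¹ ∈ R}
  one_mem' := by
    refine ⟨one_mem _, fun r _ => by rw [one_mul, mul_one], fun a _ => ?_, fun a _ => ?_⟩ <;>
    · have e : 1 * a * 1⁻¹ * a⁻¹ = 1 := by group
      rw [e]; exact one_mem _
  mul_mem' := by
    rintro g h ⟨g1, g2, g3, g4⟩ ⟨h1, h2, h3, h4⟩
    have key : ∀ a : G, g * a * g⁻¹ * a⁻¹ ∈ R → h * a * h⁻¹ * a⁻¹ ∈ R → g * h * a * (g * h)⁻¹ * a⁻¹ ∈ R := by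
      intro a h5 h6
      have e : g * h * a * (g * h)⁻¹ * a⁻¹ = g * (h * a * h⁻¹ * a⁻¹) * g⁻¹ * (g * a * g⁻¹ * a⁻¹) := by group
      rw [e]
      exact mul_mem (conj_mem_of_normalizer g1 h6) h5
    refine ⟨mul_mem g1 h1, fun r hr => ?_, fun a ha => key a (g3 a ha) (h3 a ha), fun a ha => key a (g4 a ha) (h4 a ha)⟩
    rw [mul_assoc, h2 r hr, ← mul_assoc, g2 r hr, mul_assoc]
  inv_mem' := by
    rintro g ⟨g1, g2, g3, g4⟩
    have key : ∀ a : G, g * a * g⁻¹ * a⁻¹ ∈ R → g⁻¹ * a * g⁻¹⁻¹ * a⁻¹ ∈ R := by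
      intro a h5
      have h6 := conj_inv_mem_of_normalizer g1 (inv_mem h5)
      have e : g⁻¹ * (g * a * g⁻¹ * a⁻¹)⁻¹ * g = g⁻¹ * a * g⁻¹⁻¹ * a⁻¹ := by group
      rwa [e] at h6
    refine ⟨inv_mem g1, fun r hr => ?_, fun a ha => key a (g3 a ha), fun a ha => key a (g4 a ha)⟩
    have h := g2 r hr
    calc g⁻¹ * r = g⁻¹ * (r * g) * g⁻¹ := by group
      _ = g⁻¹ * (g * r) * g⁻¹ := by rw [h]
      _ = r * g⁻¹ := by group

namespace FIn

variable {F₁ F₂ : Type*} [Field F₁] [Field F₂] {V₁ V₂ N₁ N₂ : Subgroup G} {M₁ : RMod F₁ V₁ N₁} {M₂ : RMod F₂ V₂ N₂}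
  {R : Subgroup G} {w₁ : Fin 2 → F₁} {w₂ : Fin 2 → F₂} (f : FIn M₁ M₂ R w₁ w₂) [Finite G]
include f

omit [Finite G] in
theorem R_sq {r : G} (hr : r ∈ R) : r * r = 1 := f.side₁.C_sq (pt₀ M₁ f.ne₁ f.line₁) r (f.R_W₁ hr)

omit [Finite G] in
theorem Gam_isPGroup : IsPGroup 2 (Gam R (LL V₁ R R) (LL V₂ R R)) := by
  have p := f.pai
  rintro ⟨g, g1, g2, g3, g4⟩
  have key : ∀ W : Subgroup G, (∀ a ∈ W, g * a * g⁻¹ * a⁻¹ ∈ R) → ∀ a ∈ W, g * g * a = a * (g * g) := by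
    intro W hW a ha
    have h1 := hW a ha
    set r := g * a * g⁻¹ * a⁻¹ with hr
    have h2 : g * a * g⁻¹ = r * a := by rw [hr]; group
    have h3 := g2 r h1
    have h4 := f.R_sq h1
    calc g * g * a = g * (g * a * g⁻¹) * g := by group
      _ = g * (r * a) * g := by rw [h2]
      _ = (g * r) * a * g := by group
      _ = (r * g) * a * g := by rw [h3]
      _ = r * (g * a * g⁻¹) * (g * g) := by group
      _ = r * (r * a) * (g * g) := by rw [h2]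
      _ = (r * r) * a * (g * g) := by group
      _ = a * (g * g) := by rw [h4, one_mul]
  have h1 : g * g ∈ R := f.cen (mem_cen_sup (key _ g3) (key _ g4))
  refine ⟨2, Subtype.ext ?_⟩
  calc g ^ (2 + 2) = g * g * (g * g) := by rw [pow_add, pow_two]
    _ = 1 := f.R_sq h1

/-- `C(R) ∩ C(W₁ / R) ∩ C(W₂ / R) ≤ O₂(N(R))` -/
theorem Gam_le : Gam R (LL V₁ R R) (LL V₂ R R) ≤ QQ R := by
  refine le_O2_of_normal (fun g hg => hg.1) f.Gam_isPGroup ?_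
  rintro x hx g ⟨g1, g2, g3, g4⟩
  have key : ∀ V : Subgroup G, (∀ a ∈ LL V R R, g * a * g⁻¹ * a⁻¹ ∈ R) →
      ∀ a ∈ LL V R R, x * g * x⁻¹ * a * (x * g * x⁻¹)⁻¹ * a⁻¹ ∈ R := by
    intro V hV a ha
    have h1 := hV _ (conj_inv_mem_of_normalizer (normalizer_le_LL V R R hx) ha)
    have h2 := conj_mem_of_normalizer hx h1
    have e : x * (g * (x⁻¹ * a * x) * g⁻¹ * (x⁻¹ * a * x)⁻¹) * x⁻¹ = x * g * x⁻¹ * a * (x * g * x⁻¹)⁻¹ * a⁻¹ := by
      group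
    rwa [e] at h2
  refine ⟨mul_mem (mul_mem hx g1) (inv_mem hx), fun r hr => ?_, key V₁ g3, key V₂ g4⟩
  have h1 := g2 _ (conj_inv_mem_of_normalizer hx hr)
  calc x * g * x⁻¹ * r = x * (g * (x⁻¹ * r * x)) * x⁻¹ := by group
    _ = x * (x⁻¹ * r * x * g) * x⁻¹ := by rw [h1]
    _ = r * (x * g * x⁻¹) := by group

/-- **(6)** `C_H(W / R) = W` -/
theorem mem_W_of {g : G} (h1 : ∀ a ∈ LL V₁ R R, g * a * g⁻¹ * a⁻¹ ∈ R) (h2 : ∀ a ∈ LL V₂ R R, g * a * g⁻¹ * a⁻¹ ∈ R)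
    (h3 : ∀ r ∈ R, g * r = r * g) : g ∈ LL V₁ R R ⊔ LL V₂ R R := by
  have hg : g ∈ normalizer (R : Set G) := by
    refine mem_normalizer_of_conj fun r hr => ?_
    rw [h3 r hr, mul_inv_cancel_right]; exact hr
  have h4 : g ∈ QQ R := f.Gam_le ⟨hg, h3, h1, h2⟩
  exact f.mem_W (f.Q_ZZ h4) (f.symm.Q_ZZ h4)

/-- **`O₂(N(R)) = W₁W₂`** -/
theorem Q_eq : QQ R = LL V₁ R R ⊔ LL V₂ R R :=
  le_antisymm (fun _ hg => f.mem_W (f.Q_ZZ hg) (f.symm.Q_ZZ hg)) (sup_le f.W₁_Q f.symm.W₁_Q)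

/-- **`C_G(W₁) = W₁`** -/
theorem cen_W₁ : centralizer (LL V₁ R R : Set G) ≤ LL V₁ R R := by
  intro g hg
  have p := f.pai
  have h1 : ∀ a ∈ LL V₁ R R, g * a = a * g := fun a ha => (mem_centralizer_iff.1 hg a ha).symm
  have h2 : ∀ r ∈ R, g * r = r * g := fun r hr => h1 r (f.R_W₁ hr)
  have h3 : g ∈ normalizer (R : Set G) := by
    refine mem_normalizer_of_conj fun r hr => ?_
    rw [h2 r hr, mul_inv_cancel_right]; exact hr
  have h4 : ∀ b ∈ LL V₂ R R, g * b * g⁻¹ * b⁻¹ ∈ R := by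
    intro b hb
    have h5 : g * b * g⁻¹ * b⁻¹ ∈ LL V₂ R R :=
      mul_mem (conj_mem_of_normalizer (normalizer_le_LL V₂ R R h3) hb) (inv_mem hb)
    refine p.nd' _ h5 fun a ha => ?_
    have hbN : b ∈ normalizer (R : Set G) := by
      refine mem_normalizer_of_conj fun r hr => ?_
      rw [← p.R_comm' hr hb, mul_inv_cancel_right]; exact hr
    have h6 : b * g⁻¹ * b⁻¹ ∈ centralizer (LL V₁ R R : Set G) :=
      conj_mem_of_normalizer (normalizer_le_normalizer_centralizer _ (normalizer_le_LL V₁ R R hbN)) (inv_mem hg)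
    have h7 : g * (b * g⁻¹ * b⁻¹) ∈ centralizer (LL V₁ R R : Set G) := mul_mem hg h6
    have e : g * b * g⁻¹ * b⁻¹ = g * (b * g⁻¹ * b⁻¹) := by group
    rw [e]
    exact mem_centralizer_iff.1 h7 a ha
  have h5 := f.mem_W_of (fun a ha => by rw [h1 a ha, mul_inv_cancel_right, mul_inv_cancel]; exact one_mem _) h4 h2
  -- `g = a b`
  have hn : LL V₁ R R ≤ normalizer (LL V₂ R R : Set G) := by
    intro a ha
    apply normalizer_le_LL V₂ R R
    refine mem_normalizer_of_conj fun r hr => ?_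
    rw [← p.R_comm hr ha, mul_inv_cancel_right]; exact hr
  obtain ⟨a, ha, b, hb, rfl⟩ : ∃ a ∈ LL V₁ R R, ∃ b ∈ LL V₂ R R, a * b = g := by
    have h6 : g ∈ (((LL V₁ R R ⊔ LL V₂ R R : Subgroup G)) : Set G) := h5
    rw [coe_mul_of_left_le_normalizer_right _ _ hn] at h6
    exact Set.mem_mul.1 h6
  have hbR : b ∈ R := by
    refine p.nd' b hb fun x hx => ?_
    have h7 := h1 x hx
    have h8 := f.comm₁ a ha x hx
    have h9 : a * (b * x) = a * (x * b) := by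
      calc a * (b * x) = a * b * x := by group
        _ = x * (a * b) := h7
        _ = (a * x) * b := by rw [h8]; group
        _ = a * (x * b) := by group
    exact (mul_left_cancel h9).symm
  exact mul_mem ha (f.R_W₁ hbR)

end FIn

/-! ### (7) -/

namespace Side

variable {ι : Type*} {V : Subgroup G} {R B C : ι → Subgroup G} (s : Side V R B C)
include s

theorem CB' {i : ι} {b c : G} (hb : b ∈ B i) (hc : c ∈ C i) : b * c * b⁻¹ * c⁻¹ ∈ R i := by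
  have := inv_mem (s.CB i c hc b hb)
  have e : (c * b * c⁻¹ * b⁻¹)⁻¹ = b * c * b⁻¹ * c⁻¹ := by group
  rwa [e] at this

/-- an element of `B i` outside `C(V)` maps `R j` onto `R i` -/
theorem surjR [Finite G] {i j : ι} (hij : i ≠ j) {b : G} (hb : b ∈ B i) (hbV : ¬ ∀ v ∈ V, b * v = v * b) {u : G}
    (hu : u ∈ R i) : ∃ r ∈ R j, b * r * b⁻¹ * r⁻¹ = u := by
  let g : R j → R i := fun r => ⟨b * r * b⁻¹ * (r : G)⁻¹, s.CB' hb (s.V_C i (s.R_V j r.2))⟩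
  have hg : Function.Injective g := by
    intro x y hxy
    have h1 : b * (x : G) * b⁻¹ * (x : G)⁻¹ = b * (y : G) * b⁻¹ * (y : G)⁻¹ := congrArg Subtype.val hxy
    have h2 : b * ((y : G)⁻¹ * x) = (y : G)⁻¹ * x * b := comm_of_comm_eq h1
    have h4 := s.inj hij hb hbV (mul_mem (inv_mem (s.R_B j y.2)) (s.R_B j x.2)) h2
    exact Subtype.ext (inv_mul_eq_one.1 h4).symm
  have hc : Nat.card (R j) = Nat.card (R i) := by
    obtain ⟨m, -, -, x, hx, e⟩ := s.trans_B j i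
    rw [← e, card_cj]
  obtain ⟨r, hr⟩ := ((Nat.bijective_iff_injective_and_card g).2 ⟨hg, hc⟩).2 ⟨u, hu⟩
  exact ⟨r, r.2, congrArg Subtype.val hr⟩

/-- `C i ∩ B j = R j` -/
theorem CB_inf [Finite G] {i j : ι} (hij : i ≠ j) {x : G} (h1 : x ∈ C i) (h2 : x ∈ B j) : x ∈ R j := by
  obtain ⟨b, hb, hbV⟩ := s.exists_move hij
  obtain ⟨r, hr, h⟩ := s.surjR hij hb hbV (s.CB' hb h1)
  have h3 : b * (r⁻¹ * x) = r⁻¹ * x * b := comm_of_comm_eq h.symm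
  have h4 := s.inj hij hb hbV (mul_mem (inv_mem (s.R_B j hr)) h2) h3
  rw [inv_mul_eq_one] at h4
  rw [← h4]
  exact hr

theorem comm_CT [Finite G] {i j : ι} (hij : i ≠ j) {a t : G} (ha : a ∈ C i) (ht : t ∈ TT V (B j)) :
    a * t * a⁻¹ * t⁻¹ ∈ R j := by
  have haV := s.C_V ha
  have htV := (mem_TT.1 ht).2
  refine s.CB_inf hij ?_ ?_
  · have h1 := conj_mem_of_normalizer (s.nC i (s.cV_le_NR htV i)) (inv_mem ha)
    have e : a * t * a⁻¹ * t⁻¹ = a * (t * a⁻¹ * t⁻¹) := by group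
    rw [e]
    exact mul_mem ha h1
  · exact TT_le _ _ (s.comm_mem_T haV (TT_le _ _ ht))

/-- `[b, [a, t]] = [a, [b, t]]` -/
theorem jac [Finite G] {i j : ι} (hij : i ≠ j) {a b t : G} (ha : a ∈ C i) (hb : b ∈ B i) (ht : t ∈ TT V (B j)) :
    b * (a * t * a⁻¹ * t⁻¹) * b⁻¹ * (a * t * a⁻¹ * t⁻¹)⁻¹ = a * (b * t * b⁻¹ * t⁻¹) * a⁻¹ * (b * t * b⁻¹ * t⁻¹)⁻¹ := by
  have htV := (mem_TT.1 ht).2
  have hs := s.comm_CT hij ha ht
  have hu := s.comm_mem_T' htV hb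
  have hρ := s.CB i a ha b hb
  set σ := a * t * a⁻¹ * t⁻¹ with hσ
  set u := b * t * b⁻¹ * t⁻¹ with hu'
  set ρ := a * b * a⁻¹ * b⁻¹ with hρ'
  have hσV : σ ∈ V := s.R_V j hs
  have hρV : ρ ∈ V := s.R_V i hρ
  have h1 : a * t * a⁻¹ = σ * t := by rw [hσ]; group
  have h2 : b * t * b⁻¹ = u * t := by rw [hu']; group
  have h3 : a * b * a⁻¹ = ρ * b := by rw [hρ']; group
  have huV := (mem_TT.1 hu).2
  have hbs := s.CB' hb (s.V_C i hσV)
  set τ := b * σ * b⁻¹ * σ⁻¹ with hτ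
  have h4 : b * σ * b⁻¹ = τ * σ := by rw [hτ]; group
  -- conjugate `b t b⁻¹ = u t` by `a`
  have h5 : (ρ * b) * (σ * t) * (ρ * b)⁻¹ = (a * u * a⁻¹) * (σ * t) := by
    rw [← h1, ← h3]
    calc a * b * a⁻¹ * (a * t * a⁻¹) * (a * b * a⁻¹)⁻¹ = a * (b * t * b⁻¹) * a⁻¹ := by group
      _ = a * (u * t) * a⁻¹ := by rw [h2]
      _ = a * u * a⁻¹ * (a * t * a⁻¹) := by group
  have hρτ : ρ * τ = τ * ρ := s.V_comm hρV (s.R_V i hbs) i
  have hρσ : ρ * σ = σ * ρ := s.V_comm hρV hσV i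
  have hρu : ρ * u = u * ρ := (huV ρ hρV).symm
  have hρt : ρ * t = t * ρ := (htV ρ hρV).symm
  have h6 : (ρ * b) * (σ * t) * (ρ * b)⁻¹ = τ * σ * u * t := by
    calc (ρ * b) * (σ * t) * (ρ * b)⁻¹ = ρ * (b * σ * b⁻¹) * (b * t * b⁻¹) * ρ⁻¹ := by group
      _ = ρ * (τ * σ) * (u * t) * ρ⁻¹ := by rw [h4, h2]
      _ = (ρ * τ) * σ * u * t * ρ⁻¹ := by group
      _ = τ * (ρ * σ) * u * t * ρ⁻¹ := by rw [hρτ]; group
      _ = τ * σ * (ρ * u) * t * ρ⁻¹ := by rw [hρσ]; group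
      _ = τ * σ * u * (ρ * t) * ρ⁻¹ := by rw [hρu]; group
      _ = τ * σ * u * t := by rw [hρt]; group
  have hσu : σ * u = u * σ := (huV σ hσV).symm
  rw [h6] at h5
  have h7 : τ * u * (σ * t) = a * u * a⁻¹ * (σ * t) := by
    rw [← h5]
    calc τ * u * (σ * t) = τ * (u * σ) * t := by group
      _ = τ * (σ * u) * t := by rw [hσu]
      _ = τ * σ * u * t := by group
  have h8 := mul_right_cancel h7
  rw [← h8, mul_inv_cancel_right]

end Side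

namespace FIn

variable {F₁ F₂ : Type*} [Field F₁] [Field F₂] {V₁ V₂ N₁ N₂ : Subgroup G} {M₁ : RMod F₁ V₁ N₁} {M₂ : RMod F₂ V₂ N₂}
  {R : Subgroup G} {w₁ : Fin 2 → F₁} {w₂ : Fin 2 → F₂} (f : FIn M₁ M₂ R w₁ w₂) [Finite G]
include f

/-- **the double perp of `V₁`** -/
theorem perp {a : G} (ha : a ∈ LL V₁ R R) (h : ∀ b ∈ TT V₁ (LL V₂ R R), a * b = b * a) : a ∈ V₁ := by
  have p := f.pai
  obtain ⟨v₀, hv₀, hv₀R⟩ : ∃ v ∈ V₁, v ∉ R := by
    by_contra hc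
    push Not at hc
    have h1 : V₁ ≤ R := hc
    rw [f.line₁] at h1
    exact not_le_line M₁ f.ne₁ h1
  have hv₀W := V_le_LL V₁ R hv₀
  obtain ⟨c, hc⟩ := p.perp_perp f.lin₂ f.symm.W₂_ZZ hv₀W ha hv₀R (by
    intro b hb hbv
    refine h b (mem_TT.2 ⟨hb, fun v hv => ?_⟩)
    obtain ⟨B, hB, hB'⟩ := f.U₁ hb
    obtain ⟨x, rfl⟩ := (M₁.mem_iff v₀).1 hv₀
    obtain ⟨y, rfl⟩ := (M₁.mem_iff v).1 hv
    have hx : ap B x = x := by
      apply M₁.e_inj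
      rw [← hB', mul_inv_eq_iff_eq_mul]
      exact hbv.symm
    have hwx : dt w₁ x ≠ 0 := by
      intro h0
      obtain ⟨d, rfl⟩ := exists_smul_of_dt f.ne₁ h0
      apply hv₀R
      rw [f.line₁]
      exact ⟨d, rfl⟩
    obtain ⟨α, β, rfl⟩ := exists_comb hwx y
    have hy : ap B (α • w₁ + β • x) = α • w₁ + β • x := by
      rw [NatPair.ap_add, ap_smul, ap_smul, hB, hx]
    rw [← mul_inv_eq_iff_eq_mul, hB', hy])
  have h1 := f.line₁_lin (one_mem _)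
  rw [cj_one] at h1
  obtain ⟨v', hv', h2⟩ := h1 c v₀ hv₀
  have h3 : a * v'⁻¹ ∈ R :=
    p.eq_mod ha (V_le_LL V₁ R hv') fun b hb => by rw [hc b hb, h2 b (f.W₂_ZZ hb)]
  have h4 := mul_mem (f.R_V₁ h3) hv'
  rwa [inv_mul_cancel_right] at h4

/-- **(7)** `[a, T j] = R j` for `a ∈ W₁ - V₁` -/
theorem tv {j : Pt M₁} (hj : pt M₁ j ≠ R) {a : G} (ha : a ∈ LL V₁ R R) (haV : a ∉ V₁) {v : G} (hv : v ∈ pt M₁ j) :
    ∃ t ∈ TT V₁ (LL V₂ R (pt M₁ j)), a * t * a⁻¹ * t⁻¹ = v := by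
  have p := f.pai
  set i₀ : Pt M₁ := pt₀ M₁ f.ne₁ f.line₁ with hi₀
  have hij : i₀ ≠ j := by
    rintro rfl
    exact hj rfl
  -- an element of `T_1` not commuting with `a`
  obtain ⟨u₀, hu₀, hne⟩ : ∃ b ∈ TT V₁ (LL V₂ R R), a * b ≠ b * a := by
    by_contra hc
    push Not at hc
    exact haV (f.perp ha hc)
  obtain ⟨b, hb, hbV⟩ := f.side₁.exists_move hij
  have hbW : b ∈ LL V₂ R R := hb
  -- the commutator `r = [b, v]`
  have hr : b * v * b⁻¹ * v⁻¹ ∈ R := f.side₁.CB' hb (f.side₁.V_C i₀ (f.side₁.R_V j hv))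
  obtain ⟨c, hc⟩ := (p.κ_mem _).1 hr
  have hu₀W := TT_le _ _ hu₀
  have hne0 : fm (kap M₁ w₁) a u₀ ≠ 0 := fun h => hne ((p.fm_eq_zero ha (p.tst hu₀W)).1 h)
  obtain ⟨u, huW, hu⟩ := p.lin_right f.lin₂ f.symm.W₂_ZZ (c * (fm (kap M₁ w₁) a u₀)⁻¹) hu₀W
  have huT : u ∈ TT V₁ (LL V₂ R R) := by
    refine mem_TT.2 ⟨huW, fun v hv => ?_⟩
    have h1 := hu v (V_le_LL V₁ R hv)
    rw [(p.fm_eq_zero (V_le_LL V₁ R hv) (p.tst hu₀W)).2 ((mem_TT.1 hu₀).2 v hv).symm, mul_zero,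
      p.fm_eq_zero (V_le_LL V₁ R hv) (p.tst huW)] at h1
    exact h1.symm
  have hau : a * u * a⁻¹ * u⁻¹ = b * v * b⁻¹ * v⁻¹ := by
    rw [← hc, ← p.spec ha (p.tst huW), hu a ha, mul_assoc, inv_mul_cancel₀ hne0, mul_one]
  obtain ⟨t, ht, htu⟩ := f.side₁.surj hij hb hbV huT
  refine ⟨t, ht, ?_⟩
  have h1 := f.side₁.jac hij ha hb ht
  rw [htu, hau] at h1
  have h2 := comm_of_comm_eq h1
  have h3 : a * t * a⁻¹ * t⁻¹ ∈ pt M₁ j := f.side₁.comm_CT hij ha ht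
  have h4 := f.side₁.inj hij hb hbV (mul_mem (inv_mem (f.side₁.R_B j hv)) (f.side₁.R_B j h3)) h2
  exact (inv_mul_eq_one.1 h4).symm

theorem V₁_split {j : Pt M₁} (hj : pt M₁ j ≠ R) {v : G} (hv : v ∈ V₁) : ∃ r ∈ R, ∃ x ∈ pt M₁ j, v = r * x := by
  obtain ⟨_, u, hu, rfl⟩ := j
  have h1 : dt w₁ u ≠ 0 := by
    intro h1
    apply hj
    show M₁.line u = R
    rw [f.line₁]
    exact (line_eq_iff_dt M₁ f.ne₁ hu).2 h1
  obtain ⟨x, rfl⟩ := (M₁.mem_iff v).1 hv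
  obtain ⟨α, β, rfl⟩ := exists_comb h1 x
  refine ⟨M₁.e (α • w₁), ?_, M₁.e (β • u), ⟨β, rfl⟩, M₁.e_add _ _⟩
  rw [f.line₁]
  exact ⟨α, rfl⟩

/-- **(7)** `W₁` is the union of the lines `V₁^h`, `h ∈ N(R)` -/
theorem cover {a : G} (ha : a ∈ LL V₁ R R) : ∃ h ∈ normalizer (R : Set G), a ∈ cj h V₁ := by
  set i₀ : Pt M₁ := pt₀ M₁ f.ne₁ f.line₁ with hi₀
  obtain ⟨j, hj, -⟩ := f.side₁.third i₀ i₀
  have hjR : pt M₁ j ≠ R := fun h => hj (f.side₁.R_index h)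
  refine iSup_induction (fun g : {g : G // cj g R = R} => cj (g : G) V₁)
    (C := fun a => ∃ h ∈ normalizer (R : Set G), a ∈ cj h V₁) ha ?_ ?_ ?_
  · intro g x hx
    exact ⟨g, cj_eq_self_iff.1 g.2, hx⟩
  · exact ⟨1, one_mem _, one_mem _⟩
  · rintro x y ⟨h, hh, hx⟩ ⟨k, hk, hy⟩
    have hx' : h⁻¹ * x * h ∈ V₁ := mem_cj.1 hx
    have hy' : h⁻¹ * y * h ∈ cj (h⁻¹ * k) V₁ := by
      rw [cj_mul]
      have := conj_mem_cj (g := h⁻¹) hy
      rwa [inv_inv] at this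
    by_cases hyV : h⁻¹ * y * h ∈ V₁
    · refine ⟨h, hh, mem_cj.2 ?_⟩
      have e : h⁻¹ * (x * y) * h = (h⁻¹ * x * h) * (h⁻¹ * y * h) := by group
      rw [e]
      exact mul_mem hx' hyV
    · have hyW : h⁻¹ * y * h ∈ LL V₁ R R := cj_le_LL (cj_eq_self_iff.2 (mul_mem (inv_mem hh) hk)) hy'
      obtain ⟨r, hr, s, hs, e⟩ := f.V₁_split hjR hx'
      obtain ⟨t, ht, hts⟩ := f.tv hjR hyW hyV hs
      have htV := (mem_TT.1 ht).2
      have htN : t ∈ normalizer (R : Set G) := f.side₁.cV_le_NR htV i₀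
      have hsV : s ∈ V₁ := f.side₁.R_V j hs
      have h1 : t⁻¹ * (h⁻¹ * y * h) * t = s * (h⁻¹ * y * h) := by
        have h2 : (h⁻¹ * y * h) * t = s * t * (h⁻¹ * y * h) := by rw [← hts]; group
        rw [mul_assoc, h2, ← htV s hsV]
        group
      have hgN : h * (t⁻¹ * (h⁻¹ * k)) ∈ normalizer (R : Set G) :=
        mul_mem hh (mul_mem (inv_mem htN) (mul_mem (inv_mem hh) hk))
      refine ⟨h * (t⁻¹ * (h⁻¹ * k)), hgN, ?_⟩
      have h3 : t⁻¹ * (h⁻¹ * y * h) * t ∈ cj (t⁻¹ * (h⁻¹ * k)) V₁ := by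
        rw [cj_mul]
        have := conj_mem_cj (g := t⁻¹) hy'
        rwa [inv_inv] at this
      have h4 : r ∈ cj (t⁻¹ * (h⁻¹ * k)) V₁ := by
        have h5 := cj_mono (g := t⁻¹ * (h⁻¹ * k)) f.R_V₁
        rw [cj_eq_self_iff.2 (mul_mem (inv_mem htN) (mul_mem (inv_mem hh) hk))] at h5
        exact h5 hr
      have h5 : h⁻¹ * x * h * (h⁻¹ * y * h) ∈ cj (t⁻¹ * (h⁻¹ * k)) V₁ := by
        have h5 := mul_mem h4 h3
        rw [h1] at h5
        rw [e, mul_assoc r s]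
        exact h5
      rw [cj_mul]
      have h6 := conj_mem_cj (g := h) h5
      have e2 : h * (h⁻¹ * x * h * (h⁻¹ * y * h)) * h⁻¹ = x * y := by group
      rwa [e2] at h6

end FIn

end Cfsg.Agent.Omega.Mix

end

section


/-!
# The Hua lemma of TEXT MIX (2)

`k` a finite field of characteristic 2, `R` a ring in which `r + r = 0`, `α β : k → R` additive with
`α 1 = 1` and `β a⁻¹` inverse to `α a` for `a ≠ 0`.  Then `β = α` and `α` is multiplicative.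
-/

set_option autoImplicit false

namespace Cfsg.Agent.Omega.Mix.Hua

variable {k R : Type*} [Field k] [Ring R]

/-- Hua's identity in the form used here (any characteristic). -/
theorem hua_gen (α β : k → R) (hα : ∀ a b, α (a + b) = α a + α b)
    (hβ : ∀ a b, β (a + b) = β a + β b)
    (hinv : ∀ a, a ≠ 0 → α a * β a⁻¹ = 1 ∧ β a⁻¹ * α a = 1) (a b : k) :
    α (a * a * b) = α a * β b * α a := by
  have hα0 : α 0 = 0 := by
    have := hα 0 0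
    rw [add_zero] at this
    exact left_eq_add.mp this
  have hβ0 : β 0 = 0 := by
    have := hβ 0 0
    rw [add_zero] at this
    exact left_eq_add.mp this
  have hαn : ∀ x, α (-x) = -α x := by
    intro x
    have := hα x (-x)
    rw [add_neg_cancel, hα0] at this
    exact (neg_eq_of_add_eq_zero_right this.symm).symm
  by_cases ha : a = 0
  · rw [ha, hα0]; simp [hα0]
  by_cases hb : b = 0
  · rw [hb, hβ0]; simp [hα0]
  by_cases hab : a * b = 1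
  · have h1 : a * a * b = a := by rw [mul_assoc, hab, mul_one]
    have h2 : b = a⁻¹ := eq_inv_of_mul_eq_one_right hab
    rw [h1, h2, (hinv a ha).1, one_mul]
  -- the generic case
  have hc : b⁻¹ - a ≠ 0 := by
    intro h
    apply hab
    have h1 : a = b⁻¹ := (sub_eq_zero.mp h).symm
    rw [h1, inv_mul_cancel₀ hb]
  have hd : a - a * a * b ≠ 0 := by
    intro h
    apply hab
    have h1 : a * (1 - a * b) = 0 := by rw [mul_sub, mul_one, ← mul_assoc]; exact h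
    rcases mul_eq_zero.mp h1 with h2 | h2
    · exact absurd h2 ha
    · exact (sub_eq_zero.mp h2).symm
  have hid : (a - a * a * b)⁻¹ = a⁻¹ + (b⁻¹ - a)⁻¹ := by
    have h1 : b⁻¹ - a = (1 - a * b) * b⁻¹ := by
      rw [sub_mul, one_mul, mul_assoc, mul_inv_cancel₀ hb, mul_one]
    have h2 : (1 - a * b) ≠ 0 := fun h => hab (sub_eq_zero.mp h).symm
    rw [h1]
    have h3 : a - a * a * b = a * (1 - a * b) := by ring
    rw [h3]
    field_simp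
    ring
  set A := α a with hA
  set A' := β a⁻¹ with hA'
  set B := β b with hB
  set B' := α b⁻¹ with hB'
  set C := α (b⁻¹ - a) with hC
  set C' := β (b⁻¹ - a)⁻¹ with hC'
  have hAA' : A * A' = 1 := (hinv a ha).1
  have hA'A : A' * A = 1 := (hinv a ha).2
  have hBB : B' * B = 1 := by
    have := (hinv b⁻¹ (inv_ne_zero hb)).1
    rwa [inv_inv] at this
  have hBB' : B * B' = 1 := by
    have := (hinv b⁻¹ (inv_ne_zero hb)).2
    rwa [inv_inv] at this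
  have hCC' : C' * C = 1 := (hinv _ hc).2
  have hCe : C = B' - A := by
    rw [hC, sub_eq_add_neg, hα, hαn, ← sub_eq_add_neg]
  have hD1 : (A' + C') * α (a - a * a * b) = 1 := by
    have h1 := (hinv _ hd).2
    rw [hid, hβ] at h1
    exact h1
  have hD1' : α (a - a * a * b) * (A' + C') = 1 := by
    have h1 := (hinv _ hd).1
    rw [hid, hβ] at h1
    exact h1
  have hD2 : (A' + C') * (A - A * B * A) = 1 := by
    have e1 : 1 - B * A = B * C := by rw [hCe, mul_sub, hBB']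
    have e2 : C' * A * B = C' - B := by
      have h3 : A = B' - C := by rw [hCe]; abel
      rw [h3, mul_sub, sub_mul, hCC', one_mul, mul_assoc, hBB, mul_one]
    calc (A' + C') * (A - A * B * A) = (A' * A) * (1 - B * A) + C' * A * (1 - B * A) := by
          noncomm_ring
      _ = B * C + (C' * A * B) * C := by rw [hA'A, one_mul, e1]; noncomm_ring
      _ = 1 := by rw [e2, sub_mul, hCC']; abel
  have h4 : α (a - a * a * b) = A - A * B * A := by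
    calc α (a - a * a * b) = α (a - a * a * b) * ((A' + C') * (A - A * B * A)) := by
          rw [hD2, mul_one]
      _ = (α (a - a * a * b) * (A' + C')) * (A - A * B * A) := by noncomm_ring
      _ = A - A * B * A := by rw [hD1', one_mul]
  rw [sub_eq_add_neg, hα, hαn, sub_eq_add_neg] at h4
  exact neg_injective (add_left_cancel h4)

variable [Finite k] [CharP k 2]

/-- **The Hua lemma.** -/
theorem hua (h2 : ∀ r : R, r + r = 0) (α β : k → R) (hα : ∀ a b, α (a + b) = α a + α b)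
    (hβ : ∀ a b, β (a + b) = β a + β b) (h1 : α 1 = 1)
    (hinv : ∀ a, a ≠ 0 → α a * β a⁻¹ = 1 ∧ β a⁻¹ * α a = 1) :
    (∀ a, β a = α a) ∧ ∀ a b, α (a * b) = α a * α b := by
  have hg := hua_gen α β hα hβ hinv
  have hab : ∀ a, β a = α a := by
    intro a
    have := hg 1 a
    rw [one_mul, one_mul, h1, one_mul, mul_one] at this
    exact this.symm
  have hsq : ∀ a, α (a * a) = α a * α a := by
    intro a
    have := hg a 1
    rw [mul_one, hab, h1, mul_one] at this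
    exact this
  have hcomm : ∀ a b, α a * α b = α b * α a := by
    intro a b
    have e1 : (a + b) * (a + b) = a * a + b * b := by
      have h3 : a * b + a * b = 0 := CharTwo.add_self_eq_zero _
      calc (a + b) * (a + b) = a * a + b * b + (a * b + a * b) := by ring
        _ = a * a + b * b := by rw [h3, add_zero]
    have e2 := hsq (a + b)
    rw [e1, hα, hα, hsq, hsq] at e2
    have e3 : α a * α b + α b * α a = 0 := by
      have e4 : (α a + α b) * (α a + α b) =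
          (α a * α a + α b * α b) + (α a * α b + α b * α a) := by noncomm_ring
      rw [e4] at e2
      exact left_eq_add.mp e2
    have e5 : α a * α b = -(α b * α a) := eq_neg_of_add_eq_zero_left e3
    rw [e5]
    exact neg_eq_of_add_eq_zero_left (h2 _)
  refine ⟨hab, fun a b => ?_⟩
  obtain ⟨c, rfl⟩ : ∃ c, a = c * c := by
    have := FiniteField.isSquare_of_char_two (F := k) (ringChar.eq_iff.mpr inferInstance) a
    exact this
  have := hg c b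
  rw [this, hab, mul_assoc, hcomm b c, ← mul_assoc, hsq]

end Cfsg.Agent.Omega.Mix.Hua

end

section


/-!
# TEXT MIX (2): `N = T₁ × T₂` is a tensor product `k² ⊗ U`

Two elementary abelian 2-groups `B₁`, `B₂` with homomorphisms `p₁ : B₁ → k`, `p₂ : B₂ → k` onto the
finite field `k` of characteristic 2 (the actions on a natural `SL₂(k)`-module `V`), kernels `T₁`,
`T₂`, such that `T₂` acts on `B₁` trivially modulo `T₁` and conversely, `B₁ ⊓ B₂ = 1` and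
`b c b` interchanges `T₁`, `T₂` whenever `p₂ c = (p₁ b)⁻¹`.

Then `N = T₁ × T₂` is `k² ⊗ U`: there are a `k`-space `U` and `n : U → U → G` with
`T₁ = n(U,0)`, `T₂ = n(0,U)`, `b n(s,t) b⁻¹ = n(s + p₁(b) t, t)`, `c n(s,t) c⁻¹ = n(s, t + p₂(c) s)`.
-/

set_option autoImplicit false

namespace Cfsg.Agent.Omega.Mix.Tensor

variable {G : Type*} [Group G] {F : Type*} [Field F]

/-- The hypotheses of the tensor lemma. -/
structure Blk (F : Type*) [Field F] (B₁ B₂ : Subgroup G) (p₁ p₂ : G → F) : Prop where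
  ab₁ : ∀ b ∈ B₁, ∀ c ∈ B₁, b * c = c * b
  ab₂ : ∀ b ∈ B₂, ∀ c ∈ B₂, b * c = c * b
  sq₁ : ∀ b ∈ B₁, b * b = 1
  sq₂ : ∀ b ∈ B₂, b * b = 1
  mul₁ : ∀ b ∈ B₁, ∀ c ∈ B₁, p₁ (b * c) = p₁ b + p₁ c
  mul₂ : ∀ b ∈ B₂, ∀ c ∈ B₂, p₂ (b * c) = p₂ b + p₂ c
  sur₁ : ∀ a, ∃ b ∈ B₁, p₁ b = a
  sur₂ : ∀ a, ∃ b ∈ B₂, p₂ b = a
  nor₁ : ∀ t ∈ B₂, p₂ t = 0 → ∀ b ∈ B₁, t * b * t⁻¹ ∈ B₁ ∧ p₁ (t * b * t⁻¹) = p₁ b
  nor₂ : ∀ t ∈ B₁, p₁ t = 0 → ∀ b ∈ B₂, t * b * t⁻¹ ∈ B₂ ∧ p₂ (t * b * t⁻¹) = p₂ b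
  inf : ∀ g, g ∈ B₁ → g ∈ B₂ → g = 1
  swap₁ : ∀ b ∈ B₁, ∀ c ∈ B₂, p₁ b ≠ 0 → p₂ c = (p₁ b)⁻¹ → ∀ t ∈ B₁, p₁ t = 0 →
    (b * c * b) * t * (b * c * b)⁻¹ ∈ B₂
  swap₂ : ∀ b ∈ B₁, ∀ c ∈ B₂, p₁ b ≠ 0 → p₂ c = (p₁ b)⁻¹ → ∀ t ∈ B₂, p₂ t = 0 →
    (b * c * b) * t * (b * c * b)⁻¹ ∈ B₁

/-- The conclusion of the tensor lemma. -/
structure Ten (F : Type*) [Field F] (B₁ B₂ : Subgroup G) (p₁ p₂ : G → F) (U : Type*)
    [AddCommGroup U] [Module F U] where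
  n : U → U → G
  n_add : ∀ s s' t t', n (s + s') (t + t') = n s t * n s' t'
  n_inj : ∀ s s' t t', n s t = n s' t' → s = s' ∧ t = t'
  mem₁ : ∀ g, (g ∈ B₁ ∧ p₁ g = 0) ↔ ∃ s, g = n s 0
  mem₂ : ∀ g, (g ∈ B₂ ∧ p₂ g = 0) ↔ ∃ t, g = n 0 t
  act₁ : ∀ b ∈ B₁, ∀ s t, b * n s t * b⁻¹ = n (s + p₁ b • t) t
  act₂ : ∀ c ∈ B₂, ∀ s t, c * n s t * c⁻¹ = n s (t + p₂ c • s)

variable {B₁ B₂ : Subgroup G} {p₁ p₂ : G → F}

namespace Blk

theorem p₁_one (h : Blk F B₁ B₂ p₁ p₂) : p₁ 1 = 0 := by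
  have := h.mul₁ 1 (one_mem _) 1 (one_mem _)
  rw [mul_one] at this
  exact left_eq_add.mp this

theorem p₂_one (h : Blk F B₁ B₂ p₁ p₂) : p₂ 1 = 0 := by
  have := h.mul₂ 1 (one_mem _) 1 (one_mem _)
  rw [mul_one] at this
  exact left_eq_add.mp this

theorem inv₁ (h : Blk F B₁ B₂ p₁ p₂) {b : G} (hb : b ∈ B₁) : b⁻¹ = b :=
  inv_eq_of_mul_eq_one_right (h.sq₁ b hb)

theorem inv₂ (h : Blk F B₁ B₂ p₁ p₂) {b : G} (hb : b ∈ B₂) : b⁻¹ = b :=
  inv_eq_of_mul_eq_one_right (h.sq₂ b hb)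

/-- `T₁`. -/
def T₁ (h : Blk F B₁ B₂ p₁ p₂) : Subgroup G where
  carrier := {b | b ∈ B₁ ∧ p₁ b = 0}
  mul_mem' := by
    rintro a b ⟨ha, ha'⟩ ⟨hb, hb'⟩
    exact ⟨mul_mem ha hb, by rw [h.mul₁ a ha b hb, ha', hb', add_zero]⟩
  one_mem' := ⟨one_mem _, h.p₁_one⟩
  inv_mem' := by
    rintro a ⟨ha, ha'⟩
    exact ⟨inv_mem ha, by rw [h.inv₁ ha, ha']⟩

/-- `T₂`. -/
def T₂ (h : Blk F B₁ B₂ p₁ p₂) : Subgroup G where
  carrier := {b | b ∈ B₂ ∧ p₂ b = 0}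
  mul_mem' := by
    rintro a b ⟨ha, ha'⟩ ⟨hb, hb'⟩
    exact ⟨mul_mem ha hb, by rw [h.mul₂ a ha b hb, ha', hb', add_zero]⟩
  one_mem' := ⟨one_mem _, h.p₂_one⟩
  inv_mem' := by
    rintro a ⟨ha, ha'⟩
    exact ⟨inv_mem ha, by rw [h.inv₂ ha, ha']⟩

theorem mem_T₁ (h : Blk F B₁ B₂ p₁ p₂) {g : G} : g ∈ h.T₁ ↔ g ∈ B₁ ∧ p₁ g = 0 := Iff.rfl
theorem mem_T₂ (h : Blk F B₁ B₂ p₁ p₂) {g : G} : g ∈ h.T₂ ↔ g ∈ B₂ ∧ p₂ g = 0 := Iff.rfl

/-- `[b,t] ∈ T₁` for `b ∈ B₁`, `t ∈ T₂`. -/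
theorem com₁ (h : Blk F B₁ B₂ p₁ p₂) {b t : G} (hb : b ∈ B₁) (ht : t ∈ h.T₂) :
    b * t * b⁻¹ * t⁻¹ ∈ h.T₁ := by
  have h1 := h.nor₁ t ht.1 ht.2 b⁻¹ (inv_mem hb)
  have e : b * t * b⁻¹ * t⁻¹ = b * (t * b⁻¹ * t⁻¹) := by group
  rw [e]
  refine ⟨mul_mem hb h1.1, ?_⟩
  rw [h.mul₁ _ hb _ h1.1, h1.2, ← h.mul₁ _ hb _ (inv_mem hb), mul_inv_cancel, h.p₁_one]

theorem com₂ (h : Blk F B₁ B₂ p₁ p₂) {c s : G} (hc : c ∈ B₂) (hs : s ∈ h.T₁) :
    c * s * c⁻¹ * s⁻¹ ∈ h.T₂ := by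
  have h1 := h.nor₂ s hs.1 hs.2 c⁻¹ (inv_mem hc)
  have e : c * s * c⁻¹ * s⁻¹ = c * (s * c⁻¹ * s⁻¹) := by group
  rw [e]
  refine ⟨mul_mem hc h1.1, ?_⟩
  rw [h.mul₂ _ hc _ h1.1, h1.2, ← h.mul₂ _ hc _ (inv_mem hc), mul_inv_cancel, h.p₂_one]

/-- `T₁` and `T₂` commute. -/
theorem comm (h : Blk F B₁ B₂ p₁ p₂) {s t : G} (hs : s ∈ h.T₁) (ht : t ∈ h.T₂) :
    s * t = t * s := by
  have h1 := h.com₁ hs.1 ht
  have h2 := h.com₂ ht.1 hs
  have e : t * s * t⁻¹ * s⁻¹ = (s * t * s⁻¹ * t⁻¹)⁻¹ := by group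
  rw [e] at h2
  have h3 : s * t * s⁻¹ * t⁻¹ ∈ B₂ := by
    have := inv_mem h2.1
    rwa [inv_inv] at this
  have h4 := h.inf _ h1.1 h3
  calc s * t = (s * t * s⁻¹ * t⁻¹) * (t * s) := by group
    _ = t * s := by rw [h4, one_mul]

instance instT₁ (h : Blk F B₁ B₂ p₁ p₂) : CommGroup h.T₁ :=
  { (inferInstance : Group h.T₁) with
    mul_comm := fun a b => Subtype.ext (h.ab₁ a a.2.1 b b.2.1) }

instance instT₂ (h : Blk F B₁ B₂ p₁ p₂) : CommGroup h.T₂ :=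
  { (inferInstance : Group h.T₂) with
    mul_comm := fun a b => Subtype.ext (h.ab₂ a a.2.1 b b.2.1) }

/-- `t ↦ [b,t]`, `T₂ → T₁`. -/
def al (h : Blk F B₁ B₂ p₁ p₂) (b : B₁) : h.T₂ →* h.T₁ where
  toFun t := ⟨b * t * (b : G)⁻¹ * (t : G)⁻¹, h.com₁ b.2 t.2⟩
  map_one' := Subtype.ext (by
    show (b : G) * ((1 : h.T₂) : G) * (b : G)⁻¹ * ((1 : h.T₂) : G)⁻¹ = 1
    rw [Subgroup.coe_one]; group)
  map_mul' s t := Subtype.ext (by
    have h1 := h.comm (h.com₁ b.2 t.2) s.2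
    show (b : G) * ((s * t : h.T₂) : G) * (b : G)⁻¹ * ((s * t : h.T₂) : G)⁻¹ =
      ((b : G) * s * (b : G)⁻¹ * (s : G)⁻¹) * ((b : G) * t * (b : G)⁻¹ * (t : G)⁻¹)
    rw [Subgroup.coe_mul]
    calc (b : G) * (s * t) * (b : G)⁻¹ * ((s : G) * t)⁻¹
        = ((b : G) * s * (b : G)⁻¹) * (((b : G) * t * (b : G)⁻¹ * (t : G)⁻¹)) * (s : G)⁻¹ := by group
      _ = ((b : G) * s * (b : G)⁻¹) * ((s : G)⁻¹ * (s * (((b : G) * t * (b : G)⁻¹ * (t : G)⁻¹))) *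
            (s : G)⁻¹) := by group
      _ = ((b : G) * s * (b : G)⁻¹) * ((s : G)⁻¹ * ((((b : G) * t * (b : G)⁻¹ * (t : G)⁻¹)) * s) *
            (s : G)⁻¹) := by
          rw [← h1]
      _ = _ := by group)

/-- `s ↦ [c,s]`, `T₁ → T₂`. -/
def be (h : Blk F B₁ B₂ p₁ p₂) (c : B₂) : h.T₁ →* h.T₂ where
  toFun t := ⟨c * t * (c : G)⁻¹ * (t : G)⁻¹, h.com₂ c.2 t.2⟩
  map_one' := Subtype.ext (by
    show (c : G) * ((1 : h.T₁) : G) * (c : G)⁻¹ * ((1 : h.T₁) : G)⁻¹ = 1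
    rw [Subgroup.coe_one]; group)
  map_mul' s t := Subtype.ext (by
    have h1 := h.comm s.2 (h.com₂ c.2 t.2)
    show (c : G) * ((s * t : h.T₁) : G) * (c : G)⁻¹ * ((s * t : h.T₁) : G)⁻¹ =
      ((c : G) * s * (c : G)⁻¹ * (s : G)⁻¹) * ((c : G) * t * (c : G)⁻¹ * (t : G)⁻¹)
    rw [Subgroup.coe_mul]
    calc (c : G) * (s * t) * (c : G)⁻¹ * ((s : G) * t)⁻¹
        = ((c : G) * s * (c : G)⁻¹) * (((c : G) * t * (c : G)⁻¹ * (t : G)⁻¹)) * (s : G)⁻¹ := by group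
      _ = ((c : G) * s * (c : G)⁻¹) * ((s : G)⁻¹ * (s * (((c : G) * t * (c : G)⁻¹ * (t : G)⁻¹))) *
            (s : G)⁻¹) := by group
      _ = ((c : G) * s * (c : G)⁻¹) * ((s : G)⁻¹ * ((((c : G) * t * (c : G)⁻¹ * (t : G)⁻¹)) * s) *
            (s : G)⁻¹) := by
          rw [h1]
      _ = _ := by group)

theorem al_mul (h : Blk F B₁ B₂ p₁ p₂) (b c : B₁) (t : h.T₂) :
    h.al (b * c) t = h.al b t * h.al c t := by
  apply Subtype.ext
  have h1 := h.com₁ c.2 t.2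
  have h2 := h.ab₁ b b.2 _ h1.1
  show ((b * c : B₁) : G) * t * ((b * c : B₁) : G)⁻¹ * (t : G)⁻¹ =
    ((b : G) * t * (b : G)⁻¹ * (t : G)⁻¹) * ((c : G) * t * (c : G)⁻¹ * (t : G)⁻¹)
  have h3 := h.ab₁ _ (h.com₁ b.2 t.2).1 _ h1.1
  rw [h3, Subgroup.coe_mul]
  calc (b : G) * c * t * ((b : G) * c)⁻¹ * (t : G)⁻¹
      = (b * ((c : G) * t * (c : G)⁻¹ * (t : G)⁻¹)) * t * (b : G)⁻¹ * (t : G)⁻¹ := by group
    _ = (((c : G) * t * (c : G)⁻¹ * (t : G)⁻¹) * b) * t * (b : G)⁻¹ * (t : G)⁻¹ := by rw [h2]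
    _ = _ := by group

theorem be_mul (h : Blk F B₁ B₂ p₁ p₂) (b c : B₂) (t : h.T₁) :
    h.be (b * c) t = h.be b t * h.be c t := by
  apply Subtype.ext
  have h1 := h.com₂ c.2 t.2
  have h2 := h.ab₂ b b.2 _ h1.1
  show ((b * c : B₂) : G) * t * ((b * c : B₂) : G)⁻¹ * (t : G)⁻¹ =
    ((b : G) * t * (b : G)⁻¹ * (t : G)⁻¹) * ((c : G) * t * (c : G)⁻¹ * (t : G)⁻¹)
  have h3 := h.ab₂ _ (h.com₂ b.2 t.2).1 _ h1.1
  rw [h3, Subgroup.coe_mul]
  calc (b : G) * c * t * ((b : G) * c)⁻¹ * (t : G)⁻¹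
      = (b * ((c : G) * t * (c : G)⁻¹ * (t : G)⁻¹)) * t * (b : G)⁻¹ * (t : G)⁻¹ := by group
    _ = (((c : G) * t * (c : G)⁻¹ * (t : G)⁻¹) * b) * t * (b : G)⁻¹ * (t : G)⁻¹ := by rw [h2]
    _ = _ := by group

theorem al_T₁ (h : Blk F B₁ B₂ p₁ p₂) (b : B₁) (hb : p₁ b = 0) (t : h.T₂) : h.al b t = 1 := by
  apply Subtype.ext
  show (b : G) * t * (b : G)⁻¹ * (t : G)⁻¹ = 1
  rw [h.comm ⟨b.2, hb⟩ t.2]; group

theorem be_T₂ (h : Blk F B₁ B₂ p₁ p₂) (b : B₂) (hb : p₂ b = 0) (t : h.T₁) : h.be b t = 1 := by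
  apply Subtype.ext
  show (b : G) * t * (b : G)⁻¹ * (t : G)⁻¹ = 1
  rw [← h.comm t.2 ⟨b.2, hb⟩]; group

/-- `[b,t]` depends only on `p₁ b`. -/
theorem al_congr (h : Blk F B₁ B₂ p₁ p₂) (b c : B₁) (hbc : p₁ b = p₁ c) (t : h.T₂) :
    h.al b t = h.al c t := by
  have h1 : p₁ ((b * c⁻¹ : B₁) : G) = 0 := by
    rw [Subgroup.coe_mul, Subgroup.coe_inv, h.mul₁ _ b.2 _ (inv_mem c.2), hbc,
      ← h.mul₁ _ c.2 _ (inv_mem c.2), mul_inv_cancel, h.p₁_one]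
  have h2 : b = (b * c⁻¹) * c := by group
  rw [h2, al_mul, h.al_T₁ _ h1, one_mul]

theorem be_congr (h : Blk F B₁ B₂ p₁ p₂) (b c : B₂) (hbc : p₂ b = p₂ c) (t : h.T₁) :
    h.be b t = h.be c t := by
  have h1 : p₂ ((b * c⁻¹ : B₂) : G) = 0 := by
    rw [Subgroup.coe_mul, Subgroup.coe_inv, h.mul₂ _ b.2 _ (inv_mem c.2), hbc,
      ← h.mul₂ _ c.2 _ (inv_mem c.2), mul_inv_cancel, h.p₂_one]
  have h2 : b = (b * c⁻¹) * c := by group
  rw [h2, be_mul, h.be_T₂ _ h1, one_mul]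

/-- conjugation by `b ∈ B₁` -/
theorem conj₁ (h : Blk F B₁ B₂ p₁ p₂) (b : B₁) (s : h.T₁) (t : h.T₂) :
    (b : G) * ((s : G) * t) * (b : G)⁻¹ = ((s * h.al b t : h.T₁) : G) * t := by
  have h1 := h.ab₁ b b.2 s s.2.1
  show (b : G) * ((s : G) * t) * (b : G)⁻¹ = (s : G) * ((b : G) * t * (b : G)⁻¹ * (t : G)⁻¹) * t
  calc (b : G) * ((s : G) * t) * (b : G)⁻¹ = (b * s) * t * (b : G)⁻¹ := by group
    _ = (s * b) * t * (b : G)⁻¹ := by rw [h1]
    _ = _ := by group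

/-- conjugation by `c ∈ B₂` -/
theorem conj₂ (h : Blk F B₁ B₂ p₁ p₂) (c : B₂) (s : h.T₁) (t : h.T₂) :
    (c : G) * ((s : G) * t) * (c : G)⁻¹ = (s : G) * ((t * h.be c s : h.T₂) : G) := by
  have h1 := h.ab₂ c c.2 t t.2.1
  have h2 : (c : G) * s * (c : G)⁻¹ = ((h.be c s : h.T₂) : G) * s := by
    show (c : G) * s * (c : G)⁻¹ = ((c : G) * s * (c : G)⁻¹ * (s : G)⁻¹) * s
    group
  have h3 : ((h.be c s : h.T₂) : G) * s = s * ((h.be c s : h.T₂) : G) :=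
    (h.comm s.2 (h.be c s).2).symm
  have h4 : ((h.be c s : h.T₂) : G) * t = t * ((h.be c s : h.T₂) : G) :=
    h.ab₂ _ (h.be c s).2.1 _ t.2.1
  show (c : G) * ((s : G) * t) * (c : G)⁻¹ = (s : G) * (t * ((h.be c s : h.T₂) : G))
  calc (c : G) * ((s : G) * t) * (c : G)⁻¹ = ((c : G) * s * (c : G)⁻¹) * ((c * t) * (c : G)⁻¹) := by
        group
    _ = (((h.be c s : h.T₂) : G) * s) * ((t * c) * (c : G)⁻¹) := by rw [h2, h1]
    _ = (s * ((h.be c s : h.T₂) : G)) * t := by rw [h3]; group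
    _ = s * (((h.be c s : h.T₂) : G) * t) := by group
    _ = s * (t * ((h.be c s : h.T₂) : G)) := by rw [h4]

theorem sqT₁ (h : Blk F B₁ B₂ p₁ p₂) (s : h.T₁) : s * s = 1 := Subtype.ext (h.sq₁ s s.2.1)
theorem sqT₂ (h : Blk F B₁ B₂ p₁ p₂) (s : h.T₂) : s * s = 1 := Subtype.ext (h.sq₂ s s.2.1)

/-- the swap relation, first half: `[b,[c,s]] = s`. -/
theorem al_be (h : Blk F B₁ B₂ p₁ p₂) (b : B₁) (c : B₂) (hb : p₁ b ≠ 0)
    (hc : p₂ c = (p₁ b)⁻¹) (s : h.T₁) : h.al b (h.be c s) = s := by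
  have h1 := h.swap₁ b b.2 c c.2 hb hc s s.2.1 s.2.2
  have e1 : (b : G) * ((s : G) * ((1 : h.T₂) : G)) * (b : G)⁻¹ = (s : G) * ((1 : h.T₂) : G) := by
    rw [h.conj₁, map_one, mul_one]
  have e2 := h.conj₂ c s 1
  rw [one_mul] at e2
  have e3 := h.conj₁ b s (h.be c s)
  have e4 : (b * c * b : G) * s * (b * c * b : G)⁻¹ =
      ((s * h.al b (h.be c s) : h.T₁) : G) * (h.be c s : h.T₂) := by
    rw [← e3, ← e2, ← e1, Subgroup.coe_one, mul_one]; group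
  rw [e4] at h1
  have h2 : ((s * h.al b (h.be c s) : h.T₁) : G) ∈ B₂ := by
    have := mul_mem h1 (inv_mem (h.be c s).2.1)
    rwa [mul_inv_cancel_right] at this
  have h3 := h.inf _ (s * h.al b (h.be c s)).2.1 h2
  have h4 : s * h.al b (h.be c s) = 1 := Subtype.ext h3
  have h5 : h.al b (h.be c s) = s⁻¹ := eq_inv_of_mul_eq_one_right h4
  rw [h5]
  exact inv_eq_of_mul_eq_one_right (h.sqT₁ s)

/-- the swap relation, second half: `[c,[b,t]] = t`. -/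
theorem be_al (h : Blk F B₁ B₂ p₁ p₂) (b : B₁) (c : B₂) (hb : p₁ b ≠ 0)
    (hc : p₂ c = (p₁ b)⁻¹) (t : h.T₂) : h.be c (h.al b t) = t := by
  have h1 := h.swap₂ b b.2 c c.2 hb hc t t.2.1 t.2.2
  have e1 := h.conj₁ b 1 t
  rw [one_mul] at e1
  have e2 := h.conj₂ c (h.al b t) t
  have e3 := h.conj₁ b (h.al b t) (t * h.be c (h.al b t))
  have e4 : (b * c * b : G) * t * (b * c * b : G)⁻¹ =
      ((h.al b t * h.al b (t * h.be c (h.al b t)) : h.T₁) : G) *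
        ((t * h.be c (h.al b t) : h.T₂) : G) := by
    rw [← e3, ← e2, ← e1, Subgroup.coe_one, one_mul]; group
  rw [e4] at h1
  have h2 : ((t * h.be c (h.al b t) : h.T₂) : G) ∈ B₁ := by
    have := mul_mem (inv_mem (h.al b t * h.al b (t * h.be c (h.al b t))).2.1) h1
    rwa [inv_mul_cancel_left] at this
  have h3 := h.inf _ h2 (t * h.be c (h.al b t)).2.1
  have h4 : t * h.be c (h.al b t) = 1 := Subtype.ext h3
  have h5 : h.be c (h.al b t) = t⁻¹ := eq_inv_of_mul_eq_one_right h4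
  rw [h5]
  exact inv_eq_of_mul_eq_one_right (h.sqT₂ t)

/-! ### The ring homomorphism -/

/-- a chosen element of `B₁` over `a` -/
noncomputable def b₁ (h : Blk F B₁ B₂ p₁ p₂) (a : F) : B₁ :=
  ⟨(h.sur₁ a).choose, (h.sur₁ a).choose_spec.1⟩

theorem p_b₁ (h : Blk F B₁ B₂ p₁ p₂) (a : F) : p₁ (h.b₁ a : G) = a := (h.sur₁ a).choose_spec.2

/-- a chosen element of `B₂` over `a` -/
noncomputable def b₂ (h : Blk F B₁ B₂ p₁ p₂) (a : F) : B₂ :=
  ⟨(h.sur₂ a).choose, (h.sur₂ a).choose_spec.1⟩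

theorem p_b₂ (h : Blk F B₁ B₂ p₁ p₂) (a : F) : p₂ (h.b₂ a : G) = a := (h.sur₂ a).choose_spec.2

/-- `α'_a = α_a β_1` -/
noncomputable def A (h : Blk F B₁ B₂ p₁ p₂) (a : F) : AddMonoid.End (Additive h.T₁) :=
  MonoidHom.toAdditive ((h.al (h.b₁ a)).comp (h.be (h.b₂ 1)))

/-- `β'_a = α_1 β_a` -/
noncomputable def B (h : Blk F B₁ B₂ p₁ p₂) (a : F) : AddMonoid.End (Additive h.T₁) :=
  MonoidHom.toAdditive ((h.al (h.b₁ 1)).comp (h.be (h.b₂ a)))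

theorem A_apply (h : Blk F B₁ B₂ p₁ p₂) (a : F) (s : h.T₁) :
    h.A a (Additive.ofMul s) = Additive.ofMul (h.al (h.b₁ a) (h.be (h.b₂ 1) s)) := rfl

theorem B_apply (h : Blk F B₁ B₂ p₁ p₂) (a : F) (s : h.T₁) :
    h.B a (Additive.ofMul s) = Additive.ofMul (h.al (h.b₁ 1) (h.be (h.b₂ a) s)) := rfl

theorem al_be_one (h : Blk F B₁ B₂ p₁ p₂) (s : h.T₁) : h.al (h.b₁ 1) (h.be (h.b₂ 1) s) = s :=
  h.al_be _ _ (by rw [h.p_b₁]; exact one_ne_zero) (by rw [h.p_b₁, h.p_b₂, inv_one]) s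

theorem be_al_one (h : Blk F B₁ B₂ p₁ p₂) (t : h.T₂) : h.be (h.b₂ 1) (h.al (h.b₁ 1) t) = t :=
  h.be_al _ _ (by rw [h.p_b₁]; exact one_ne_zero) (by rw [h.p_b₁, h.p_b₂, inv_one]) t

theorem add_self (h : Blk F B₁ B₂ p₁ p₂) (x : Additive h.T₁) : x + x = 0 :=
  congrArg Additive.ofMul (h.sqT₁ x.toMul)

theorem hua [Finite F] [CharP F 2] (h : Blk F B₁ B₂ p₁ p₂) :
    (∀ a, h.B a = h.A a) ∧ ∀ a b, h.A (a * b) = h.A a * h.A b := by
  refine Cfsg.Agent.Omega.Mix.Hua.hua ?_ h.A h.B ?_ ?_ ?_ ?_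
  · intro r
    refine AddMonoidHom.ext fun s => ?_
    exact h.add_self (r s)
  · intro a b
    refine AddMonoidHom.ext fun s => ?_
    show Additive.ofMul (h.al (h.b₁ (a + b)) (h.be (h.b₂ 1) s.toMul)) =
      Additive.ofMul (h.al (h.b₁ a) (h.be (h.b₂ 1) s.toMul) * h.al (h.b₁ b) (h.be (h.b₂ 1) s.toMul))
    rw [← h.al_mul]
    refine congrArg Additive.ofMul (h.al_congr _ _ ?_ _)
    rw [h.p_b₁, Subgroup.coe_mul, h.mul₁ _ (h.b₁ a).2 _ (h.b₁ b).2, h.p_b₁, h.p_b₁]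
  · intro a b
    refine AddMonoidHom.ext fun s => ?_
    show Additive.ofMul (h.al (h.b₁ 1) (h.be (h.b₂ (a + b)) s.toMul)) =
      Additive.ofMul (h.al (h.b₁ 1) (h.be (h.b₂ a) s.toMul) * h.al (h.b₁ 1) (h.be (h.b₂ b) s.toMul))
    rw [← map_mul, ← h.be_mul]
    refine congrArg Additive.ofMul (congrArg (h.al (h.b₁ 1)) (h.be_congr _ _ ?_ _))
    rw [h.p_b₂, Subgroup.coe_mul, h.mul₂ _ (h.b₂ a).2 _ (h.b₂ b).2, h.p_b₂, h.p_b₂]
  · refine AddMonoidHom.ext fun s => ?_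
    show Additive.ofMul (h.al (h.b₁ 1) (h.be (h.b₂ 1) s.toMul)) = s
    rw [h.al_be_one]; rfl
  · intro a ha
    constructor
    · refine AddMonoidHom.ext fun s => ?_
      show Additive.ofMul (h.al (h.b₁ a) (h.be (h.b₂ 1) (h.al (h.b₁ 1) (h.be (h.b₂ a⁻¹) s.toMul)))) = s
      rw [h.be_al_one, h.al_be _ _ (by rw [h.p_b₁]; exact ha) (by rw [h.p_b₁, h.p_b₂])]; rfl
    · refine AddMonoidHom.ext fun s => ?_
      show Additive.ofMul (h.al (h.b₁ 1) (h.be (h.b₂ a⁻¹) (h.al (h.b₁ a) (h.be (h.b₂ 1) s.toMul)))) = s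
      rw [h.be_al _ _ (by rw [h.p_b₁]; exact ha) (by rw [h.p_b₁, h.p_b₂]), h.al_be_one]; rfl

/-- the ring homomorphism `F → End(T₁)` -/
noncomputable def ringHom [Finite F] [CharP F 2] (h : Blk F B₁ B₂ p₁ p₂) :
    F →+* AddMonoid.End (Additive h.T₁) where
  toFun := h.A
  map_one' := by
    refine AddMonoidHom.ext fun s => ?_
    show Additive.ofMul (h.al (h.b₁ 1) (h.be (h.b₂ 1) s.toMul)) = s
    rw [h.al_be_one]; rfl
  map_mul' := h.hua.2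
  map_zero' := by
    refine AddMonoidHom.ext fun s => ?_
    show Additive.ofMul (h.al (h.b₁ 0) (h.be (h.b₂ 1) s.toMul)) = 0
    rw [h.al_T₁ _ (h.p_b₁ 0)]; rfl
  map_add' a b := by
    refine AddMonoidHom.ext fun s => ?_
    show Additive.ofMul (h.al (h.b₁ (a + b)) (h.be (h.b₂ 1) s.toMul)) =
      Additive.ofMul (h.al (h.b₁ a) (h.be (h.b₂ 1) s.toMul) * h.al (h.b₁ b) (h.be (h.b₂ 1) s.toMul))
    rw [← h.al_mul]
    refine congrArg Additive.ofMul (h.al_congr _ _ ?_ _)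
    rw [h.p_b₁, Subgroup.coe_mul, h.mul₁ _ (h.b₁ a).2 _ (h.b₁ b).2, h.p_b₁, h.p_b₁]

end Blk

/-- **The tensor lemma.** -/
theorem exists_ten.{u} {G : Type u} [Group G] {F : Type*} [Field F] [Finite F] [CharP F 2]
    {B₁ B₂ : Subgroup G} {p₁ p₂ : G → F} (h : Blk F B₁ B₂ p₁ p₂) :
    ∃ (U : Type u) (_ : AddCommGroup U) (_ : Module F U), Nonempty (Ten F B₁ B₂ p₁ p₂ U) := by
  let M : Module F (Additive h.T₁) := Module.compHom (Additive h.T₁) h.ringHom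
  have smul_def : ∀ (a : F) (x : Additive h.T₁), (a • x : Additive h.T₁) =
      Additive.ofMul (h.al (h.b₁ a) (h.be (h.b₂ 1) x.toMul)) := fun a x => rfl
  let n : Additive h.T₁ → Additive h.T₁ → G := fun s t =>
    ((s.toMul : h.T₁) : G) * ((h.be (h.b₂ 1) t.toMul : h.T₂) : G)
  have hn : ∀ s t, n s t = ((s.toMul : h.T₁) : G) * ((h.be (h.b₂ 1) t.toMul : h.T₂) : G) :=
    fun s t => rfl
  refine ⟨Additive h.T₁, inferInstance, M, ⟨⟨n, ?_, ?_, ?_, ?_, ?_, ?_⟩⟩⟩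
  · intro s s' t t'
    have h1 : (((h.be (h.b₂ 1) t.toMul : h.T₂) : G)) * ((s'.toMul : h.T₁) : G) =
      ((s'.toMul : h.T₁) : G) * (((h.be (h.b₂ 1) t.toMul : h.T₂) : G)) :=
      (h.comm s'.toMul.2 (h.be (h.b₂ 1) t.toMul).2).symm
    rw [hn, hn, hn, toMul_add, toMul_add, map_mul, Subgroup.coe_mul, Subgroup.coe_mul]
    calc ((s.toMul : h.T₁) : G) * ((s'.toMul : h.T₁) : G) *
          (((h.be (h.b₂ 1) t.toMul : h.T₂) : G) * ((h.be (h.b₂ 1) t'.toMul : h.T₂) : G))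
        = ((s.toMul : h.T₁) : G) * (((s'.toMul : h.T₁) : G) *
          (((h.be (h.b₂ 1) t.toMul : h.T₂) : G))) * ((h.be (h.b₂ 1) t'.toMul : h.T₂) : G) := by group
      _ = ((s.toMul : h.T₁) : G) * ((((h.be (h.b₂ 1) t.toMul : h.T₂) : G)) *
          ((s'.toMul : h.T₁) : G)) * ((h.be (h.b₂ 1) t'.toMul : h.T₂) : G) := by rw [h1]
      _ = _ := by group
  · intro s s' t t' he
    rw [hn, hn] at he
    have h1 : ((s'.toMul⁻¹ * s.toMul : h.T₁) : G) =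
        ((h.be (h.b₂ 1) t'.toMul * (h.be (h.b₂ 1) t.toMul)⁻¹ : h.T₂) : G) := by
      rw [Subgroup.coe_mul, Subgroup.coe_inv, Subgroup.coe_mul, Subgroup.coe_inv]
      rw [eq_mul_inv_iff_mul_eq, mul_assoc, he, inv_mul_cancel_left]
    have h2 : ((s'.toMul⁻¹ * s.toMul : h.T₁) : G) = 1 :=
      h.inf _ (s'.toMul⁻¹ * s.toMul).2.1 (by
        rw [h1]; exact (h.be (h.b₂ 1) t'.toMul * (h.be (h.b₂ 1) t.toMul)⁻¹).2.1)
    have h3 : s'.toMul⁻¹ * s.toMul = 1 := Subtype.ext h2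
    have h4 : s.toMul = s'.toMul := (inv_mul_eq_one.mp h3).symm
    rw [h2] at h1
    have h5 : h.be (h.b₂ 1) t'.toMul * (h.be (h.b₂ 1) t.toMul)⁻¹ = 1 := Subtype.ext h1.symm
    have h6 : h.be (h.b₂ 1) t.toMul = h.be (h.b₂ 1) t'.toMul := (mul_inv_eq_one.mp h5).symm
    have h7 : t.toMul = t'.toMul := by rw [← h.al_be_one t.toMul, h6, h.al_be_one]
    exact ⟨h4, h7⟩
  · intro g
    constructor
    · intro hg
      refine ⟨Additive.ofMul ⟨g, hg⟩, ?_⟩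
      rw [hn, toMul_zero, map_one, Subgroup.coe_one, mul_one]; rfl
    · rintro ⟨s, rfl⟩
      rw [hn, toMul_zero, map_one, Subgroup.coe_one, mul_one]
      exact s.toMul.2
  · intro g
    constructor
    · intro hg
      refine ⟨Additive.ofMul (h.al (h.b₁ 1) ⟨g, hg⟩), ?_⟩
      rw [hn, toMul_zero, Subgroup.coe_one, one_mul, toMul_ofMul, h.be_al_one]
    · rintro ⟨s, rfl⟩
      rw [hn, toMul_zero, Subgroup.coe_one, one_mul]
      exact (h.be (h.b₂ 1) s.toMul).2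
  · intro b hb s t
    have h1 := h.conj₁ ⟨b, hb⟩ s.toMul (h.be (h.b₂ 1) t.toMul)
    have h2 : h.al ⟨b, hb⟩ (h.be (h.b₂ 1) t.toMul) =
        h.al (h.b₁ (p₁ b)) (h.be (h.b₂ 1) t.toMul) := h.al_congr _ _ (h.p_b₁ _).symm _
    rw [h2] at h1
    exact h1
  · intro c hc s t
    have h1 := h.conj₂ ⟨c, hc⟩ s.toMul (h.be (h.b₂ 1) t.toMul)
    have h2 : h.be ⟨c, hc⟩ s.toMul = h.be (h.b₂ (p₂ c)) s.toMul :=
      h.be_congr _ _ (h.p_b₂ _).symm _
    have h3 : h.be (h.b₂ (p₂ c)) s.toMul =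
        h.be (h.b₂ 1) (h.al (h.b₁ (p₂ c)) (h.be (h.b₂ 1) s.toMul)) := by
      have h4 : h.B (p₂ c) s = h.A (p₂ c) s := by rw [h.hua.1]
      have h5 : h.al (h.b₁ 1) (h.be (h.b₂ (p₂ c)) s.toMul) =
        h.al (h.b₁ (p₂ c)) (h.be (h.b₂ 1) s.toMul) := congrArg Additive.toMul h4
      rw [← h5, h.be_al_one]
    have h6 : n s (t + p₂ c • s) = ((s.toMul : h.T₁) : G) *
        ((h.be (h.b₂ 1) t.toMul * h.be (h.b₂ 1) (h.al (h.b₁ (p₂ c)) (h.be (h.b₂ 1) s.toMul)) :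
          h.T₂) : G) := by
      rw [hn, toMul_add, map_mul, smul_def, toMul_ofMul]
    rw [h6, ← h3, ← h2]
    exact h1

namespace Ten

variable {U : Type*} [AddCommGroup U] [Module F U] (N : Ten F B₁ B₂ p₁ p₂ U)

theorem n_zero : N.n 0 0 = 1 := by
  have := N.n_add 0 0 0 0
  rw [add_zero] at this
  exact left_eq_mul.mp this

theorem n_split (s t : U) : N.n s t = N.n s 0 * N.n 0 t := by
  rw [← N.n_add, add_zero, zero_add]

theorem n_comm (s t s' t' : U) : N.n s t * N.n s' t' = N.n s' t' * N.n s t := by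
  rw [← N.n_add, ← N.n_add, add_comm s, add_comm t]

theorem n_inv (s t : U) : (N.n s t)⁻¹ = N.n (-s) (-t) := by
  rw [inv_eq_iff_mul_eq_one, ← N.n_add, add_neg_cancel, add_neg_cancel, N.n_zero]

include N in
theorem two_smul_eq_zero [CharP F 2] (x : U) : x + x = 0 := by
  have : (2 : F) • x = 0 := by rw [CharTwo.two_eq_zero, zero_smul]
  rwa [two_smul] at this

/-- The subgroup `X = ⟨B₁,B₂⟩` acts as `SL₂(F)`. -/
theorem act_closure {g : G} (hg : g ∈ B₁ ⊔ B₂) : ∃ a b c d : F, a * d - b * c = 1 ∧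
    ∀ s t, g * N.n s t * g⁻¹ = N.n (a • s + b • t) (c • s + d • t) := by
  rw [Subgroup.sup_eq_closure] at hg
  induction hg using Subgroup.closure_induction with
  | mem x hx =>
    rcases hx with hx | hx
    · refine ⟨1, p₁ x, 0, 1, by ring, fun s t => ?_⟩
      rw [N.act₁ x hx]
      simp
    · refine ⟨1, 0, p₂ x, 1, by ring, fun s t => ?_⟩
      rw [N.act₂ x hx]
      simp [add_comm]
  | one =>
    refine ⟨1, 0, 0, 1, by ring, fun s t => ?_⟩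
    simp
  | mul x y _ _ hx hy =>
    obtain ⟨a, b, c, d, h1, h2⟩ := hx
    obtain ⟨a', b', c', d', h1', h2'⟩ := hy
    refine ⟨a * a' + b * c', a * b' + b * d', c * a' + d * c', c * b' + d * d', ?_, fun s t => ?_⟩
    · linear_combination (a' * d' - b' * c') * h1 + h1'
    · have e : x * y * N.n s t * (x * y)⁻¹ = x * (y * N.n s t * y⁻¹) * x⁻¹ := by group
      rw [e, h2', h2]
      congr 1 <;> simp only [smul_add, smul_smul, add_smul] <;> abel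
  | inv x _ hx =>
    obtain ⟨a, b, c, d, h1, h2⟩ := hx
    refine ⟨d, -b, -c, a, by linear_combination h1, fun s t => ?_⟩
    have h3 := h2 (d • s + (-b) • t) ((-c) • s + a • t)
    have e1 : a • (d • s + (-b) • t) + b • ((-c) • s + a • t) = s := by
      have : a • (d • s + (-b) • t) + b • ((-c) • s + a • t) =
        (a * d - b * c) • s + (b * a - a * b) • t := by module
      rw [this, h1, mul_comm b a, sub_self, one_smul, zero_smul, add_zero]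
    have e2 : c • (d • s + (-b) • t) + d • ((-c) • s + a • t) = t := by
      have : c • (d • s + (-b) • t) + d • ((-c) • s + a • t) =
        (c * d - d * c) • s + (a * d - b * c) • t := by module
      rw [this, h1, mul_comm c d, sub_self, one_smul, zero_smul, zero_add]
    rw [e1, e2] at h3
    rw [inv_inv, ← h3]; group

/-- An element which normalises `B₁`, `B₂` and respects `p₁`, `p₂` (e.g. an element of `C(V)`) acts
`F`-linearly on `U`, in the same way on `T₁` and `T₂`. -/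
theorem exists_lin {y : G} (h₁ : ∀ b ∈ B₁, y * b * y⁻¹ ∈ B₁ ∧ p₁ (y * b * y⁻¹) = p₁ b)
    (h₂ : ∀ b ∈ B₂, y * b * y⁻¹ ∈ B₂ ∧ p₂ (y * b * y⁻¹) = p₂ b)
    (hsur : ∀ a, ∃ b ∈ B₁, p₁ b = a) :
    ∃ φ : U →ₗ[F] U, Function.Injective φ ∧ ∀ s t, y * N.n s t * y⁻¹ = N.n (φ s) (φ t) := by
  have k1 : ∀ s, ∃ s', y * N.n s 0 * y⁻¹ = N.n s' 0 := by
    intro s
    have h3 := (N.mem₁ (N.n s 0)).mpr ⟨s, rfl⟩
    have h4 := h₁ _ h3.1
    exact (N.mem₁ _).mp ⟨h4.1, by rw [h4.2, h3.2]⟩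
  have k2 : ∀ s, ∃ s', y * N.n 0 s * y⁻¹ = N.n 0 s' := by
    intro s
    have h3 := (N.mem₂ (N.n 0 s)).mpr ⟨s, rfl⟩
    have h4 := h₂ _ h3.1
    exact (N.mem₂ _).mp ⟨h4.1, by rw [h4.2, h3.2]⟩
  choose f hf using k1
  choose g hg using k2
  have key : ∀ (a : F) (t : U), f (a • t) = a • g t := by
    intro a t
    obtain ⟨b, hb, hba⟩ := hsur a
    have e1 := N.act₁ b hb 0 t
    rw [zero_add, hba, N.n_split (a • t) t] at e1
    have h4 := h₁ b hb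
    have e2 := N.act₁ _ h4.1 0 (g t)
    rw [zero_add, h4.2, hba] at e2
    have e3 : (y * b * y⁻¹) * N.n 0 (g t) * (y * b * y⁻¹)⁻¹ = N.n (f (a • t)) (g t) := by
      rw [← hg t]
      calc (y * b * y⁻¹) * (y * N.n 0 t * y⁻¹) * (y * b * y⁻¹)⁻¹
          = y * (b * N.n 0 t * b⁻¹) * y⁻¹ := by group
        _ = (y * N.n (a • t) 0 * y⁻¹) * (y * N.n 0 t * y⁻¹) := by rw [e1]; group
        _ = N.n (f (a • t)) (g t) := by rw [hf, hg, ← N.n_split]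
    rw [e3] at e2
    exact (N.n_inj _ _ _ _ e2).1
  have hfg : ∀ t, f t = g t := by
    intro t
    have := key 1 t
    rwa [one_smul, one_smul] at this
  have hadd : ∀ s t, f (s + t) = f s + f t := by
    intro s t
    have e : N.n (f (s + t)) 0 = N.n (f s + f t) (0 + 0) := by
      rw [N.n_add, ← hf, ← hf, ← hf, show N.n (s + t) 0 = N.n s 0 * N.n t 0 by
        rw [← N.n_add, add_zero]]
      group
    rw [add_zero] at e
    exact (N.n_inj _ _ _ _ e).1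
  let φ : U →ₗ[F] U :=
    { toFun := f
      map_add' := hadd
      map_smul' := fun a t => by
        show f (a • t) = a • f t
        rw [key, hfg] }
  refine ⟨φ, ?_, fun s t => ?_⟩
  · intro s t hst
    have hst' : f s = f t := hst
    have e1 : y * N.n s 0 * y⁻¹ = y * N.n t 0 * y⁻¹ := by rw [hf, hf, hst']
    have e2 : N.n s 0 = N.n t 0 := mul_left_cancel (mul_right_cancel e1)
    exact (N.n_inj _ _ _ _ e2).1
  · show y * N.n s t * y⁻¹ = N.n (f s) (f t)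
    have e : y * N.n s t * y⁻¹ = (y * N.n s 0 * y⁻¹) * (y * N.n 0 t * y⁻¹) := by
      rw [N.n_split s t]; group
    rw [e, hf, hg, ← N.n_split, ← hfg t]

/-- The natural module `V = k² ⊗ f₀` inside `N`. -/
theorem exists_f₀ (e : F → F → G) (he₁ : ∀ x, e x 0 ∈ B₁ ∧ p₁ (e x 0) = 0)
    (he₂ : ∀ y, e 0 y ∈ B₂ ∧ p₂ (e 0 y) = 0)
    (hadd : ∀ x y, e x y = e x 0 * e 0 y)
    (hact : ∀ b ∈ B₁, ∀ x y, b * e x y * b⁻¹ = e (x + p₁ b * y) y)
    (hsur : ∀ a, ∃ b ∈ B₁, p₁ b = a) :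
    ∃ f₀ : U, ∀ x y, e x y = N.n (x • f₀) (y • f₀) := by
  have k1 : ∀ x, ∃ s, e x 0 = N.n s 0 := fun x => (N.mem₁ _).mp (he₁ x)
  have k2 : ∀ x, ∃ s, e 0 x = N.n 0 s := fun x => (N.mem₂ _).mp (he₂ x)
  choose f hf using k1
  choose g hg using k2
  have key : ∀ a y, f (a * y) = a • g y := by
    intro a y
    obtain ⟨b, hb, hba⟩ := hsur a
    have e1 := hact b hb 0 y
    rw [hg, N.act₁ b hb, zero_add, zero_add, hba, hadd, hf, hg, ← N.n_split] at e1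
    exact ((N.n_inj _ _ _ _ e1).1).symm
  have h1 : ∀ y, f y = g y := by
    intro y
    have := key 1 y
    rwa [one_mul, one_smul] at this
  refine ⟨f 1, fun x y => ?_⟩
  have h2 : ∀ x, f x = x • f 1 := by
    intro x
    have := key x 1
    rwa [mul_one, ← h1] at this
  rw [hadd, hf, hg, ← N.n_split, ← h1, h2 x, h2 y]

end Ten

end Cfsg.Agent.Omega.Mix.Tensor

end

section


/-!
# TEXT MIX (2): the field structure at a line `V`

`s : SideM M B C` (`M : RMod F V H₀`), two points `i`, `j` of `V` with coordinate vectors `w`, `u`.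
`AtV M B i j w u U` : `N = T i × T j` is `F² ⊗ U`, `X = B i ⊔ B j` acts on the first factor as `SL₂(F)`,
`V = F² ⊗ f₀`.  `Side.exists_atV` : it exists.

Consequences: `AtV.torus` (elements of `X` normalising `R i` and `R j`), `AtV.exists_torus`,
`AtV.lin` (elements of `C(V)` act `F`-linearly), `AtV.exists_f` (the function `f` of (8)).
-/

set_option autoImplicit false
set_option linter.unusedSectionVars false

namespace Cfsg.Agent.Omega.Mix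

open Subgroup Cfsg.Agent.Omega.BTwo Cfsg.Agent.Omega.Mix.Tensor
open Cfsg.Agent.Omega.NatPair (dt dt_add dt_smul exists_smul_of_dt exists_comb)

universe u

variable {G : Type u} [Group G] {F : Type*} [Field F] {V H₀ : Subgroup G}

/-- the coefficient of `w` in `g u` (basis `w`, `u`) -/
noncomputable def pp (M : RMod F V H₀) (w u : Fin 2 → F) (g : G) : F := dt (M.act g u) u / dt w u

theorem dt_add_left (w x y : Fin 2 → F) : dt (x + y) w = dt x w + dt y w := by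
  simp only [dt, Pi.add_apply]; ring

theorem dt_swap (w x : Fin 2 → F) : dt w x = - dt x w := by unfold dt; ring

theorem pp_eq (M : RMod F V H₀) {w u : Fin 2 → F} (h : dt w u ≠ 0) {g : G} {c : F}
    (hg : M.act g u = u + c • w) : pp M w u g = c := by
  rw [pp, hg, dt_add_left, dt_self, zero_add, dt_smul_left, mul_div_assoc, div_self h, mul_one]

/-- `AtV`: `N = T i × T j = F² ⊗ U`, `V = F² ⊗ f₀` -/
structure AtV (M : RMod F V H₀) (B : Pt M → Subgroup G) (i j : Pt M) (w u : Fin 2 → F) (U : Type*)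
    [AddCommGroup U] [Module F U] extends Ten F (B i) (B j) (pp M w u) (pp M u w) U where
  hi : i.1 = M.line w
  hj : j.1 = M.line u
  hwu : dt w u ≠ 0
  f₀ : U
  f₀_ne : f₀ ≠ 0
  e_eq : ∀ x y : F, M.e (x • w + y • u) = n (x • f₀) (y • f₀)

namespace SideM

variable [Finite F] {M : RMod F V H₀} {B C : Pt M → Subgroup G}

/-- an element of `B i` acts as a transvection with centre `R i` -/
theorem act_w (s : SideM M B C) {i : Pt M} {w : Fin 2 → F} (hi : i.1 = M.line w) {b : G}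
    (hb : b ∈ B i) : M.act b w = w := by
  rw [← M.commute_e (s.B_N i hb)]
  refine s.B_comm i b hb _ (s.R_B i ?_)
  show M.e w ∈ i.1
  rw [hi]
  exact ⟨1, by rw [one_smul]⟩

theorem act_smul (s : SideM M B C) {i : Pt M} {w : Fin 2 → F} (hw : w ≠ 0) (hi : i.1 = M.line w)
    {b : G} (hb : b ∈ B i) (c : F) (x : Fin 2 → F) : M.act b (c • x) = c • M.act b x := by
  obtain ⟨σ, hσ⟩ := M.exists_semi (s.B_N i hb)
  have h1 : ∀ c : F, σ c = c := by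
    intro c
    have h2 : M.act b (c • w) = c • w := by
      rw [← M.commute_e (s.B_N i hb)]
      refine s.B_comm i b hb _ (s.R_B i ?_)
      show M.e (c • w) ∈ i.1
      rw [hi]
      exact ⟨c, rfl⟩
    rw [hσ, s.act_w hi hb] at h2
    exact smul_left_injective F hw h2
  rw [hσ, h1]

theorem act_u (s : SideM M B C) {i : Pt M} {w u : Fin 2 → F} (hi : i.1 = M.line w)
    (hwu : dt w u ≠ 0) {b : G} (hb : b ∈ B i) : M.act b u = u + pp M w u b • w := by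
  have h1 := s.CB i (M.e u) (s.V_C i (M.e_mem u)) b hb
  have h1' : M.e u * b * (M.e u)⁻¹ * b⁻¹ ∈ i.1 := h1
  rw [hi] at h1'
  have h2 := inv_mem h1'
  have e1 : (M.e u * b * (M.e u)⁻¹ * b⁻¹)⁻¹ = M.e (M.act b u) * (M.e u)⁻¹ := by
    rw [M.e_act (s.B_N i hb)]; group
  rw [e1, ← M.e_sub, M.e_mem_line] at h2
  obtain ⟨c, hc⟩ := h2
  have h3 : M.act b u = u + c • w := by rw [← hc]; abel
  rw [pp_eq M hwu h3, h3]

theorem act_comb (s : SideM M B C) {i : Pt M} {w u : Fin 2 → F} (hw : w ≠ 0)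
    (hi : i.1 = M.line w) (hwu : dt w u ≠ 0) {b : G} (hb : b ∈ B i) (x y : F) :
    M.act b (x • w + y • u) = (x + pp M w u b * y) • w + y • u := by
  rw [M.act_add (s.B_N i hb), s.act_smul hw hi hb, s.act_smul hw hi hb, s.act_w hi hb,
    s.act_u hi hwu hb]
  module

theorem pp_mul (s : SideM M B C) {i : Pt M} {w u : Fin 2 → F} (hw : w ≠ 0) (hi : i.1 = M.line w)
    (hwu : dt w u ≠ 0) {b c : G} (hb : b ∈ B i) (hc : c ∈ B i) :
    pp M w u (b * c) = pp M w u b + pp M w u c := by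
  apply pp_eq M hwu
  rw [M.act_mul (s.B_N i hb) (s.B_N i hc), s.act_u hi hwu hc, M.act_add (s.B_N i hb),
    s.act_smul hw hi hb, s.act_w hi hb, s.act_u hi hwu hb]
  module

theorem pp_eq_zero (s : SideM M B C) {i : Pt M} {w u : Fin 2 → F} (hw : w ≠ 0)
    (hi : i.1 = M.line w) (hwu : dt w u ≠ 0) {b : G} (hb : b ∈ B i) :
    pp M w u b = 0 ↔ ∀ v ∈ V, b * v = v * b := by
  constructor
  · intro h v hv
    obtain ⟨x, rfl⟩ := (M.mem_iff v).1 hv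
    obtain ⟨a, c, rfl⟩ := exists_comb hwu x
    rw [M.commute_e (s.B_N i hb), s.act_comb hw hi hwu hb, h, zero_mul, add_zero]
  · intro h
    apply pp_eq M hwu
    rw [zero_smul, add_zero, ← M.commute_e (s.B_N i hb)]
    exact h _ (M.e_mem _)

theorem mem_T_iff (s : SideM M B C) {i : Pt M} {w u : Fin 2 → F} (hw : w ≠ 0)
    (hi : i.1 = M.line w) (hwu : dt w u ≠ 0) {g : G} :
    g ∈ TT V (B i) ↔ g ∈ B i ∧ pp M w u g = 0 := by
  rw [mem_TT]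
  exact and_congr_right fun hg => (s.pp_eq_zero hw hi hwu hg).symm

theorem cj_line_eq (s : SideM M B C) {g : G} (hg : g ∈ H₀) (w : Fin 2 → F) :
    cj g (M.line w) = M.line (M.act g w) := by
  have _ := s
  exact M.cj_line hg w

theorem pp_surj (s : SideM M B C) {i j : Pt M} {w u : Fin 2 → F}
    (hi : i.1 = M.line w) (hj : j.1 = M.line u) (hwu : dt w u ≠ 0) (a : F) :
    ∃ b ∈ B i, pp M w u b = a := by
  have hw : w ≠ 0 := by
    rintro rfl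
    apply hwu
    unfold dt
    simp
  have hk0 : dt w (u + a • w) ≠ 0 := by
    rwa [dt_add, dt_smul, dt_self, mul_zero, add_zero]
  have hk : u + a • w ≠ 0 := ne_zero_of_dt hk0
  have hu : u ≠ 0 := ne_zero_of_dt hwu
  obtain ⟨b, hb, e⟩ := s.trans i j ⟨_, u + a • w, hk, rfl⟩ (by
      intro h
      apply hwu
      rw [← line_eq_iff_dt M hw hu, ← hi, ← hj, h]) (by
      intro h
      apply hk0
      rw [← line_eq_iff_dt M hw hk, ← hi]
      exact congrArg Subtype.val h)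
  refine ⟨b, hb, ?_⟩
  have e' : cj b (j.1) = M.line (u + a • w) := e
  rw [hj, s.cj_line_eq (s.B_N i hb), s.act_u hi hwu hb] at e'
  have h1 : u + pp M w u b • w ≠ 0 := by
    refine ne_zero_of_dt (w := w) ?_
    rwa [dt_add, dt_smul, dt_self, mul_zero, add_zero]
  rw [line_eq_iff_dt M hk h1, dt_add_left, dt_add, dt_add, dt_self, dt_smul, dt_smul_left,
    dt_smul_left, dt_smul, dt_self, dt_swap u w] at e'
  have h2 : (a - pp M w u b) * dt w u = 0 := by linear_combination e'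
  rcases mul_eq_zero.1 h2 with h3 | h3
  · exact (sub_eq_zero.1 h3).symm
  · exact absurd h3 hwu

theorem pp_conj (s : SideM M B C) {i : Pt M} {w u : Fin 2 → F} (hi : i.1 = M.line w)
    (hwu : dt w u ≠ 0) {t b : G} (ht : ∀ v ∈ V, t * v = v * t) (hb : b ∈ B i) :
    t * b * t⁻¹ ∈ B i ∧ pp M w u (t * b * t⁻¹) = pp M w u b := by
  have h1 : t * b * t⁻¹ ∈ B i := conj_mem_of_normalizer (s.nB i (s.cV_le_NR ht i)) hb
  refine ⟨h1, ?_⟩
  apply pp_eq M hwu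
  rw [← s.act_u hi hwu hb]
  apply M.e_inj
  rw [M.e_act (s.B_N i h1), M.e_act (s.B_N i hb)]
  have h2 : t⁻¹ * M.e u * t = M.e u := by
    have h3 := ht _ (M.e_mem u)
    rw [mul_assoc, ← h3]; group
  have h4 : b * M.e u * b⁻¹ ∈ V := conj_mem_of_normalizer (s.B_NV i hb) (M.e_mem u)
  calc t * b * t⁻¹ * M.e u * (t * b * t⁻¹)⁻¹ = t * (b * (t⁻¹ * M.e u * t) * b⁻¹) * t⁻¹ := by group
    _ = t * (b * M.e u * b⁻¹) * t⁻¹ := by rw [h2]
    _ = (b * M.e u * b⁻¹) * t * t⁻¹ := by rw [ht _ h4]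
    _ = b * M.e u * b⁻¹ := by group

variable [CharP F 2]

theorem blk (s : SideM M B C) {i j : Pt M} {w u : Fin 2 → F}
    (hi : i.1 = M.line w) (hj : j.1 = M.line u) (hwu : dt w u ≠ 0) :
    Blk F (B i) (B j) (pp M w u) (pp M u w) := by
  have hw : w ≠ 0 := by
    rintro rfl
    apply hwu
    unfold dt
    simp
  have hu : u ≠ 0 := ne_zero_of_dt hwu
  have huw : dt u w ≠ 0 := by rw [dt_swap]; exact neg_ne_zero.2 hwu
  have hij : i ≠ j := by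
    intro h
    apply hwu
    rw [← line_eq_iff_dt M hw hu, ← hi, ← hj, h]
  have key : ∀ b ∈ B i, ∀ c ∈ B j, pp M w u b ≠ 0 → pp M u w c = (pp M w u b)⁻¹ →
      b * c * b ∈ H₀ ∧ cj (b * c * b) (pt M i) = pt M j ∧
        cj (b * c * b) (pt M j) = pt M i := by
    intro b hb c hc hb0 hcb
    have hbN := s.B_N i hb
    have hcN := s.B_N j hc
    have hN : b * c * b ∈ H₀ := mul_mem (mul_mem hbN hcN) hbN
    set a := pp M w u b with ha
    have hca : a * pp M u w c = 1 := by rw [hcb, mul_inv_cancel₀ hb0]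
    have hc1 : ∀ x y : F, M.act c (x • w + y • u) = x • w + (y + pp M u w c * x) • u := by
      intro x y
      rw [add_comm (x • w), s.act_comb hu hj huw hc, add_comm]
    have hb1 : ∀ x y : F, M.act b (x • w + y • u) = (x + a * y) • w + y • u := fun x y =>
      s.act_comb hw hi hwu hb x y
    have hall : ∀ x y : F, M.act (b * c * b) (x • w + y • u) =
        (a * y) • w + (pp M u w c * x) • u := by
      intro x y
      rw [M.act_mul (mul_mem hbN hcN) hbN, M.act_mul hbN hcN, hb1, hc1, hb1]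
      have h2 : (y : F) + y = 0 := CharTwo.add_self_eq_zero y
      have h2x : (x : F) + x = 0 := CharTwo.add_self_eq_zero x
      congr 1
      · congr 1
        linear_combination h2x + (a * y + x) * hca + a * h2
      · congr 1
        linear_combination h2 + y * hca
    refine ⟨hN, ?_, ?_⟩
    · show cj (b * c * b) i.1 = j.1
      have h3 := hall 1 0
      rw [one_smul, zero_smul, add_zero, mul_zero, zero_smul, zero_add, mul_one] at h3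
      have h4 : pp M u w c ≠ 0 := by rw [hcb]; exact inv_ne_zero hb0
      rw [hi, hj, s.cj_line_eq hN, h3, M.line_smul h4]
    · show cj (b * c * b) j.1 = i.1
      have h3 := hall 0 1
      rw [one_smul, zero_smul, zero_add, mul_zero, zero_smul, add_zero, mul_one] at h3
      rw [hi, hj, s.cj_line_eq hN, h3, M.line_smul hb0]
  exact
    { ab₁ := s.B_comm i
      ab₂ := s.B_comm j
      sq₁ := s.B_sq i
      sq₂ := s.B_sq j
      mul₁ := fun b hb c hc => s.pp_mul hw hi hwu hb hc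
      mul₂ := fun b hb c hc => s.pp_mul hu hj huw hb hc
      sur₁ := s.pp_surj hi hj hwu
      sur₂ := s.pp_surj hj hi huw
      nor₁ := fun t ht h0 b hb => s.pp_conj hi hwu ((s.pp_eq_zero hu hj huw ht).1 h0) hb
      nor₂ := fun t ht h0 b hb => s.pp_conj hj huw ((s.pp_eq_zero hw hi hwu ht).1 h0) hb
      inf := fun g h1 h2 => s.B_eq_one hij h1 h2
      swap₁ := fun b hb c hc h1 h2 t ht _ => by
        obtain ⟨_, h4, _⟩ := key b hb c hc h1 h2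
        rw [← s.cB _ i j h4]
        exact conj_mem_cj ht
      swap₂ := fun b hb c hc h1 h2 t ht _ => by
        obtain ⟨_, _, h5⟩ := key b hb c hc h1 h2
        rw [← s.cB _ j i h5]
        exact conj_mem_cj ht }

/-- **The field structure at `V`.** -/
theorem exists_atV (s : SideM M B C) {i j : Pt M} {w u : Fin 2 → F}
    (hi : i.1 = M.line w) (hj : j.1 = M.line u) (hwu : dt w u ≠ 0) :
    ∃ (U : Type u) (_ : AddCommGroup U) (_ : Module F U), Nonempty (AtV M B i j w u U) := by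
  have hw : w ≠ 0 := by
    rintro rfl
    apply hwu
    unfold dt
    simp
  have hu : u ≠ 0 := ne_zero_of_dt hwu
  have huw : dt u w ≠ 0 := by rw [dt_swap]; exact neg_ne_zero.2 hwu
  obtain ⟨U, i1, i2, ⟨N⟩⟩ := exists_ten (s.blk hi hj hwu)
  have hR : ∀ x : F, M.e (x • w) ∈ B i := fun x => s.R_B i (by
    show M.e (x • w) ∈ i.1
    rw [hi]; exact ⟨x, rfl⟩)
  have hR' : ∀ x : F, M.e (x • u) ∈ B j := fun x => s.R_B j (by
    show M.e (x • u) ∈ j.1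
    rw [hj]; exact ⟨x, rfl⟩)
  obtain ⟨f₀, hf⟩ := N.exists_f₀ (fun x y => M.e (x • w + y • u))
    (by
      intro x
      rw [zero_smul, add_zero]
      exact ⟨hR x, (s.pp_eq_zero hw hi hwu (hR x)).2 fun v hv => M.comm (M.e_mem _) hv⟩)
    (by
      intro y
      rw [zero_smul, zero_add]
      exact ⟨hR' y, (s.pp_eq_zero hu hj huw (hR' y)).2 fun v hv => M.comm (M.e_mem _) hv⟩)
    (by
      intro x y
      rw [zero_smul, add_zero, zero_smul, zero_add, M.e_add])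
    (by
      intro b hb x y
      rw [← M.e_act (s.B_N i hb), s.act_comb hw hi hwu hb])
    (s.pp_surj hi hj hwu)
  refine ⟨U, i1, i2, ⟨⟨N, hi, hj, hwu, f₀, ?_, hf⟩⟩⟩
  intro h0
  have h1 := hf 1 0
  rw [h0, smul_zero, smul_zero, N.n_zero, one_smul, zero_smul, add_zero, M.e_eq_one] at h1
  exact hw h1

end SideM

/-! ### Consequences -/

namespace AtV

variable {M : RMod F V H₀} {B C : Pt M → Subgroup G} {i j : Pt M} {w u : Fin 2 → F} {U : Type*}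
  [AddCommGroup U] [Module F U] (N : AtV M B i j w u U)

include N

theorem huw : dt u w ≠ 0 := by rw [dt_swap]; exact neg_ne_zero.2 N.hwu

theorem hw : w ≠ 0 := by
  intro h
  apply N.hwu
  rw [h]
  unfold dt
  simp

theorem hu : u ≠ 0 := ne_zero_of_dt N.hwu

theorem hij : i ≠ j := by
  intro h
  apply N.hwu
  rw [← line_eq_iff_dt M N.hw N.hu, ← N.hi, ← N.hj, h]

theorem smul_f₀ {x y : F} (h : x • N.f₀ = y • N.f₀) : x = y := smul_left_injective F N.f₀_ne h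

theorem mem_Ri {g : G} : g ∈ pt M i ↔ ∃ r : F, g = N.n (r • N.f₀) 0 := by
  have h1 : g ∈ pt M i ↔ g ∈ M.line w := by
    show g ∈ i.1 ↔ _
    rw [N.hi]
  rw [h1]
  constructor
  · rintro ⟨r, rfl⟩
    refine ⟨r, ?_⟩
    have := N.e_eq r 0
    rwa [zero_smul, add_zero, zero_smul] at this
  · rintro ⟨r, rfl⟩
    refine ⟨r, ?_⟩
    have := N.e_eq r 0
    rwa [zero_smul, add_zero, zero_smul] at this

theorem mem_Rj {g : G} : g ∈ pt M j ↔ ∃ r : F, g = N.n 0 (r • N.f₀) := by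
  have h1 : g ∈ pt M j ↔ g ∈ M.line u := by
    show g ∈ j.1 ↔ _
    rw [N.hj]
  rw [h1]
  constructor
  · rintro ⟨r, rfl⟩
    refine ⟨r, ?_⟩
    have := N.e_eq 0 r
    rwa [zero_smul, zero_add, zero_smul] at this
  · rintro ⟨r, rfl⟩
    refine ⟨r, ?_⟩
    have := N.e_eq 0 r
    rwa [zero_smul, zero_add, zero_smul] at this

theorem mem_V {g : G} : g ∈ V ↔ ∃ x y : F, g = N.n (x • N.f₀) (y • N.f₀) := by
  rw [M.mem_iff]
  constructor
  · rintro ⟨v, rfl⟩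
    obtain ⟨x, y, rfl⟩ := exists_comb N.hwu v
    exact ⟨x, y, N.e_eq x y⟩
  · rintro ⟨x, y, rfl⟩
    exact ⟨_, N.e_eq x y⟩

/-- `X` acts as `SL₂(F)` on `N = F² ⊗ U` and on `V`. -/
theorem act_X {g : G} (hg : g ∈ B i ⊔ B j) : ∃ a b c d : F, a * d - b * c = 1 ∧
    (∀ s t, g * N.n s t * g⁻¹ = N.n (a • s + b • t) (c • s + d • t)) ∧
    ∀ x y : F, g * M.e (x • w + y • u) * g⁻¹ = M.e ((a * x + b * y) • w + (c * x + d * y) • u) := by
  obtain ⟨a, b, c, d, h1, h2⟩ := N.act_closure hg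
  refine ⟨a, b, c, d, h1, h2, fun x y => ?_⟩
  rw [N.e_eq, N.e_eq, h2]
  congr 1 <;> module

/-- elements of `X` normalising `R i` and `R j` -/
theorem torus {g : G} (hg : g ∈ B i ⊔ B j) (hgi : cj g (pt M i) = pt M i)
    (hgj : cj g (pt M j) = pt M j) : ∃ l : F, l ≠ 0 ∧
    (∀ s t, g * N.n s t * g⁻¹ = N.n (l • s) (l⁻¹ • t)) ∧
    ∀ x y : F, g * M.e (x • w + y • u) * g⁻¹ = M.e ((l * x) • w + (l⁻¹ * y) • u) := by
  obtain ⟨a, b, c, d, h1, h2, h3⟩ := N.act_X hg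
  have hc : c = 0 := by
    have h4 : g * N.n ((1 : F) • N.f₀) 0 * g⁻¹ ∈ pt M i := by
      rw [← hgi]
      exact conj_mem_cj (N.mem_Ri.2 ⟨1, rfl⟩)
    rw [h2, smul_zero, smul_zero, add_zero, add_zero, one_smul] at h4
    obtain ⟨r, hr⟩ := N.mem_Ri.1 h4
    have h5 := (N.n_inj _ _ _ _ hr).2
    exact (smul_eq_zero.1 h5).resolve_right N.f₀_ne
  have hb : b = 0 := by
    have h4 : g * N.n 0 ((1 : F) • N.f₀) * g⁻¹ ∈ pt M j := by
      rw [← hgj]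
      exact conj_mem_cj (N.mem_Rj.2 ⟨1, rfl⟩)
    rw [h2, smul_zero, smul_zero, zero_add, zero_add, one_smul] at h4
    obtain ⟨r, hr⟩ := N.mem_Rj.1 h4
    have h5 := (N.n_inj _ _ _ _ hr).1
    exact (smul_eq_zero.1 h5).resolve_right N.f₀_ne
  rw [hb, zero_mul, sub_zero] at h1
  have ha : a ≠ 0 := left_ne_zero_of_mul_eq_one h1
  have hd : d = a⁻¹ := eq_inv_of_mul_eq_one_right h1
  refine ⟨a, ha, fun s t => ?_, fun x y => ?_⟩
  · rw [h2, hb, hc, hd, zero_smul, zero_smul, add_zero, zero_add]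
  · rw [h3, hb, hc, hd, zero_mul, zero_mul, add_zero, zero_add]

/-- the torus of `X` normalising `R i` and `R j` -/
theorem exists_torus [CharP F 2] (hsi : ∀ a, ∃ b ∈ B i, pp M w u b = a)
    (hsj : ∀ a, ∃ b ∈ B j, pp M u w b = a) {l : F} (hl : l ≠ 0) : ∃ g ∈ B i ⊔ B j,
    (∀ s t, g * N.n s t * g⁻¹ = N.n (l • s) (l⁻¹ • t)) ∧
    ∀ x y : F, g * M.e (x • w + y • u) * g⁻¹ = M.e ((l * x) • w + (l⁻¹ * y) • u) := by
  have wa : ∀ a : F, a ≠ 0 → ∃ g ∈ B i ⊔ B j, ∀ s t, g * N.n s t * g⁻¹ = N.n (a • t) (a⁻¹ • s) := by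
    intro a ha
    obtain ⟨b, hb, hba⟩ := hsi a
    obtain ⟨c, hc, hca⟩ := hsj a⁻¹
    have hb' : b ∈ B i ⊔ B j := (le_sup_left : B i ≤ _) hb
    have hc' : c ∈ B i ⊔ B j := (le_sup_right : B j ≤ _) hc
    refine ⟨b * c * b, mul_mem (mul_mem hb' hc') hb', fun s t => ?_⟩
    have e : b * c * b * N.n s t * (b * c * b)⁻¹ = b * (c * (b * N.n s t * b⁻¹) * c⁻¹) * b⁻¹ := by
      group
    rw [e, N.act₁ b hb, hba, N.act₂ c hc, hca, N.act₁ b hb, hba]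
    have h1 : t + t = 0 := N.two_smul_eq_zero t
    have h2 : s + s = 0 := N.two_smul_eq_zero s
    have e1 : t + a⁻¹ • (s + a • t) = a⁻¹ • s := by
      rw [smul_add, smul_smul, inv_mul_cancel₀ ha, one_smul, add_comm (a⁻¹ • s), ← add_assoc, h1,
        zero_add]
    rw [e1]
    congr 1
    rw [smul_smul, mul_inv_cancel₀ ha, one_smul, add_comm s, add_assoc, h2, add_zero]
  obtain ⟨g, hg, hg'⟩ := wa l hl
  obtain ⟨g', hg1, hg2⟩ := wa 1 one_ne_zero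
  have key : ∀ s t, g * g' * N.n s t * (g * g')⁻¹ = N.n (l • s) (l⁻¹ • t) := by
    intro s t
    have e : g * g' * N.n s t * (g * g')⁻¹ = g * (g' * N.n s t * g'⁻¹) * g⁻¹ := by group
    rw [e, hg2, hg', inv_one, one_smul, one_smul]
  refine ⟨g * g', mul_mem hg hg1, key, fun x y => ?_⟩
  rw [N.e_eq, N.e_eq, key]
  congr 1 <;> module

variable [Finite F]

/-- elements of `C(V)` act `F`-linearly -/
theorem lin [CharP F 2] (s : SideM M B C) {c : G} (hc : ∀ v ∈ V, c * v = v * c) :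
    ∃ φ : U →ₗ[F] U, Function.Injective φ ∧ φ N.f₀ = N.f₀ ∧
      ∀ s t, c * N.n s t * c⁻¹ = N.n (φ s) (φ t) := by
  obtain ⟨φ, h1, h2⟩ := N.exists_lin (y := c) (fun b hb => s.pp_conj N.hi N.hwu hc hb)
    (fun b hb => s.pp_conj N.hj N.huw hc hb) (s.pp_surj N.hi N.hj N.hwu)
  refine ⟨φ, h1, ?_, h2⟩
  have h3 := h2 N.f₀ 0
  have h4 : N.n N.f₀ 0 ∈ V := N.mem_V.2 ⟨1, 0, by rw [one_smul, zero_smul]⟩
  rw [hc _ h4, mul_inv_cancel_right] at h3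
  exact ((N.n_inj _ _ _ _ h3).1).symm

/-- `N` is normalised by `X` -/
theorem conj_N {g : G} (hg : g ∈ B i ⊔ B j) (s t : U) : ∃ s' t', g * N.n s t * g⁻¹ = N.n s' t' := by
  obtain ⟨a, b, c, d, -, h2, -⟩ := N.act_X hg
  exact ⟨_, _, h2 s t⟩

/-- `[X, C(V)] ≤ N` -/
theorem comm_N [CharP F 2] (s : SideM M B C) {g c : G} (hg : g ∈ B i ⊔ B j)
    (hc : ∀ v ∈ V, c * v = v * c) : ∃ s t, g * c * g⁻¹ * c⁻¹ = N.n s t := by
  have hT : ∀ b ∈ B i, ∃ s t, b * c * b⁻¹ * c⁻¹ = N.n s t := by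
    intro b hb
    have h1 := s.comm_mem_T' hc hb
    rw [s.mem_T_iff N.hw N.hi N.hwu] at h1
    obtain ⟨x, hx⟩ := (N.mem₁ _).1 h1
    exact ⟨x, 0, hx⟩
  have hT' : ∀ b ∈ B j, ∃ s t, b * c * b⁻¹ * c⁻¹ = N.n s t := by
    intro b hb
    have h1 := s.comm_mem_T' hc hb
    rw [s.mem_T_iff N.hu N.hj N.huw] at h1
    obtain ⟨x, hx⟩ := (N.mem₂ _).1 h1
    exact ⟨0, x, hx⟩
  rw [Subgroup.sup_eq_closure] at hg
  have hcl : ∀ x, x ∈ Subgroup.closure ((B i : Set G) ∪ (B j : Set G)) → x ∈ B i ⊔ B j := by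
    intro x hx
    rwa [Subgroup.sup_eq_closure]
  induction hg using Subgroup.closure_induction with
  | mem x hx =>
    rcases hx with hx | hx
    · exact hT x hx
    · exact hT' x hx
  | one =>
    refine ⟨0, 0, ?_⟩
    rw [N.n_zero]; group
  | mul x y hx hy h1 h2 =>
    obtain ⟨s1, t1, e1⟩ := h1
    obtain ⟨s2, t2, e2⟩ := h2
    obtain ⟨s3, t3, e3⟩ := N.conj_N (hcl x hx) s2 t2
    refine ⟨s3 + s1, t3 + t1, ?_⟩
    rw [N.n_add, ← e3, ← e2, ← e1]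
    group
  | inv x hx h1 =>
    obtain ⟨s1, t1, e1⟩ := h1
    obtain ⟨s3, t3, e3⟩ := N.conj_N (inv_mem (hcl x hx)) (-s1) (-t1)
    refine ⟨s3, t3, ?_⟩
    rw [← e3, ← N.n_inv, ← e1]
    group

/-- `C i ≤ C j N` -/
theorem C_le [CharP F 2] (s : SideM M B C) {c : G} (hc : c ∈ C i) :
    ∃ c' ∈ C j, ∃ s t, c = N.n s t * c' := by
  obtain ⟨m, hm1, hm2, x, hx, e⟩ := s.trans_B i j
  have hx' : x ∈ B i ⊔ B j := s.B_le N.hij m hx
  have h1 : x * c * x⁻¹ ∈ C j := by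
    rw [← s.cC x i j e]
    exact conj_mem_cj hc
  obtain ⟨a, b, hab⟩ := N.comm_N s hx' (s.C_V hc)
  refine ⟨_, h1, -a, -b, ?_⟩
  rw [← N.n_inv, ← hab]
  group

/-- **the function `f` of (8)**: `[b,c] = n(0, p(b) f)` modulo `R j`, for `c ∈ C i`, `b ∈ B j` -/
theorem exists_f [CharP F 2] (s : SideM M B C) {c : G} (hc : c ∈ C i) :
    ∃ f : U, ∀ b ∈ B j, ∃ r : F, b * c * b⁻¹ * c⁻¹ = N.n 0 (pp M u w b • f + r • N.f₀) := by
  obtain ⟨c', hc', x, t, rfl⟩ := N.C_le s hc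
  obtain ⟨φ, -, hφ0, hφ⟩ := N.lin s (s.C_V hc')
  refine ⟨x, fun b hb => ?_⟩
  have h1 : b * c' * b⁻¹ * c'⁻¹ ∈ pt M j := by
    have h2 := inv_mem (s.CB j c' hc' b hb)
    have e : (c' * b * c'⁻¹ * b⁻¹)⁻¹ = b * c' * b⁻¹ * c'⁻¹ := by group
    rwa [e] at h2
  obtain ⟨r, hr⟩ := N.mem_Rj.1 h1
  refine ⟨r, ?_⟩
  have e : b * (N.n x t * c') * b⁻¹ * (N.n x t * c')⁻¹ =
      (b * N.n x t * b⁻¹) * (b * c' * b⁻¹ * c'⁻¹) * (N.n x t)⁻¹ := by group
  rw [e, N.act₂ b hb, hr, N.n_inv, ← N.n_add, ← N.n_add]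
  congr 1 <;> abel

omit [Finite F] in
theorem pp_torus [CharP F 2] {g b : G} (hgV : g ∈ H₀) (hb : b ∈ H₀)
    {l p : F} (hl : l ≠ 0)
    (hg : ∀ x y : F, g * M.e (x • w + y • u) * g⁻¹ = M.e ((l * x) • w + (l⁻¹ * y) • u))
    (hbp : M.act b w = w + p • u) (hbl : ∀ (c : F) (x : Fin 2 → F), M.act b (c • x) = c • M.act b x) :
    M.act (g * b * g⁻¹) w = w + (l⁻¹ * l⁻¹ * p) • u := by
  have h1 : M.act g⁻¹ w = l⁻¹ • w := by
    have h2 : M.act g (l⁻¹ • w) = w := by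
      apply M.e_inj
      rw [M.e_act hgV]
      have := hg l⁻¹ 0
      rw [zero_smul, add_zero, mul_zero, zero_smul, add_zero, mul_inv_cancel₀ hl, one_smul] at this
      exact this
    have h3 := M.act_inv_act hgV (l⁻¹ • w)
    rw [h2] at h3
    exact h3
  have h4 : M.act g (l⁻¹ • (w + p • u)) = w + (l⁻¹ * l⁻¹ * p) • u := by
    apply M.e_inj
    rw [M.e_act hgV]
    have := hg l⁻¹ (l⁻¹ * p)
    rw [mul_inv_cancel₀ hl, one_smul] at this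
    rw [smul_add, smul_smul, this, mul_assoc]
  rw [M.act_mul (mul_mem hgV hb) (inv_mem hgV), M.act_mul hgV hb, h1, hbl, hbp, h4]

end AtV

namespace SideM

variable [Finite F] [CharP F 2] {M : RMod F V H₀} {B C : Pt M → Subgroup G}

/-- **(8)**: for `q ≥ 4`, `[B j, C i] ≤ R j`. -/
theorem comm_mem_R_of (s : SideM M B C) (hF : ∃ l : F, l ≠ 0 ∧ l ≠ 1)
    (hcen : ∀ i, ∀ f ∈ B i, f ∈ C i → f ∈ pt M i) {i j : Pt M} (hij : i ≠ j) {b c : G}
    (hb : b ∈ B j) (hc : c ∈ C i) : b * c * b⁻¹ * c⁻¹ ∈ pt M j := by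
  obtain ⟨w, hw, hi⟩ := i.2
  obtain ⟨u, hu, hj⟩ := j.2
  have hwu : dt w u ≠ 0 := by
    intro h
    apply hij
    apply Subtype.ext
    rw [hi, hj]
    exact ((line_eq_iff_dt M hw hu).2 h).symm
  obtain ⟨U, i1, i2, ⟨N⟩⟩ := s.exists_atV hi hj hwu
  obtain ⟨l, hl0, hl1⟩ := hF
  obtain ⟨h, hX, hn, he⟩ := N.exists_torus (s.pp_surj hi hj hwu) (s.pp_surj hj hi N.huw) hl0
  obtain ⟨f, hf⟩ := N.exists_f s hc
  -- `h` normalises `V`, `R i`, `R j`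
  have hhV : h ∈ H₀ := (sup_le (s.B_N i) (s.B_N j)) hX
  have hhi : cj h (pt M i) = pt M i := by
    show cj h i.1 = i.1
    rw [hi, s.cj_line_eq hhV]
    have : M.act h w = l • w := by
      apply M.e_inj
      rw [M.e_act hhV]
      have := he 1 0
      rwa [one_smul, zero_smul, add_zero, mul_zero, zero_smul, add_zero, mul_one] at this
    rw [this, M.line_smul hl0]
  have hhj : cj h (pt M j) = pt M j := by
    show cj h j.1 = j.1
    rw [hj, s.cj_line_eq hhV]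
    have : M.act h u = l⁻¹ • u := by
      apply M.e_inj
      rw [M.e_act hhV]
      have := he 0 1
      rwa [one_smul, zero_smul, zero_add, mul_zero, zero_smul, zero_add, mul_one] at this
    rw [this, M.line_smul (inv_ne_zero hl0)]
  -- `h c h⁻¹ = v c`
  have hc' : h * c * h⁻¹ ∈ C i := by
    rw [← s.cC h i i hhi]
    exact conj_mem_cj hc
  obtain ⟨x, t, hxt⟩ := N.comm_N s hX (s.C_V hc)
  have hxtC : N.n x t ∈ C i := by
    rw [← hxt]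
    exact mul_mem hc' (inv_mem hc)
  -- an element over `1` in `B i`
  obtain ⟨b₁, hb₁, hb₁1⟩ := s.pp_surj hi hj hwu 1
  have ht : ∃ r : F, t = r • N.f₀ := by
    have h1 := s.CB i _ hxtC b₁ hb₁
    have h2 := inv_mem h1
    have e : (N.n x t * b₁ * (N.n x t)⁻¹ * b₁⁻¹)⁻¹ = b₁ * N.n x t * b₁⁻¹ * (N.n x t)⁻¹ := by group
    rw [e, N.act₁ b₁ hb₁, hb₁1, one_smul, N.n_inv, ← N.n_add] at h2
    obtain ⟨r, hr⟩ := N.mem_Ri.1 h2
    refine ⟨r, ?_⟩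
    have h3 := (N.n_inj _ _ _ _ hr).1
    rw [← h3]; abel
  obtain ⟨r, rfl⟩ := ht
  have hx : ∃ r' : F, x = r' • N.f₀ := by
    have h1 : N.n 0 (r • N.f₀) ∈ C i := s.V_C i (N.mem_V.2 ⟨0, r, by rw [zero_smul]⟩)
    have h2 : N.n x 0 ∈ C i := by
      have h3 := mul_mem hxtC (inv_mem h1)
      rw [N.n_inv, ← N.n_add, neg_zero, add_zero, add_neg_cancel] at h3
      exact h3
    have h3 : N.n x 0 ∈ B i := ((N.mem₁ _).2 ⟨x, rfl⟩).1
    obtain ⟨r', hr'⟩ := N.mem_Ri.1 (hcen i _ h3 h2)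
    exact ⟨r', (N.n_inj _ _ _ _ hr').1⟩
  obtain ⟨r', rfl⟩ := hx
  -- compare `[b',c]` for `b'` over `1` and its conjugate
  obtain ⟨b', hb', hb'1⟩ := s.pp_surj hj hi N.huw 1
  obtain ⟨r1, e1⟩ := hf b' hb'
  have hb'' : h * b' * h⁻¹ ∈ B j := by
    rw [← s.cB h j j hhj]
    exact conj_mem_cj hb'
  have hpp : pp M u w (h * b' * h⁻¹) = l⁻¹ * l⁻¹ * 1 := by
    apply pp_eq M N.huw
    refine N.pp_torus hhV (s.B_N j hb') hl0 he ?_ (fun c x => s.act_smul hu hj hb' c x)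
    rw [s.act_u hj N.huw hb', hb'1]
  obtain ⟨r2, e2⟩ := hf _ hb''
  have hv : ∀ v ∈ V, ∃ r3 : F, (h * b' * h⁻¹) * v * (h * b' * h⁻¹)⁻¹ * v⁻¹ = N.n 0 (r3 • N.f₀) := by
    intro v hv
    have h1 := inv_mem (s.CB j v (s.V_C j hv) _ hb'')
    have e : (v * (h * b' * h⁻¹) * v⁻¹ * (h * b' * h⁻¹)⁻¹)⁻¹ =
      (h * b' * h⁻¹) * v * (h * b' * h⁻¹)⁻¹ * v⁻¹ := by group
    rw [e] at h1
    exact N.mem_Rj.1 h1
  obtain ⟨r3, e3⟩ := hv (N.n (r' • N.f₀) (r • N.f₀)) (N.mem_V.2 ⟨r', r, rfl⟩)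
  -- the main computation
  have e4 : h * (b' * c * b'⁻¹ * c⁻¹) * h⁻¹ =
      N.n 0 (r3 • N.f₀) * N.n 0 ((l⁻¹ * l⁻¹ * 1) • f + r2 • N.f₀) := by
    have h1 : h * c * h⁻¹ = N.n (r' • N.f₀) (r • N.f₀) * c := by
      rw [← hxt]; group
    have h2 : h * (b' * c * b'⁻¹ * c⁻¹) * h⁻¹ =
        (h * b' * h⁻¹) * (h * c * h⁻¹) * (h * b' * h⁻¹)⁻¹ * (h * c * h⁻¹)⁻¹ := by group
    rw [h2, h1]
    have h3 : (h * b' * h⁻¹) * (N.n (r' • N.f₀) (r • N.f₀) * c) * (h * b' * h⁻¹)⁻¹ *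
        (N.n (r' • N.f₀) (r • N.f₀) * c)⁻¹ =
        ((h * b' * h⁻¹) * N.n (r' • N.f₀) (r • N.f₀) * (h * b' * h⁻¹)⁻¹ *
          (N.n (r' • N.f₀) (r • N.f₀))⁻¹) *
        (N.n (r' • N.f₀) (r • N.f₀) * ((h * b' * h⁻¹) * c * (h * b' * h⁻¹)⁻¹ * c⁻¹) *
          (N.n (r' • N.f₀) (r • N.f₀))⁻¹) := by group
    rw [h3, e3, e2, hpp]
    congr 1
    rw [N.n_comm, mul_inv_cancel_right]
  rw [e1, hb'1, one_smul, hn, smul_zero, ← N.n_add, add_zero] at e4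
  have e5 := (N.n_inj _ _ _ _ e4).2
  -- `f ∈ F f₀`
  have hff : ∃ r4 : F, f = r4 • N.f₀ := by
    have h1 : (l⁻¹ - l⁻¹ * l⁻¹) • f = (r3 + r2 - l⁻¹ * r1) • N.f₀ := by
      have h2 : l⁻¹ • (f + r1 • N.f₀) - (l⁻¹ * l⁻¹ * 1) • f - l⁻¹ • (r1 • N.f₀) =
          (l⁻¹ - l⁻¹ * l⁻¹) • f := by module
      rw [← h2, e5]
      module
    have h3 : l⁻¹ - l⁻¹ * l⁻¹ ≠ 0 := by
      intro h4
      have h5 : l⁻¹ * (1 - l⁻¹) = 0 := by rw [mul_sub, mul_one]; exact h4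
      rcases mul_eq_zero.1 h5 with h6 | h6
      · exact hl0 (inv_eq_zero.1 h6)
      · exact hl1 (inv_eq_one.1 (sub_eq_zero.1 h6).symm)
    refine ⟨(l⁻¹ - l⁻¹ * l⁻¹)⁻¹ * (r3 + r2 - l⁻¹ * r1), ?_⟩
    rw [mul_smul, ← h1, smul_smul, inv_mul_cancel₀ h3, one_smul]
  obtain ⟨r4, rfl⟩ := hff
  obtain ⟨r5, e6⟩ := hf b hb
  rw [e6]
  refine N.mem_Rj.2 ⟨pp M u w b * r4 + r5, ?_⟩
  rw [add_smul, mul_smul]

/-- **(8)**: for `q ≥ 4`, `W₁(R i)` is the same for all points `R i` of `V`. -/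
theorem C_eq_of_cen [Finite G] (s : SideM M B C) (hF : ∃ l : F, l ≠ 0 ∧ l ≠ 1)
    (hcen : ∀ i, ∀ f ∈ B i, f ∈ C i → f ∈ pt M i) (i j : Pt M) : C i = C j := by
  obtain ⟨m, hm1, hm2, x, hx, e⟩ := s.trans_B i j
  have h1 : C j ≤ C i := by
    rw [← s.cC x i j e, cj_le_iff]
    intro c hc
    have h2 := s.comm_mem_R_of hF hcen (Ne.symm hm1) hx hc
    have h3 := mul_mem (s.V_C i (s.R_V m h2)) hc
    have e2 : x * c * x⁻¹ * c⁻¹ * c = x * c * x⁻¹ := by group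
    rwa [e2] at h3
  have h2 : Nat.card (C i) = Nat.card (C j) := by
    rw [← s.cC x i j e, card_cj]
  exact (Subgroup.eq_of_le_of_card_ge h1 h2.le).symm

end SideM

end Cfsg.Agent.Omega.Mix

end
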