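import Cfsg.Agent.Mrg.Omega.Mix.Torus
import Cfsg.Agent.Omega.Lin.CtlAbs
import Cfsg.Agent.Mrg.Omega.BTwo.Basic

section


/-!
# CONTROL for a mixed pair, `q ≥ 4`, `W₁ ≠ V₁` (no `SL_n(q)`, no flags; bb OMEGA #12439, (s3) of helper491)

`W₁(R_i) = W₁`, `W₂(R_i) = W₂` (step (8)); `r ∈ R#` in the centre of a Sylow 2-subgroup of `G` normalising `R`,
`K = C_G(r)` of characteristic 2: then `K` normalises `W₁` or `W₂`.
-/

set_option autoImplicit false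
set_option linter.unusedSectionVars false

namespace Cfsg.Agent.Omega.Mix

open Subgroup Cfsg.Agent.Lib.SL2Mat Cfsg.Agent.Omega.BTwo Cfsg.Agent.Omega.Lin.CtlAbs
open Cfsg.Agent.Omega.NatPair (dt dt_smul dt_add exists_smul_of_dt exists_comb ap ap_smul ap_zero' ap_one' ap_mul
  ap_inv_ap ap_ap_inv ap_one)

universe u

variable {G : Type u} [Group G]

/-- an abelian group `O ≥ R` whose image modulo `R` is the graph of a map `W / R → W' / R`: the graph is `F`-linear -/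
theorem Pai.graph_lin {F : Type*} [Field F] {κ : F → G} {W W' R : Subgroup G}
    (p : Pai κ W W' R) {O : Subgroup G} (hRO : R ≤ O) (hab : ∀ x ∈ O, ∀ y ∈ O, x * y = y * x)
    (hgr : ∀ w ∈ W, ∃ v ∈ W', w * v ∈ O) :
    ∀ a ∈ W, ∀ b ∈ W', a * b ∈ O → ∀ c : F, ∀ a₁ ∈ W, ∀ b₁ ∈ W',
      (∀ y ∈ W', fm κ a₁ y = c * fm κ a y) → (∀ x ∈ W, fm κ x b₁ = c * fm κ x b) → a₁ * b₁ ∈ O := by
  -- symmetry
  have hsym : ∀ a ∈ W, ∀ b ∈ W', a * b ∈ O → ∀ a' ∈ W, ∀ b' ∈ W', a' * b' ∈ O →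
      fm κ a b' = fm κ a' b := by
    intro a ha b hb hO1 a' ha' b' hb' hO2
    have h3 := hab _ hO1 _ hO2
    have e1 : a' * b * a'⁻¹ * b⁻¹ ∈ R := p.cm a' ha' b hb
    have e2 : a * b' * a⁻¹ * b'⁻¹ ∈ R := p.cm a ha b' hb'
    apply p.κ_inj
    rw [p.spec ha (p.tst hb'), p.spec ha' (p.tst hb)]
    have e3 := p.comm a ha a' ha'
    have e4 := p.comm' b hb b' hb'
    have e5 := p.R_comm (inv_mem e1) ha
    have e6 := p.R_comm (inv_mem e2) ha'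
    have e7 : a * b * (a' * b') = (a' * b * a'⁻¹ * b⁻¹)⁻¹ * (a * a' * (b * b')) := by
      calc a * b * (a' * b') = a * ((a' * b * a'⁻¹ * b⁻¹)⁻¹ * (a' * b)) * b' := by group
        _ = a * (a' * b * a'⁻¹ * b⁻¹)⁻¹ * a' * b * b' := by group
        _ = (a' * b * a'⁻¹ * b⁻¹)⁻¹ * a * a' * b * b' := by rw [← e5]
        _ = (a' * b * a'⁻¹ * b⁻¹)⁻¹ * (a * a' * (b * b')) := by group
    have e8 : a' * b' * (a * b) = (a * b' * a⁻¹ * b'⁻¹)⁻¹ * (a * a' * (b * b')) := by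
      calc a' * b' * (a * b) = a' * ((a * b' * a⁻¹ * b'⁻¹)⁻¹ * (a * b')) * b := by group
        _ = a' * (a * b' * a⁻¹ * b'⁻¹)⁻¹ * a * b' * b := by group
        _ = (a * b' * a⁻¹ * b'⁻¹)⁻¹ * a' * a * b' * b := by rw [← e6]
        _ = (a * b' * a⁻¹ * b'⁻¹)⁻¹ * ((a' * a) * (b' * b)) := by group
        _ = (a * b' * a⁻¹ * b'⁻¹)⁻¹ * (a * a' * (b * b')) := by rw [← e3, ← e4]
    rw [e7, e8] at h3
    exact (inv_injective (mul_right_cancel h3)).symm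
  -- linearity
  intro a ha b hb hO1 c a₁ ha₁ b₁ hb₁ e1 e2
  obtain ⟨b', hb', hO2⟩ := hgr a₁ ha₁
  have h3 : ∀ x ∈ W, fm κ b₁ x = fm κ b' x := by
    intro x hx
    obtain ⟨y, hy, hO3⟩ := hgr x hx
    have h4 := hsym a₁ ha₁ b' hb' hO2 x hx y hy hO3
    have h5 := hsym a ha b hb hO1 x hx y hy hO3
    have h6 : fm κ x b₁ = fm κ x b' := by
      rw [e2 x hx, ← h5, ← e1 y hy, h4]
    rw [p.swap hx (p.tst hb₁), p.swap hx (p.tst hb'), h6]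
  have h4 := p.symm.eq_mod hb₁ hb' h3
  -- `b₁ = r b'`
  have h5 : a₁ * b₁ = (b₁ * b'⁻¹) * (a₁ * b') := by
    have h6 := p.R_comm h4 ha₁
    calc a₁ * b₁ = (a₁ * (b₁ * b'⁻¹)) * b' := by group
      _ = (b₁ * b'⁻¹) * a₁ * b' := by rw [h6]
      _ = (b₁ * b'⁻¹) * (a₁ * b') := by group
  rw [h5]
  exact mul_mem (hRO h4) hO2

namespace FIn

variable {F₁ F₂ : Type*} [Field F₁] [Field F₂] {V₁ V₂ N₁ N₂ : Subgroup G} {M₁ : RMod F₁ V₁ N₁}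
  {M₂ : RMod F₂ V₂ N₂}
  {R : Subgroup G} {w₁ : Fin 2 → F₁} {w₂ : Fin 2 → F₂} (f : FIn M₁ M₂ R w₁ w₂) [Finite G]
include f

/-- two lines of type 1 with a common vector outside `R` -/
theorem line_unique {h k : G} (hh : h ∈ normalizer (R : Set G)) (hk : k ∈ normalizer (R : Set G)) {a : G}
    (ha : a ∈ cj h V₁) (hak : a ∈ cj k V₁) (haR : a ∉ R) : cj h V₁ ≤ cj k V₁ := by
  have p := f.pai
  have hle : ∀ h ∈ normalizer (R : Set G), cj h V₁ ≤ LL V₁ R R := fun h hh => cj_le_LL (cj_eq_self_iff.2 hh)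
  intro v hv
  obtain ⟨c, hc⟩ := p.perp_perp f.lin₂ f.symm.W₂_ZZ (hle h hh ha) (hle h hh hv) haR (fun b hb hab =>
    comm_line M₁ f.ne₁ f.line₁ (f.W₂_ZZ hb) hh ha haR hab v hv)
  obtain ⟨v', hv', h2⟩ := f.line₁_lin hk c a hak
  have h3 : v * v'⁻¹ ∈ R :=
    p.eq_mod (hle h hh hv) (hle k hk hv') fun b hb => by rw [hc b hb, h2 b (f.W₂_ZZ hb)]
  have hR : R ≤ cj k V₁ := by
    have h5 := cj_mono (g := k) f.R_V₁
    rwa [cj_eq_self_iff.2 hk] at h5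
  have h4 := mul_mem (hR h3) hv'
  rwa [inv_mul_cancel_right] at h4

/-- `[a, C(R)]` covers `V₁^h` modulo `R` for `a` outside `V₁^h` -/
theorem tvc {h : G} (hh : h ∈ normalizer (R : Set G)) {a : G} (ha : a ∈ LL V₁ R R) (hah : a ∉ cj h V₁) {v : G}
    (hv : v ∈ cj h V₁) : ∃ t ∈ centralizer (R : Set G), ∃ r ∈ R, t * a * t⁻¹ = r * v * a := by
  set i₀ : Pt M₁ := pt₀ M₁ f.ne₁ f.line₁ with hi₀
  obtain ⟨j, hj, -⟩ := f.side₁.third i₀ i₀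
  have hjR : pt M₁ j ≠ R := fun h => hj (f.side₁.R_index h)
  have ha' : h⁻¹ * a * h ∈ LL V₁ R R := conj_inv_mem_of_normalizer (normalizer_le_LL V₁ R R hh) ha
  have haV : h⁻¹ * a * h ∉ V₁ := fun h1 => hah (mem_cj.2 h1)
  have hv' : h⁻¹ * v * h ∈ V₁ := mem_cj.1 hv
  obtain ⟨r, hr, x, hx, e⟩ := f.V₁_split hjR hv'
  obtain ⟨t, ht, htx⟩ := f.tv hjR ha' haV (inv_mem hx)
  have htV := (mem_TT.1 ht).2
  refine ⟨h * t * h⁻¹, ?_, h * r⁻¹ * h⁻¹, conj_mem_of_normalizer hh (inv_mem hr), ?_⟩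
  · rw [mem_centralizer_iff]
    intro y hy
    have h1 := htV _ (f.R_V₁ (conj_inv_mem_of_normalizer hh hy))
    calc y * (h * t * h⁻¹) = h * (h⁻¹ * y * h * t) * h⁻¹ := by group
      _ = h * (t * (h⁻¹ * y * h)) * h⁻¹ := by rw [h1]
      _ = h * t * h⁻¹ * y := by group
  · have h1 : t * (h⁻¹ * a * h) * t⁻¹ = x * (h⁻¹ * a * h) := by
      have h2 := congrArg (fun z => z⁻¹) htx
      simp only [inv_inv] at h2
      rw [← h2]; group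
    have h3 : x = r⁻¹ * (h⁻¹ * v * h) := by rw [e]; group
    calc h * t * h⁻¹ * a * (h * t * h⁻¹)⁻¹ = h * (t * (h⁻¹ * a * h) * t⁻¹) * h⁻¹ := by group
      _ = h * (x * (h⁻¹ * a * h)) * h⁻¹ := by rw [h1]
      _ = h * (r⁻¹ * (h⁻¹ * v * h) * (h⁻¹ * a * h)) * h⁻¹ := by rw [h3]
      _ = h * r⁻¹ * h⁻¹ * v * a := by group

/-- **`C(R)` is irreducible on `W₁ / R`** -/
theorem irr₁ (hW : ¬ LL V₁ R R ≤ V₁) (X : Subgroup G) (hRX : R ≤ X) (hXW : X ≤ LL V₁ R R)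
    (hX : ∀ c ∈ centralizer (R : Set G), ∀ x ∈ X, c * x * c⁻¹ ∈ X) : X = R ∨ X = LL V₁ R R := by
  by_cases hXR : X ≤ R
  · exact Or.inl (le_antisymm hXR hRX)
  right
  have hle : ∀ h ∈ normalizer (R : Set G), cj h V₁ ≤ LL V₁ R R := fun h hh => cj_le_LL (cj_eq_self_iff.2 hh)
  obtain ⟨a₀, ha₀, ha₀R⟩ : ∃ a ∈ X, a ∉ R := by
    by_contra hc
    push Not at hc
    exact hXR hc
  obtain ⟨h₀, hh₀, ha₀V⟩ := f.cover (hXW ha₀)
  -- lines not containing an element of `X`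
  have hA : ∀ a ∈ X, ∀ h ∈ normalizer (R : Set G), a ∉ cj h V₁ → cj h V₁ ≤ X := by
    intro a ha h hh hah v hv
    obtain ⟨t, ht, r, hr, e⟩ := f.tvc hh (hXW ha) hah hv
    have h1 := hX t ht a ha
    rw [e] at h1
    have h2 := mul_mem (mul_mem (inv_mem (hRX hr)) h1) (inv_mem ha)
    have e2 : r⁻¹ * (r * v * a) * a⁻¹ = v := by group
    rwa [e2] at h2
  obtain ⟨h₁, hh₁, hh₁₀⟩ : ∃ h ∈ normalizer (R : Set G), ¬ cj h V₁ ≤ cj h₀ V₁ := by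
    by_contra hc
    push Not at hc
    apply hW
    have h1 : LL V₁ R R ≤ cj h₀ V₁ := LL_le fun g hg => hc g (cj_eq_self_iff.1 hg)
    have h2 := cj_mono (g := h₀⁻¹) h1
    rwa [cj_inv_cj, cj_eq_self_iff.2 (inv_mem (normalizer_le_LL V₁ R R hh₀))] at h2
  have ha₀₁ : a₀ ∉ cj h₁ V₁ := fun h => hh₁₀ (f.line_unique hh₁ hh₀ h ha₀V ha₀R)
  have hX₁ := hA a₀ ha₀ h₁ hh₁ ha₀₁
  obtain ⟨a₁, ha₁, ha₁₀⟩ : ∃ a ∈ cj h₁ V₁, a ∉ cj h₀ V₁ := by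
    by_contra hc
    push Not at hc
    exact hh₁₀ hc
  have hX₀ := hA a₁ (hX₁ ha₁) h₀ hh₀ ha₁₀
  refine le_antisymm hXW (LL_le fun h hh => ?_)
  have hh' := cj_eq_self_iff.1 hh
  by_cases h1 : a₀ ∈ cj h V₁
  · exact (f.line_unique hh' hh₀ h1 ha₀V ha₀R).trans hX₀
  · exact hA a₀ ha₀ h hh' h1

/-- `T_1 = C_{W₂}(V₁)` is bigger than `R` -/
theorem TT_not_le (hW : ¬ LL V₁ R R ≤ V₁) : ¬ TT V₁ (LL V₂ R R) ≤ R := by
  intro h
  apply hW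
  intro a ha
  exact f.perp ha fun b hb => (f.pai.R_comm (h hb) ha).symm

/-- an element `b ∈ W₂` with `[b, T_2] ≤ R` centralises `V₁` -/
theorem mem_TT_of (hW : ¬ LL V₁ R R ≤ V₁) {b : G} (hb : b ∈ LL V₂ R R)
    (h : ∀ t ∈ centralizer (R : Set G), (∀ v ∈ V₁, t * v = v * t) → b⁻¹ * (t * b * t⁻¹) ∈ R) :
    ∀ v ∈ V₁, b * v = v * b := by
  by_contra hbV
  set i₀ : Pt M₁ := pt₀ M₁ f.ne₁ f.line₁ with hi₀
  obtain ⟨j, hj, -⟩ := f.side₁.third i₀ i₀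
  apply f.TT_not_le hW
  intro u hu
  obtain ⟨t, ht, rfl⟩ := f.side₁.surj (i := i₀) (j := j) (Ne.symm hj) hb hbV hu
  have htV := (mem_TT.1 ht).2
  have h1 := h t (mem_centralizer_iff.2 fun r hr => (htV r (f.R_V₁ hr)).symm) htV
  have h2 := inv_mem h1
  have hbR : b ∈ normalizer (R : Set G) := O2_le _ (f.symm.W₁_Q hb)
  have h3 := conj_mem_of_normalizer hbR h2
  have e : b * (b⁻¹ * (t * b * t⁻¹))⁻¹ * b⁻¹ = b * t * b⁻¹ * t⁻¹ := by group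
  rwa [e] at h3

theorem W₁_norm₂ : LL V₁ R R ≤ normalizer (LL V₂ R R : Set G) := fun _ ha =>
  normalizer_le_LL V₂ R R (O2_le _ (f.W₁_Q ha))

/-- the scalars of the line `V₂^k` in the coordinates `kap M₁ w₁` -/
theorem scal₂ {k : G} (hk : k ∈ normalizer (R : Set G)) {T : F₁ → F₂} {T' : F₂ → F₁}
    (hT : ∀ z, M₂.e (T z • w₂) = k⁻¹ * kap M₁ w₁ z * k) (hT'T : ∀ z, T' (T z) = z) (c : F₂) (z : F₁) :
    T' (c * T z) = T' (c * T 1) * z := by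
  have p := f.pai
  obtain ⟨h, hh, a, ha, b, hb, hne⟩ : ∃ h ∈ normalizer (R : Set G), ∃ a ∈ cj h V₁, ∃ b ∈ cj k V₂, a * b ≠ b * a := by
    by_contra hc2
    push Not at hc2
    have h1 : cj k V₂ ≤ R := by
      intro v hv
      refine p.nd' v (cj_le_LL (cj_eq_self_iff.2 hk) hv) ?_
      have h2 : LL V₁ R R ≤ centralizer ({v} : Set G) := by
        refine LL_le fun h hh b hb => ?_
        rw [mem_centralizer_iff]
        intro z hz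
        rw [Set.mem_singleton_iff.1 hz]
        exact (hc2 h (cj_eq_self_iff.1 hh) b hb v hv).symm
      intro b hb
      exact (mem_centralizer_iff.1 (h2 hb) v rfl).symm
    have h4 : V₂ ≤ R := by
      have h5 := cj_mono (g := k⁻¹) h1
      rwa [cj_inv_cj, cj_eq_self_iff.2 (inv_mem hk)] at h5
    rw [f.line₂] at h4
    exact not_le_line M₂ f.ne₂ h4
  exact p.scalar f.W₂_ZZ f.symm.W₂_ZZ (cj_le_LL (cj_eq_self_iff.2 hh)) (f.line₁_lin hh)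
    (ln M₂ f.ne₂ f.line₂ p.symm f.symm.W₂_ZZ hk) ⟨a, ha, b, hb, hne⟩ (σ := fun z => T' (c * T z))
    (sc_line M₂ f.ne₂ f.line₂ p.symm hk hT hT'T c) z

variable [Finite F₁] [Finite F₂] [CharP F₁ 2] [CharP F₂ 2]

/-- torus elements at `V₁` -/
theorem tor₁ (hC : ∀ i, LL V₁ R (pt M₁ i) = LL V₁ R R) {μ : F₁} (hμ : μ ≠ 0) :
    ∃ g ∈ normalizer (R : Set G), (∀ z, g * kap M₁ w₁ z * g⁻¹ = kap M₁ w₁ (μ * z)) ∧
      (∀ a ∈ V₁, g * a * g⁻¹ ∈ V₁ ∧ ∀ b ∈ LL V₂ R R, fm (kap M₁ w₁) (g * a * g⁻¹) b = μ⁻¹ * fm (kap M₁ w₁) a b) ∧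
      ∀ b ∈ LL V₂ R R, (∀ a ∈ V₁, a * b = b * a) →
        ∀ a ∈ LL V₁ R R, fm (kap M₁ w₁) a (g * b * g⁻¹) = μ * fm (kap M₁ w₁) a b := by
  have p := f.pai
  set i₀ : Pt M₁ := pt₀ M₁ f.ne₁ f.line₁ with hi₀
  obtain ⟨u, hu⟩ := exists_dt f.ne₁
  have hu0 : u ≠ 0 := ne_zero_of_dt hu
  obtain ⟨g₀, h1, h2⟩ := f.side₁.exists_g₀ (i := i₀) (j := ⟨_, u, hu0, rfl⟩) (w := w₁) (u := u)
    f.line₁ rfl hu ((hC _).trans (hC i₀).symm) hμ
  have h2' : ∀ a ∈ LL V₁ R R, g₀ * a * g₀⁻¹ * a⁻¹ ∈ V₁ := h2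
  obtain ⟨g, hg, h3, h4, h5⟩ := tor_line M₁ f.ne₁ hu f.line₁ p f.W₂_ZZ (normalizer_le_LL V₂ R R) (one_mem _)
    (T := fun z => z) (T' := fun z => z) (fun z => by
      show M₁.e (z • w₁) = 1⁻¹ * M₁.e (z • w₁) * 1
      group) (fun _ => rfl) (fun _ => rfl) (fun c => ⟨c, fun _ => rfl⟩) hμ h1 h2' (μ := μ) (fun _ => rfl)
  rw [cj_one] at h4 h5
  exact ⟨g, hg, h3, h4, h5⟩

/-- torus elements at a line of type 2 -/
theorem tor₂ (hC : ∀ i, LL V₂ R (pt M₂ i) = LL V₂ R R) {k : G} (hk : k ∈ normalizer (R : Set G)) {μ : F₁}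
    (hμ : μ ≠ 0) :
    ∃ g ∈ normalizer (R : Set G), (∀ z, g * kap M₁ w₁ z * g⁻¹ = kap M₁ w₁ (μ * z)) ∧
      (∀ b ∈ cj k V₂, g * b * g⁻¹ ∈ cj k V₂ ∧ ∀ a ∈ LL V₁ R R,
        fm (kap M₁ w₁) (g * b * g⁻¹) a = μ⁻¹ * fm (kap M₁ w₁) b a) ∧
      ∀ a ∈ LL V₁ R R, (∀ b ∈ cj k V₂, b * a = a * b) →
        ∀ b ∈ LL V₂ R R, fm (kap M₁ w₁) b (g * a * g⁻¹) = μ * fm (kap M₁ w₁) b a := by
  have p := f.pai
  set i₀ : Pt M₂ := pt₀ M₂ f.ne₂ f.line₂ with hi₀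
  obtain ⟨T, T', hT, hTT', hT'T, hT0⟩ := exists_T M₂ f.ne₂ f.line₂ p.symm hk
  have hT1 : T 1 ≠ 0 := T_ne (h := k) M₂ f.ne₂ f.line₂ p.symm hT'T hT0 one_ne_zero
  have hTμ : T μ ≠ 0 := T_ne (h := k) M₂ f.ne₂ f.line₂ p.symm hT'T hT0 hμ
  have hc : T μ * (T 1)⁻¹ ≠ 0 := mul_ne_zero hTμ (inv_ne_zero hT1)
  obtain ⟨u, hu⟩ := exists_dt f.ne₂
  have hu0 : u ≠ 0 := ne_zero_of_dt hu
  obtain ⟨g₀, h1, h2⟩ := f.side₂.exists_g₀ (i := i₀) (j := ⟨_, u, hu0, rfl⟩) (w := w₂) (u := u)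
    f.line₂ rfl hu ((hC _).trans (hC i₀).symm) hc
  have h2' : ∀ a ∈ LL V₂ R R, g₀ * a * g₀⁻¹ * a⁻¹ ∈ V₂ := h2
  have hsc : ∀ z, T' (T μ * (T 1)⁻¹ * T z) = μ * z := by
    intro z
    rw [f.scal₂ hk hT hT'T, mul_assoc, inv_mul_cancel₀ hT1, mul_one, hT'T]
  exact tor_line M₂ f.ne₂ hu f.line₂ p.symm f.symm.W₂_ZZ (normalizer_le_LL V₁ R R) hk hT hTT' hT'T
    (fun c => ⟨_, f.scal₂ hk hT hT'T c⟩) hc h1 h2' hsc

/-- **the graph case is impossible** -/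
theorem no_graph (hW₁ : ¬ LL V₁ R R ≤ V₁) (hC₁ : ∀ i, LL V₁ R (pt M₁ i) = LL V₁ R R)
    (hC₂ : ∀ i, LL V₂ R (pt M₂ i) = LL V₂ R R) (hF : ∃ c : F₁, c ≠ 0 ∧ c ≠ 1) {O : Subgroup G}
    (hO : ∀ c ∈ centralizer (R : Set G), ∀ x ∈ O, c * x * c⁻¹ ∈ O) (hRO : R ≤ O)
    (hab : ∀ x ∈ O, ∀ y ∈ O, x * y = y * x) (h₁ : O ⊓ LL V₁ R R = R) (h₂ : O ⊓ LL V₂ R R = R)
    (hgr : ∀ w ∈ LL V₁ R R, ∃ v ∈ LL V₂ R R, w * v ∈ O) : False := by
  have p := f.pai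
  set κ := kap M₁ w₁ with hκ
  have hR₂ : ∀ x ∈ O, x ∈ LL V₂ R R → x ∈ R := fun x h1 h2 => by rw [← h₂]; exact ⟨h1, h2⟩
  have hlin := p.graph_lin hRO hab hgr
  -- a vector of `V₁ - R`
  obtain ⟨a, haV, haR⟩ : ∃ v ∈ V₁, v ∉ R := by
    by_contra hc
    push Not at hc
    have h1 : V₁ ≤ R := hc
    rw [f.line₁] at h1
    exact not_le_line M₁ f.ne₁ h1
  have ha := V_le_LL V₁ R haV
  obtain ⟨b, hb, hO1⟩ := hgr a ha
  have hbR : b ∉ R := by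
    intro h
    apply haR
    rw [← h₁]
    refine ⟨?_, ha⟩
    have := mul_mem hO1 (inv_mem (hRO h))
    rwa [mul_inv_cancel_right] at this
  -- `b` centralises `V₁`
  have hbV : ∀ v ∈ V₁, b * v = v * b := by
    refine f.mem_TT_of hW₁ hb fun t ht htV => ?_
    have h3 := hO t ht _ hO1
    have htN : t ∈ normalizer (R : Set G) := by
      refine mem_normalizer_of_conj fun r hr => ?_
      rw [← mem_centralizer_iff.1 ht r hr, mul_inv_cancel_right]; exact hr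
    have h4 := mul_mem (inv_mem hO1) h3
    have h5 : (a * b)⁻¹ * (t * (a * b) * t⁻¹) = b⁻¹ * (t * b * t⁻¹) := by
      calc (a * b)⁻¹ * (t * (a * b) * t⁻¹) = b⁻¹ * a⁻¹ * (t * a) * b * t⁻¹ := by group
        _ = b⁻¹ * a⁻¹ * (a * t) * b * t⁻¹ := by rw [htV a haV]
        _ = b⁻¹ * (t * b * t⁻¹) := by group
    rw [h5] at h4
    exact hR₂ _ h4 (mul_mem (inv_mem hb) (conj_mem_of_normalizer (normalizer_le_LL V₂ R R htN) hb))
  -- the line of type 2 through `b`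
  obtain ⟨k, hk, hbk⟩ := f.symm.cover hb
  have hkV : ∀ v ∈ V₁, ∀ x ∈ cj k V₂, x * v = v * x := fun v hv =>
    comm_line M₂ f.ne₂ f.line₂ (f.symm.W₂_ZZ (V_le_LL V₁ R hv)) hk hbk hbR (hbV v hv)
  obtain ⟨μ, hμ0, hμ1⟩ := hF
  obtain ⟨g₁, hg₁, hz₁, hv₁, ht₁⟩ := f.tor₁ hC₁ hμ0
  obtain ⟨g₂, hg₂, hz₂, hv₂, ht₂⟩ := f.tor₂ hC₂ hk (inv_ne_zero hμ0)
  -- `g₁ g₂` centralises `R`
  have hgR : g₁ * g₂ ∈ centralizer (R : Set G) := by
    rw [mem_centralizer_iff]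
    intro r hr
    obtain ⟨z, rfl⟩ := (p.κ_mem r).1 hr
    have h3 : g₁ * g₂ * κ z * (g₁ * g₂)⁻¹ = κ z := by
      calc g₁ * g₂ * κ z * (g₁ * g₂)⁻¹ = g₁ * (g₂ * κ z * g₂⁻¹) * g₁⁻¹ := by group
        _ = κ z := by rw [hz₂, hz₁, ← mul_assoc, mul_inv_cancel₀ hμ0, one_mul]
    exact (mul_inv_eq_iff_eq_mul.1 h3).symm
  have hO2 := hO _ hgR _ hO1
  -- the images of `a` and `b`
  have ha₂W : g₂ * a * g₂⁻¹ ∈ LL V₁ R R := conj_mem_of_normalizer (normalizer_le_LL V₁ R R hg₂) ha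
  have ha₂ : ∀ y ∈ LL V₂ R R, fm κ (g₂ * a * g₂⁻¹) y = μ⁻¹ * fm κ a y := by
    intro y hy
    have h3 := ht₂ a ha (fun x hx => hkV a haV x hx) y hy
    rw [p.swap ha₂W (p.tst hy), p.swap ha (p.tst hy), mul_neg, neg_inj] at h3
    exact h3
  have ha₂V : g₂ * a * g₂⁻¹ ∈ V₁ := by
    refine f.perp ha₂W fun y hy => ?_
    have hyW := TT_le _ _ hy
    rw [← p.fm_eq_zero ha₂W (p.tst hyW), ha₂ y hyW,
      (p.fm_eq_zero ha (p.tst hyW)).2 ((mem_TT.1 hy).2 a haV).symm, mul_zero]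
  have hb₂W : g₂ * b * g₂⁻¹ ∈ LL V₂ R R := conj_mem_of_normalizer (normalizer_le_LL V₂ R R hg₂) hb
  have hb₂ : ∀ x ∈ LL V₁ R R, fm κ x (g₂ * b * g₂⁻¹) = μ * fm κ x b := by
    intro x hx
    have h3 := (hv₂ b hbk).2 x hx
    rw [inv_inv, p.swap hx (p.tst hb₂W), p.swap hx (p.tst hb), mul_neg, neg_inj] at h3
    exact h3
  have hb₂V : ∀ v ∈ V₁, v * (g₂ * b * g₂⁻¹) = g₂ * b * g₂⁻¹ * v := by
    intro v hv
    have hvW := V_le_LL V₁ R hv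
    rw [← p.fm_eq_zero hvW (p.tst hb₂W), hb₂ v hvW, (p.fm_eq_zero hvW (p.tst hb)).2 (hbV v hv).symm, mul_zero]
  have ha₃W : g₁ * (g₂ * a * g₂⁻¹) * g₁⁻¹ ∈ LL V₁ R R := conj_mem_of_normalizer (normalizer_le_LL V₁ R R hg₁) ha₂W
  have hb₃W : g₁ * (g₂ * b * g₂⁻¹) * g₁⁻¹ ∈ LL V₂ R R := conj_mem_of_normalizer (normalizer_le_LL V₂ R R hg₁) hb₂W
  have ha₃ : ∀ y ∈ LL V₂ R R, fm κ (g₁ * (g₂ * a * g₂⁻¹) * g₁⁻¹) y = (μ⁻¹ * μ⁻¹) * fm κ a y := by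
    intro y hy
    rw [(hv₁ _ ha₂V).2 y hy, ha₂ y hy, mul_assoc]
  have hb₃ : ∀ x ∈ LL V₁ R R, fm κ x (g₁ * (g₂ * b * g₂⁻¹) * g₁⁻¹) = (μ * μ) * fm κ x b := by
    intro x hx
    rw [ht₁ _ hb₂W hb₂V x hx, hb₂ x hx, mul_assoc]
  have hO3 : g₁ * (g₂ * a * g₂⁻¹) * g₁⁻¹ * (g₁ * (g₂ * b * g₂⁻¹) * g₁⁻¹) ∈ O := by
    have e : g₁ * g₂ * (a * b) * (g₁ * g₂)⁻¹ = g₁ * (g₂ * a * g₂⁻¹) * g₁⁻¹ * (g₁ * (g₂ * b * g₂⁻¹) * g₁⁻¹) := by group
    rwa [e] at hO2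
  obtain ⟨b₁, hb₁W, hb₁⟩ := p.lin_right f.lin₂ f.symm.W₂_ZZ (μ⁻¹ * μ⁻¹) hb
  have hO4 := hlin a ha b hb hO1 (μ⁻¹ * μ⁻¹) _ ha₃W b₁ hb₁W ha₃ hb₁
  have h6 := mul_mem (inv_mem hO4) hO3
  set a₃ := g₁ * (g₂ * a * g₂⁻¹) * g₁⁻¹ with ha₃def
  set b₃ := g₁ * (g₂ * b * g₂⁻¹) * g₁⁻¹ with hb₃def
  have e7 : (a₃ * b₁)⁻¹ * (a₃ * b₃) = b₁⁻¹ * b₃ := by group
  rw [e7] at h6
  have h7 := hR₂ _ h6 (mul_mem (inv_mem hb₁W) hb₃W)
  -- a vector not commuting with `b`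
  obtain ⟨x, hx, hxb⟩ : ∃ x ∈ LL V₁ R R, fm κ x b ≠ 0 := by
    by_contra hc
    push Not at hc
    exact hbR (p.nd' b hb fun x hx => (p.fm_eq_zero hx (p.tst hb)).1 (hc x hx))
  have h8 : fm κ x (b₁⁻¹ * b₃) = 0 := p.R_right hx h7
  rw [p.mul_right hx (p.tst_inv (p.tst hb₁W)) (p.tst hb₃W), p.inv_right hx (p.tst hb₁W), hb₁ x hx, hb₃ x hx,
    neg_add_eq_zero] at h8
  have h9 := mul_right_cancel₀ hxb h8
  apply hμ1
  have h10 : μ ^ 2 ^ 2 = 1 := by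
    have h11 : μ * μ * (μ * μ) = 1 := by
      nth_rewrite 1 [← h9]
      field_simp
    rw [← h11]
    ring
  exact NatPair.eq_one_of_pow h10

theorem R_ne_W₁ : R ≠ LL V₁ R R := by
  intro h
  have h1 : V₁ ≤ R := (V_le_LL V₁ R).trans h.ge
  rw [f.line₁] at h1
  exact not_le_line M₁ f.ne₁ h1

/-- **CONTROL**, from irreducibility and the exclusion of the graph -/
theorem control_of
    (hi₁ : ∀ X : Subgroup G, R ≤ X → X ≤ LL V₁ R R → (∀ c ∈ centralizer (R : Set G), ∀ x ∈ X, c * x * c⁻¹ ∈ X) →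
      X = R ∨ X = LL V₁ R R)
    (hi₂ : ∀ X : Subgroup G, R ≤ X → X ≤ LL V₂ R R → (∀ c ∈ centralizer (R : Set G), ∀ x ∈ X, c * x * c⁻¹ ∈ X) →
      X = R ∨ X = LL V₂ R R)
    (hgr : ∀ O : Subgroup G, (∀ c ∈ centralizer (R : Set G), ∀ x ∈ O, c * x * c⁻¹ ∈ O) → R ≤ O →
      (∀ x ∈ O, ∀ y ∈ O, x * y = y * x) → O ⊓ LL V₁ R R = R → O ⊓ LL V₂ R R = R →
      (∀ w ∈ LL V₁ R R, ∃ v ∈ LL V₂ R R, w * v ∈ O) → False) {r : G} (hr : r ∈ R)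
    (S : Sylow 2 G) (hS : (S : Subgroup G) ≤ normalizer (R : Set G)) (hSr : ∀ s ∈ S, s * r = r * s)
    (hK : Char2 (centralizer ({r} : Set G))) :
    centralizer ({r} : Set G) ≤ normalizer (LL V₁ R R : Set G) ∨
      centralizer ({r} : Set G) ≤ normalizer (LL V₂ R R : Set G) := by
  have p := f.pai
  have : Fact (Nat.Prime 2) := ⟨Nat.prime_two⟩
  set K := centralizer ({r} : Set G) with hKdef
  set O := O2 K with hOdef
  have hmemK : ∀ x, x ∈ K ↔ x * r = r * x := by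
    intro x
    rw [hKdef, mem_centralizer_iff]
    constructor
    · intro h
      exact (h r rfl).symm
    · intro h y hy
      rw [Set.mem_singleton_iff.1 hy]
      exact h.symm
  have hSK : (S : Subgroup G) ≤ K := fun s hs => (hmemK s).2 (hSr s hs)
  have hOS : O ≤ S := by
    have h1 : IsPGroup 2 ((S : Subgroup G) ⊔ O : Subgroup G) :=
      S.isPGroup'.to_sup_of_normal_right' (O2_isPGroup _) (hSK.trans (le_normalizer_O2 _))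
    have h2 := S.is_maximal' h1 le_sup_left
    exact le_sup_right.trans_eq h2
  have hON : O ≤ normalizer (R : Set G) := hOS.trans hS
  have hcK : centralizer (R : Set G) ≤ K := fun x hx => (hmemK x).2 (mem_centralizer_iff.1 hx r hr).symm
  have hcN : centralizer (R : Set G) ≤ normalizer (R : Set G) := by
    intro x hx
    refine mem_normalizer_of_conj fun r hr => ?_
    rw [← mem_centralizer_iff.1 hx r hr, mul_inv_cancel_right]; exact hr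
  have hnO : ∀ k ∈ K, ∀ o ∈ O, k * o * k⁻¹ ∈ O := fun k hk o ho =>
    conj_mem_of_normalizer (le_normalizer_O2 _ hk) ho
  have hcO : ∀ k ∈ K, (∀ o ∈ O, k * o = o * k) → k ∈ O := fun k hk h => hK k hk h
  have hRW₁ := f.R_W₁
  have hRW₂ := f.symm.R_W₁
  have hRne₁ : R ≠ LL V₁ R R := f.R_ne_W₁
  have hRne₂ : R ≠ LL V₂ R R := f.symm.R_ne_W₁
  -- `[W, O] ≤ R`
  have key : ∀ W : Subgroup G, R ≤ W → R ≠ W → IsPGroup 2 W → normalizer (R : Set G) ≤ normalizer (W : Set G) →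
      (∀ a ∈ W, ∀ b ∈ W, a * b = b * a) →
      (∀ X : Subgroup G, R ≤ X → X ≤ W → (∀ c ∈ centralizer (R : Set G), ∀ x ∈ X, c * x * c⁻¹ ∈ X) → X = R ∨ X = W) →
      ∀ g ∈ O, ∀ a ∈ W, g * a * g⁻¹ * a⁻¹ ∈ R := by
    intro W hRW hne hW hn hcom hirr
    let X : Subgroup G :=
      { carrier := {a | a ∈ W ∧ ∀ g ∈ O, g * a * g⁻¹ * a⁻¹ ∈ R}
        one_mem' := ⟨one_mem _, fun g _ => by
          have e : g * 1 * g⁻¹ * 1⁻¹ = 1 := by group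
          rw [e]; exact one_mem _⟩
        mul_mem' := by
          rintro a b ⟨ha, ha'⟩ ⟨hb, hb'⟩
          refine ⟨mul_mem ha hb, fun g hg => ?_⟩
          have e : g * (a * b) * g⁻¹ * (a * b)⁻¹ = (g * a * g⁻¹ * a⁻¹) * (a * (g * b * g⁻¹ * b⁻¹) * a⁻¹) := by group
          rw [e, hcom a ha _ (hRW (hb' g hg)), mul_inv_cancel_right]
          exact mul_mem (ha' g hg) (hb' g hg)
        inv_mem' := by
          rintro a ⟨ha, ha'⟩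
          refine ⟨inv_mem ha, fun g hg => ?_⟩
          have h1 := inv_mem (ha' g hg)
          have h2 := hcom (a⁻¹) (inv_mem ha) _ (hRW h1)
          have e : g * a⁻¹ * g⁻¹ * a⁻¹⁻¹ = a⁻¹ * (g * a * g⁻¹ * a⁻¹)⁻¹ * a := by group
          rw [e, h2, inv_mul_cancel_right]
          exact h1 }
    have hXR : R ≤ X := fun x hx => ⟨hRW hx, fun g hg =>
      mul_mem (conj_mem_of_normalizer (hON hg) hx) (inv_mem hx)⟩
    have hXW : X ≤ W := fun x hx => hx.1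
    have hXc : ∀ c ∈ centralizer (R : Set G), ∀ x ∈ X, c * x * c⁻¹ ∈ X := by
      rintro c hc x ⟨hx, hx'⟩
      refine ⟨conj_mem_of_normalizer (hn (hcN hc)) hx, fun g hg => ?_⟩
      have h1 := hx' _ (hnO c⁻¹ (inv_mem (hcK hc)) g hg)
      have h2 := mem_centralizer_iff.1 hc _ h1
      have e : g * (c * x * c⁻¹) * g⁻¹ * (c * x * c⁻¹)⁻¹ =
          c * (c⁻¹ * g * c⁻¹⁻¹ * x * (c⁻¹ * g * c⁻¹⁻¹)⁻¹ * x⁻¹) * c⁻¹ := by group
      rw [e, ← h2, mul_inv_cancel_right]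
      exact h1
    rcases hirr X hXR hXW hXc with h | h
    · exfalso
      obtain ⟨w, hw, hwR, hwO⟩ := exists_fixed_mod (p := 2) hW (O2_isPGroup K) hRW hne (hON.trans hn) hON (by
        intro a ha
        refine mem_normalizer_of_conj fun r hr => ?_
        rw [hcom a ha r (hRW hr), mul_inv_cancel_right]; exact hr)
      apply hwR
      rw [← h]
      exact ⟨hw, hwO⟩
    · intro g hg a ha
      rw [← h] at ha
      exact ha.2 g hg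
  have hp₁ : IsPGroup 2 (LL V₁ R R) := (O2_isPGroup _).to_le f.W₁_Q
  have hp₂ : IsPGroup 2 (LL V₂ R R) := (O2_isPGroup _).to_le f.symm.W₁_Q
  have k₁ := key _ hRW₁ hRne₁ hp₁ (normalizer_le_LL V₁ R R) f.comm₁ hi₁
  have k₂ := key _ hRW₂ hRne₂ hp₂ (normalizer_le_LL V₂ R R) f.comm₂ hi₂
  -- `[R, O] = 1`
  have kR : ∀ g ∈ O, ∀ x ∈ R, g * x = x * g := by
    intro g hg x hx
    set i₀ : Pt M₁ := pt₀ M₁ f.ne₁ f.line₁ with hi₀
    obtain ⟨j, hj, -⟩ := f.side₁.third i₀ i₀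
    obtain ⟨b, hb, hbV⟩ := f.side₁.exists_move (Ne.symm hj)
    obtain ⟨a, ha, e⟩ := f.side₁.surjR (i := i₀) (j := j) (Ne.symm hj) hb hbV hx
    have haW : a ∈ LL V₁ R R := V_le_LL V₁ R (f.side₁.R_V j ha)
    have hbW : b ∈ LL V₂ R R := hb
    have h1 := k₁ g hg a haW
    have h2 := k₂ g hg b hbW
    have h3 : g * a * g⁻¹ = (g * a * g⁻¹ * a⁻¹) * a := by group
    have h4 : g * b * g⁻¹ = (g * b * g⁻¹ * b⁻¹) * b := by group
    set ρ := g * a * g⁻¹ * a⁻¹ with hρ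
    set τ := g * b * g⁻¹ * b⁻¹ with hτ
    have c1 : ρ * b = b * ρ := p.R_comm' h1 hb
    have c2 : τ * a = a * τ := p.R_comm h2 haW
    have c3 : τ * ρ = ρ * τ := p.R_comm h2 (hRW₁ h1)
    have c4 : τ * b = b * τ := p.R_comm' h2 hb
    have c5 : ρ * a = a * ρ := p.R_comm h1 haW
    have h5 : g * x * g⁻¹ = x := by
      rw [← e]
      calc g * (b * a * b⁻¹ * a⁻¹) * g⁻¹ = (g * b * g⁻¹) * (g * a * g⁻¹) * (g * b * g⁻¹)⁻¹ * (g * a * g⁻¹)⁻¹ := by group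
        _ = (τ * b) * (ρ * a) * (τ * b)⁻¹ * (ρ * a)⁻¹ := by rw [h3, h4]
        _ = (b * τ) * (a * ρ) * (b * τ)⁻¹ * (a * ρ)⁻¹ := by rw [c4, c5]
        _ = b * (τ * a) * ρ * τ⁻¹ * b⁻¹ * ρ⁻¹ * a⁻¹ := by group
        _ = b * a * (τ * ρ) * τ⁻¹ * b⁻¹ * ρ⁻¹ * a⁻¹ := by rw [c2]; group
        _ = b * a * (ρ * τ) * τ⁻¹ * b⁻¹ * ρ⁻¹ * a⁻¹ := by rw [c3]
        _ = b * a * (ρ * b⁻¹) * ρ⁻¹ * a⁻¹ := by group
        _ = b * a * (b⁻¹ * ρ) * ρ⁻¹ * a⁻¹ := by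
            have : ρ * b⁻¹ = b⁻¹ * ρ := p.R_comm' h1 (inv_mem hb)
            rw [this]
        _ = b * a * b⁻¹ * a⁻¹ := by group
    exact mul_inv_eq_iff_eq_mul.1 h5
  have hOQ : O ≤ LL V₁ R R ⊔ LL V₂ R R := fun g hg => f.mem_W_of (k₁ g hg) (k₂ g hg) (kR g hg)
  have D : Data (LL V₁ R R) (LL V₂ R R) R K O :=
    { ab₁ := f.comm₁
      ab₂ := f.comm₂
      R₁ := hRW₁
      R₂ := hRW₂
      comm := p.cm
      nd₁ := p.nd
      nd₂ := p.nd'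
      ne₁ := hRne₁
      ne₂ := hRne₂
      irr₁ := hi₁
      irr₂ := hi₂
      cK := hcK
      nW₁ := fun c hc x hx => conj_mem_of_normalizer (normalizer_le_LL V₁ R R (hcN hc)) hx
      nW₂ := fun c hc x hx => conj_mem_of_normalizer (normalizer_le_LL V₂ R R (hcN hc)) hx
      nO := hnO
      cO := hcO
      OQ := hOQ }
  rcases D.main with h | h | h | ⟨h1, h2, h3, h4⟩
  · exact Or.inl h
  · exact Or.inr h
  · exact Or.inl (h.trans (normalizer_le_LL V₁ R R))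
  · exact (hgr O (fun c hc x hx => hnO c (hcK hc) x hx) D.R_le h1 h2 h3 h4).elim

/-- **CONTROL**, `W₁ ≠ V₁` -/
theorem control (hW₁ : ¬ LL V₁ R R ≤ V₁) (hW₂ : ¬ LL V₂ R R ≤ V₂) (hC₁ : ∀ i, LL V₁ R (pt M₁ i) = LL V₁ R R)
    (hC₂ : ∀ i, LL V₂ R (pt M₂ i) = LL V₂ R R) (hF : ∃ c : F₁, c ≠ 0 ∧ c ≠ 1) {r : G} (hr : r ∈ R)
    (S : Sylow 2 G) (hS : (S : Subgroup G) ≤ normalizer (R : Set G)) (hSr : ∀ s ∈ S, s * r = r * s)
    (hK : Char2 (centralizer ({r} : Set G))) :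
    centralizer ({r} : Set G) ≤ normalizer (LL V₁ R R : Set G) ∨
      centralizer ({r} : Set G) ≤ normalizer (LL V₂ R R : Set G) :=
  f.control_of (f.irr₁ hW₁) (f.symm.irr₁ hW₂) (fun _ h1 h2 h3 h4 h5 h6 => f.no_graph hW₁ hC₁ hC₂ hF h1 h2 h3 h4 h5 h6)
    hr S hS hSr hK

/-- `N(W₁)` is transitive on `W₁#` -/
theorem trans_W₁ (hC₁ : ∀ i, LL V₁ R (pt M₁ i) = LL V₁ R R) {x : G} (hx : x ∈ LL V₁ R R) (hx1 : x ≠ 1) :
    ∃ n ∈ normalizer (LL V₁ R R : Set G), n * x * n⁻¹ = M₁.e w₁ := by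
  obtain ⟨h, hh, hxh⟩ := f.cover hx
  have h1 : h⁻¹ * x * h ∈ V₁ := mem_cj.1 hxh
  obtain ⟨y, hy⟩ := (M₁.mem_iff _).1 h1
  have hy0 : y ≠ 0 := by
    rintro rfl
    apply hx1
    rw [M₁.e_zero] at hy
    calc x = h * (h⁻¹ * x * h) * h⁻¹ := by group
      _ = 1 := by rw [← hy]; group
  obtain ⟨A, hA⟩ := NatPair.exists_ap hy0 f.ne₁
  obtain ⟨l, hl⟩ := M₁.lift A
  have hlN : l ∈ normalizer (LL V₁ R R : Set G) := by
    have hw0 : ap A w₁ ≠ 0 := by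
      intro h0
      have h2 := congrArg (ap A⁻¹) h0
      rw [ap_inv_ap] at h2
      apply f.ne₁
      rw [h2]
      apply NatPair.ext2
      · rw [ap_zero']; simp
      · rw [ap_one']; simp
    let i : Pt M₁ := ⟨_, ap A w₁, hw0, rfl⟩
    have h2 : cj l R = pt M₁ i := by
      have h3 := M₁.cj_line_of_ind hl w₁
      rw [← f.line₁] at h3
      exact h3
    rw [← cj_eq_self_iff, cj_LL h2]
    exact hC₁ i
  refine ⟨l * h⁻¹, mul_mem hlN (normalizer_le_LL V₁ R R (inv_mem hh)), ?_⟩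
  calc l * h⁻¹ * x * (l * h⁻¹)⁻¹ = l * (h⁻¹ * x * h) * l⁻¹ := by group
    _ = l * M₁.e y * l⁻¹ := by rw [hy]
    _ = M₁.e w₁ := by rw [hl, hA]

end FIn

end Cfsg.Agent.Omega.Mix

end

section


/-!
# TEXT MIX (8), field-free form (bb OMEGA #12374 (8), #12407 (7))

`Side.C_eq` : if some `h ∈ B i ⊔ B j` normalises `R i` and `R j` and acts without fixed points on `T i / R i` and
`T j / R j` (`T = C_B(V)`), and `C k ∩ B k ≤ R k`, then `C i = C j`: `W₁` is the same for all the points of the line `V`.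
-/

set_option autoImplicit false
set_option linter.unusedSectionVars false
set_option linter.unusedVariables false

namespace Cfsg.Agent.Omega.Mix

open Subgroup Cfsg.Agent.Omega.BTwo

variable {G : Type*} [Group G] {ι : Type*}

/-- the product of two subgroups which commute elementwise -/
def NN (T U : Subgroup G) (h : ∀ t ∈ T, ∀ u ∈ U, t * u = u * t) : Subgroup G where
  carrier := {x | ∃ t ∈ T, ∃ u ∈ U, x = t * u}
  one_mem' := ⟨1, one_mem _, 1, one_mem _, (one_mul 1).symm⟩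
  mul_mem' := by
    rintro _ _ ⟨t, ht, u, hu, rfl⟩ ⟨t', ht', u', hu', rfl⟩
    refine ⟨t * t', mul_mem ht ht', u * u', mul_mem hu hu', ?_⟩
    calc t * u * (t' * u') = t * (u * t') * u' := by group
      _ = t * (t' * u) * u' := by rw [h t' ht' u hu]
      _ = t * t' * (u * u') := by group
  inv_mem' := by
    rintro _ ⟨t, ht, u, hu, rfl⟩
    refine ⟨t⁻¹, inv_mem ht, u⁻¹, inv_mem hu, ?_⟩
    rw [h t ht u hu, mul_inv_rev]

theorem mem_NN {T U : Subgroup G} {h : ∀ t ∈ T, ∀ u ∈ U, t * u = u * t} {x : G} :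
    x ∈ NN T U h ↔ ∃ t ∈ T, ∃ u ∈ U, x = t * u := Iff.rfl

/-- the elements of `N(V)` which act trivially on `C(V)` modulo `N` -/
def KK (V N : Subgroup G) : Subgroup G where
  carrier := {x | x ∈ normalizer (V : Set G) ∧ ∀ c ∈ centralizer (V : Set G), x * c * x⁻¹ * c⁻¹ ∈ N}
  one_mem' := ⟨one_mem _, fun c _ => by
    have e : 1 * c * 1⁻¹ * c⁻¹ = 1 := by group
    rw [e]; exact one_mem _⟩
  mul_mem' := by
    rintro x y ⟨hx, hx'⟩ ⟨hy, hy'⟩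
    refine ⟨mul_mem hx hy, fun c hc => ?_⟩
    have h1 : y * c * y⁻¹ ∈ centralizer (V : Set G) :=
      conj_mem_of_normalizer (normalizer_le_normalizer_centralizer V hy) hc
    have e : x * y * c * (x * y)⁻¹ * c⁻¹ =
        (x * (y * c * y⁻¹) * x⁻¹ * (y * c * y⁻¹)⁻¹) * (y * c * y⁻¹ * c⁻¹) := by group
    rw [e]
    exact mul_mem (hx' _ h1) (hy' c hc)
  inv_mem' := by
    rintro x ⟨hx, hx'⟩
    refine ⟨inv_mem hx, fun c hc => ?_⟩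
    have h1 : x⁻¹ * c * x⁻¹⁻¹ ∈ centralizer (V : Set G) :=
      conj_mem_of_normalizer (normalizer_le_normalizer_centralizer V (inv_mem hx)) hc
    have e : x⁻¹ * c * x⁻¹⁻¹ * c⁻¹ =
        (x * (x⁻¹ * c * x⁻¹⁻¹) * x⁻¹ * (x⁻¹ * c * x⁻¹⁻¹)⁻¹)⁻¹ := by group
    rw [e]
    exact inv_mem (hx' _ h1)

namespace Side

variable {V : Subgroup G} {R B C : ι → Subgroup G} (s : Side V R B C)
include s

theorem R_TT (i : ι) : R i ≤ TT V (B i) := fun r hr =>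
  mem_TT.2 ⟨s.R_B i hr, fun v hv => s.V_comm (s.R_V i hr) hv i⟩

theorem mem_cV {x : G} (hx : ∀ v ∈ V, x * v = v * x) : x ∈ centralizer (V : Set G) :=
  mem_centralizer_iff.2 fun v hv => (hx v hv).symm

theorem C_le_cV (i : ι) : C i ≤ centralizer (V : Set G) := fun _ hc => s.mem_cV (s.C_V hc)

/-- `T_i T_j` -/
def N (i j : ι) : Subgroup G := NN (TT V (B i)) (TT V (B j)) fun _ ht _ hu => s.T_comm ht hu

theorem mem_N {i j : ι} {x : G} : x ∈ s.N i j ↔ ∃ t ∈ TT V (B i), ∃ u ∈ TT V (B j), x = t * u := Iff.rfl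

theorem T_le_N_left (i j : ι) : TT V (B i) ≤ s.N i j := fun t ht => ⟨t, ht, 1, one_mem _, (mul_one t).symm⟩

theorem T_le_N_right (i j : ι) : TT V (B j) ≤ s.N i j := fun t ht => ⟨1, one_mem _, t, ht, (one_mul t).symm⟩

theorem N_comm {i j : ι} {x y : G} (hx : x ∈ s.N i j) (hy : y ∈ s.N i j) : x * y = y * x := by
  obtain ⟨t, ht, u, hu, rfl⟩ := hx
  obtain ⟨t', ht', u', hu', rfl⟩ := hy
  calc t * u * (t' * u') = t * (u * t') * u' := by group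
    _ = t * (t' * u) * u' := by rw [s.T_comm ht' hu]
    _ = (t * t') * (u * u') := by group
    _ = (t' * t) * (u' * u) := by rw [s.T_comm ht ht', s.T_comm hu hu']
    _ = t' * (t * u') * u := by group
    _ = t' * (u' * t) * u := by rw [s.T_comm ht hu']
    _ = t' * u' * (t * u) := by group

theorem B_le_KK (i j : ι) : B i ⊔ B j ≤ KK V (s.N i j) := by
  refine sup_le ?_ ?_
  · intro b hb
    refine ⟨s.B_NV i hb, fun c hc => s.T_le_N_left i j ?_⟩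
    exact s.comm_mem_T' (fun v hv => (mem_centralizer_iff.1 hc v hv).symm) hb
  · intro b hb
    refine ⟨s.B_NV j hb, fun c hc => s.T_le_N_right i j ?_⟩
    exact s.comm_mem_T' (fun v hv => (mem_centralizer_iff.1 hc v hv).symm) hb

theorem card_R [Finite G] (i j : ι) : Nat.card (R i) = Nat.card (R j) := by
  obtain ⟨m, -, -, x, hx, e⟩ := s.trans_B i j
  rw [← e, card_cj]

/-- the commutator map `T j → T i` of `b ∈ B i` outside `C(V)` maps `R j` onto `R i` -/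
theorem mem_R_of_comm [Finite G] {i j : ι} (hij : i ≠ j) {b : G} (hb : b ∈ B i)
    (hbV : ¬ ∀ v ∈ V, b * v = v * b) {t : G} (ht : t ∈ TT V (B j)) (h : b * t * b⁻¹ * t⁻¹ ∈ R i) : t ∈ R j := by
  have key : ∀ r ∈ R j, b * r * b⁻¹ * r⁻¹ ∈ R i := by
    intro r hr
    have h1 := s.CB i r (s.V_C i (s.R_V j hr)) b hb
    have e : b * r * b⁻¹ * r⁻¹ = (r * b * r⁻¹ * b⁻¹)⁻¹ := by group
    rw [e]; exact inv_mem h1
  let f : R j → R i := fun r => ⟨b * (r : G) * b⁻¹ * (r : G)⁻¹, key r r.2⟩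
  have hf : Function.Injective f := by
    intro x y hxy
    have h1 : b * (x : G) * b⁻¹ * (x : G)⁻¹ = b * (y : G) * b⁻¹ * (y : G)⁻¹ := congrArg Subtype.val hxy
    have h2 : b * ((y : G)⁻¹ * x) = (y : G)⁻¹ * x * b := comm_of_comm_eq h1
    have h4 := s.inj hij hb hbV (mul_mem (inv_mem (s.R_B j y.2)) (s.R_B j x.2)) h2
    exact Subtype.ext (inv_mul_eq_one.1 h4).symm
  have hfs : Function.Surjective f := (Nat.bijective_iff_injective_and_card f).2 ⟨hf, s.card_R j i⟩ |>.2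
  obtain ⟨r, hr⟩ := hfs ⟨_, h⟩
  have h1 : b * (r : G) * b⁻¹ * (r : G)⁻¹ = b * t * b⁻¹ * t⁻¹ := congrArg Subtype.val hr
  have h2 : b * (t⁻¹ * r) = t⁻¹ * r * b := comm_of_comm_eq h1
  have h4 := s.inj hij hb hbV (mul_mem (inv_mem (TT_le _ _ ht)) (s.R_B j r.2)) h2
  rw [inv_mul_eq_one.1 h4]
  exact r.2

/-- `C j ∩ T i T j = V` -/
theorem C_inf_N [Finite G] {i j : ι} (hij : i ≠ j) (hY : C j ⊓ B j ≤ R j) {t u : G} (ht : t ∈ TT V (B i))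
    (hu : u ∈ TT V (B j)) (h : t * u ∈ C j) : t ∈ R i ∧ u ∈ R j := by
  obtain ⟨b, hb, hbV⟩ := s.exists_move (Ne.symm hij)
  have h1 : t * u * b * (t * u)⁻¹ * b⁻¹ ∈ R j := s.CB j _ h b hb
  have hub : u * b = b * u := s.B_comm j u (TT_le _ _ hu) b hb
  have e : t * u * b * (t * u)⁻¹ * b⁻¹ = (b * t * b⁻¹ * t⁻¹)⁻¹ := by
    calc t * u * b * (t * u)⁻¹ * b⁻¹ = t * (u * b) * u⁻¹ * t⁻¹ * b⁻¹ := by group
      _ = t * (b * u) * u⁻¹ * t⁻¹ * b⁻¹ := by rw [hub]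
      _ = (b * t * b⁻¹ * t⁻¹)⁻¹ := by group
  rw [e] at h1
  have h2 : t ∈ R i := s.mem_R_of_comm (Ne.symm hij) hb hbV ht (by simpa using inv_mem h1)
  refine ⟨h2, hY ⟨?_, TT_le _ _ hu⟩⟩
  have h3 : t⁻¹ * (t * u) ∈ C j := mul_mem (inv_mem (s.V_C j (s.R_V i h2))) h
  rwa [inv_mul_cancel_left] at h3

theorem C_le [Finite G] {i j : ι} (hij : i ≠ j) (hYi : C i ⊓ B i ≤ R i) (hYj : C j ⊓ B j ≤ R j) {h : G}
    (hX : h ∈ B i ⊔ B j) (hi : cj h (R i) = R i) (hj : cj h (R j) = R j)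
    (fi : ∀ t ∈ TT V (B i), h * t * h⁻¹ * t⁻¹ ∈ R i → t ∈ R i)
    (fj : ∀ t ∈ TT V (B j), h * t * h⁻¹ * t⁻¹ ∈ R j → t ∈ R j) : C i ≤ C j := by
  have hV : h ∈ normalizer (V : Set G) := (s.B_le_KK i j hX).1
  -- `C i ≤ (T i T j) C j`
  obtain ⟨x, hxX, hx⟩ : ∃ x ∈ B i ⊔ B j, cj x (R i) = R j := by
    obtain ⟨m, -, -, x, hx, e⟩ := s.trans_B i j
    exact ⟨x, s.B_le hij m hx, e⟩
  intro c hc
  have hcV : c ∈ centralizer (V : Set G) := s.C_le_cV i hc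
  have h1 : x * c * x⁻¹ * c⁻¹ ∈ s.N i j := (s.B_le_KK i j hxX).2 c hcV
  have h2 : x * c * x⁻¹ ∈ C j := by
    rw [← s.cC x i j hx]; exact conj_mem_cj hc
  -- `c = n c'`
  obtain ⟨n, hn, c', hc', hcn⟩ : ∃ n ∈ s.N i j, ∃ c' ∈ C j, c = n * c' :=
    ⟨(x * c * x⁻¹ * c⁻¹)⁻¹, inv_mem h1, _, h2, by group⟩
  -- `[h, c] ∈ V`
  have h3 : h * c * h⁻¹ * c⁻¹ ∈ V := by
    have h4 : h * c * h⁻¹ * c⁻¹ ∈ s.N i j := (s.B_le_KK i j hX).2 c hcV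
    have h5 : h * c * h⁻¹ * c⁻¹ ∈ C i := by
      refine mul_mem ?_ (inv_mem hc)
      have := conj_mem_cj (g := h) hc
      rwa [s.cC h i i hi] at this
    obtain ⟨t, ht, u, hu, e⟩ := h4
    rw [e, s.T_comm ht hu] at h5
    obtain ⟨h6, h7⟩ := s.C_inf_N (Ne.symm hij) hYi hu ht h5
    rw [e]
    exact mul_mem (s.R_V i h7) (s.R_V j h6)
  obtain ⟨t, ht, u, hu, rfl⟩ := hn
  have hht : h * t * h⁻¹ ∈ TT V (B i) := by
    have := conj_mem_cj (g := h) ht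
    rwa [s.cj_T hV hi] at this
  have hhu : h * u * h⁻¹ ∈ TT V (B j) := by
    have := conj_mem_cj (g := h) hu
    rwa [s.cj_T hV hj] at this
  have hhc' : h * c' * h⁻¹ ∈ C j := by
    have := conj_mem_cj (g := h) hc'
    rwa [s.cC h j j hj] at this
  -- the element `(h t h⁻¹ t⁻¹) (h u h⁻¹ u⁻¹)` lies in `C j`
  have h4 : (h * t * h⁻¹ * t⁻¹) * (h * u * h⁻¹ * u⁻¹) ∈ C j := by
    set v := h * c * h⁻¹ * c⁻¹ with hv
    have hvc : h * c * h⁻¹ = v * c := by rw [hv]; group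
    have e1 : (h * t * h⁻¹) * (h * u * h⁻¹) * (h * c' * h⁻¹) = v * (t * u * c') := by
      rw [← hcn, ← hvc, hcn]; group
    have e2 : (h * t * h⁻¹) * (h * u * h⁻¹) = v * (t * u) * (c' * (h * c' * h⁻¹)⁻¹) := by
      calc (h * t * h⁻¹) * (h * u * h⁻¹)
          = (h * t * h⁻¹) * (h * u * h⁻¹) * (h * c' * h⁻¹) * (h * c' * h⁻¹)⁻¹ := by group
        _ = v * (t * u) * (c' * (h * c' * h⁻¹)⁻¹) := by rw [e1]; group
    have hvtu : v * (t * u) = t * u * v := by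
      have h5 : v * t = t * v := ((mem_TT.1 ht).2 v h3).symm
      have h6 : v * u = u * v := ((mem_TT.1 hu).2 v h3).symm
      calc v * (t * u) = v * t * u := by group
        _ = t * (v * u) := by rw [h5]; group
        _ = t * u * v := by rw [h6]; group
    have e3 : (h * t * h⁻¹ * t⁻¹) * (h * u * h⁻¹ * u⁻¹) = v * (c' * (h * c' * h⁻¹)⁻¹) := by
      have h7 : t⁻¹ * (h * u * h⁻¹) = (h * u * h⁻¹) * t⁻¹ := s.T_comm (inv_mem ht) hhu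
      have hNa : (t * u)⁻¹ * ((h * t * h⁻¹) * (h * u * h⁻¹)) = ((h * t * h⁻¹) * (h * u * h⁻¹)) * (t * u)⁻¹ :=
        s.N_comm (i := i) (j := j) (inv_mem ⟨t, ht, u, hu, rfl⟩) ⟨_, hht, _, hhu, rfl⟩
      calc (h * t * h⁻¹ * t⁻¹) * (h * u * h⁻¹ * u⁻¹)
          = (h * t * h⁻¹) * (t⁻¹ * (h * u * h⁻¹)) * u⁻¹ := by group
        _ = (h * t * h⁻¹) * ((h * u * h⁻¹) * t⁻¹) * u⁻¹ := by rw [h7]
        _ = ((h * t * h⁻¹) * (h * u * h⁻¹)) * (u * t)⁻¹ := by group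
        _ = ((h * t * h⁻¹) * (h * u * h⁻¹)) * (t * u)⁻¹ := by rw [s.T_comm ht hu]
        _ = (t * u)⁻¹ * ((h * t * h⁻¹) * (h * u * h⁻¹)) := hNa.symm
        _ = (t * u)⁻¹ * (v * (t * u) * (c' * (h * c' * h⁻¹)⁻¹)) := by rw [e2]
        _ = (t * u)⁻¹ * (t * u * v * (c' * (h * c' * h⁻¹)⁻¹)) := by rw [hvtu]
        _ = v * (c' * (h * c' * h⁻¹)⁻¹) := by group
    rw [e3]
    exact mul_mem (s.V_C j h3) (mul_mem hc' (inv_mem hhc'))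
  obtain ⟨h5, h6⟩ := s.C_inf_N hij hYj (mul_mem hht (inv_mem ht)) (mul_mem hhu (inv_mem hu)) h4
  rw [hcn]
  exact mul_mem (mul_mem (s.V_C j (s.R_V i (fi t ht h5))) (s.V_C j (s.R_V j (fj u hu h6)))) hc'

/-- **TEXT MIX (8)**: `W₁` is the same for all points of the line -/
theorem C_eq [Finite G] {i j : ι} (hij : i ≠ j) (hYi : C i ⊓ B i ≤ R i) (hYj : C j ⊓ B j ≤ R j) {h : G}
    (hX : h ∈ B i ⊔ B j) (hi : cj h (R i) = R i) (hj : cj h (R j) = R j)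
    (fi : ∀ t ∈ TT V (B i), h * t * h⁻¹ * t⁻¹ ∈ R i → t ∈ R i)
    (fj : ∀ t ∈ TT V (B j), h * t * h⁻¹ * t⁻¹ ∈ R j → t ∈ R j) : C i = C j :=
  le_antisymm (s.C_le hij hYi hYj hX hi hj fi fj)
    (s.C_le (Ne.symm hij) hYj hYi (by rwa [sup_comm]) hj hi fj fi)

end Side

end Cfsg.Agent.Omega.Mix

end
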