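import Cfsg.Agent.Mrg.Omega.Mix.TI
import Cfsg.Agent.Mrg.Omega.CloseA.Weak


/-!
# A mixed pair with `W₁ = V₁`: `V₁V₂` is a Sylow 2-subgroup of `L₃(q)`

* `FIn.exists_co3` : coordinates `Co3` on `V₁V₂`;
* `MixedN.exists_co3` : `Co3` and `Ctx`;
* `MixedN.rank_four` : for `q = 4` the sectional 2-rank of `G` is at most 4.
-/

set_option autoImplicit false
set_option linter.unusedSectionVars false

namespace Cfsg.Agent.Omega.Mix

open Subgroup Cfsg.Agent.Lib.SL2Mat Cfsg.Agent.Omega.BTwo Cfsg.Agent.Omega.CloseA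
open Cfsg.Agent.Omega.NatPair (dt dt_smul dt_add exists_smul_of_dt exists_comb ap ap_smul ap_zero' ap_one' ap_mul
  ap_inv_ap ap_ap_inv ap_one)

universe u

variable {G : Type u} [Group G] {F₁ F₂ : Type*} [Field F₁] [Field F₂] {V₁ V₂ N₁ N₂ : Subgroup G} {M₁ : RMod F₁ V₁ N₁}
  {M₂ : RMod F₂ V₂ N₂} {R : Subgroup G}

namespace FIn

variable {w₁ : Fin 2 → F₁} {w₂ : Fin 2 → F₂} (f : FIn M₁ M₂ R w₁ w₂) [Finite G] [Finite F₁] [Finite F₂] [CharP F₁ 2]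
  [CharP F₂ 2]
include f

/-- an element of `W₂` with a given value on `a ∈ W₁ - R` -/
theorem exists_fm {a : G} (ha : a ∈ LL V₁ R R) (haR : a ∉ R) (c : F₁) : ∃ b ∈ LL V₂ R R, fm (kap M₁ w₁) a b = c := by
  have p := f.pai
  obtain ⟨b₀, hb₀, hne⟩ : ∃ b ∈ LL V₂ R R, fm (kap M₁ w₁) a b ≠ 0 := by
    by_contra hc
    push Not at hc
    exact haR (p.nd a ha fun b hb => (p.fm_eq_zero ha (p.tst hb)).1 (hc b hb))
  obtain ⟨b, hb, h⟩ := p.lin_right f.lin₂ f.symm.W₂_ZZ (c * (fm (kap M₁ w₁) a b₀)⁻¹) hb₀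
  exact ⟨b, hb, by rw [h a ha, mul_assoc, inv_mul_cancel₀ hne, mul_one]⟩

theorem ker_one' (h₁ : LL V₁ R R ≤ V₁) {a b : G} (ha : a ∈ LL V₁ R R) (hb : b ∈ LL V₂ R R) (hab : a * b = b * a)
    (hbR : b ∉ R) : a ∈ R := by
  by_contra haR
  apply hbR
  refine f.pai.nd' b hb fun a' ha' => ?_
  exact comm_line M₁ f.ne₁ f.line₁ (f.W₂_ZZ hb) (one_mem _) (a := a)
    (by rw [cj_one]; exact h₁ ha) haR hab a' (by rw [cj_one]; exact h₁ ha')

/-- **coordinates on `V₁V₂`** -/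
theorem exists_co3 (h₁ : LL V₁ R R ≤ V₁) (hsq₂ : ∀ u ∈ LL V₂ R R, u * u = 1) :
    ∃ x y z : G → F₁, Co3 (LL V₁ R R) (LL V₂ R R) R x y z := by
  have p := f.pai
  set κ := kap M₁ w₁ with hκ
  obtain ⟨a₀, ha₀, ha₀R⟩ : ∃ v ∈ LL V₁ R R, v ∉ R := by
    by_contra hcon
    push Not at hcon
    exact f.R_ne_W₁ (le_antisymm f.R_W₁ hcon)
  obtain ⟨b₀, hb₀, hab⟩ := f.exists_fm ha₀ ha₀R 1
  have hb₀R : b₀ ∉ R := by
    intro h
    rw [p.R_right ha₀ h] at hab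
    exact zero_ne_one hab
  -- one-dimensionality
  have h1d : ∀ u ∈ LL V₁ R R, ∀ v ∈ LL V₂ R R, fm κ u v = fm κ u b₀ * fm κ a₀ v := by
    intro u hu v hv
    obtain ⟨u', hu', h⟩ := f.lin₁ (fm κ u b₀) a₀ ha₀
    have h3 : fm κ (u * u'⁻¹) b₀ = 0 := by
      rw [p.mul_left hu (inv_mem hu') (p.tst hb₀), p.inv_left hu' (p.tst hb₀), h b₀ (f.W₂_ZZ hb₀), hab, mul_one,
        add_neg_cancel]
    have h4 : u * u'⁻¹ ∈ LL V₁ R R := mul_mem hu (inv_mem hu')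
    have h5 := f.ker_one' h₁ h4 hb₀ ((p.fm_eq_zero h4 (p.tst hb₀)).1 h3) hb₀R
    have h6 : fm κ (u * u'⁻¹) v = 0 := p.R_left h5 (p.tst hv)
    rw [p.mul_left hu (inv_mem hu') (p.tst hv), p.inv_left hu' (p.tst hv), h v (f.W₂_ZZ hv)] at h6
    linear_combination h6
  classical
  -- coordinates on `R`
  let z : G → F₁ := fun g => if h : ∃ c, κ c = g then h.choose else 0
  have hz : ∀ c, z (κ c) = c := by
    intro c
    have h : ∃ c', κ c' = κ c := ⟨c, rfl⟩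
    have h3 : z (κ c) = h.choose := dif_pos h
    rw [h3]
    exact p.κ_inj h.choose_spec
  refine ⟨fun u => fm κ u b₀, fun v => fm κ a₀ v, z, ?_⟩
  exact
    { sq₁ := fun u hu => M₁.sq (h₁ hu)
      sq₂ := hsq₂
      inf := fun u => ⟨fun hu => ⟨f.R_W₁ hu, f.symm.R_W₁ hu⟩, fun hu =>
        p.nd u hu.1 fun b hb => f.comm₂ u hu.2 b hb⟩
      x_mul := fun u hu v hv => p.mul_left hu hv (p.tst hb₀)
      x_surj := fun a => by
        obtain ⟨u, hu, h⟩ := f.lin₁ a a₀ ha₀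
        exact ⟨u, hu, by rw [h b₀ (f.W₂_ZZ hb₀), hab, mul_one]⟩
      x_ker := fun u hu => ⟨fun h => f.ker_one' h₁ hu hb₀ ((p.fm_eq_zero hu (p.tst hb₀)).1 h) hb₀R,
        fun h => p.R_left h (p.tst hb₀)⟩
      y_mul := fun u hu v hv => p.mul_right ha₀ (p.tst hu) (p.tst hv)
      y_surj := fun a => f.exists_fm ha₀ ha₀R a
      y_ker := fun u hu => ⟨fun h => by
          by_contra huR
          exact ha₀R (f.ker_one' h₁ ha₀ hu ((p.fm_eq_zero ha₀ (p.tst hu)).1 h) huR),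
        fun h => p.R_right ha₀ h⟩
      z_mul := fun u hu v hv => by
        obtain ⟨c, rfl⟩ := (p.κ_mem u).1 hu
        obtain ⟨d, rfl⟩ := (p.κ_mem v).1 hv
        rw [← p.κ_add, hz, hz, hz]
      z_surj := fun a => ⟨κ a, (p.κ_mem _).2 ⟨a, rfl⟩, hz a⟩
      z_inj := fun u hu h => by
        obtain ⟨c, rfl⟩ := (p.κ_mem u).1 hu
        rw [hz] at h
        rw [h, p.κ_zero]
      mem := p.cm
      com := fun u hu v hv => by
        rw [← p.spec hu (p.tst hv), hz]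
        exact h1d u hu v hv }

/-- elements of a 2-group trivial on `V₁ / R` -/
theorem faith_one (h₁ : LL V₁ R R ≤ V₁) {S : Subgroup G} (hS : IsPGroup 2 S) (hSN : S ≤ N₁)
    (hSR : S ≤ normalizer (R : Set G)) (hW : LL V₂ R R ≤ S) {s : G} (hs : s ∈ S)
    (h : ∀ a ∈ LL V₁ R R, s * a * s⁻¹ * a⁻¹ ∈ R) : ∃ a ∈ LL V₁ R R, ∃ b ∈ LL V₂ R R, s = b * a := by
  have p := f.pai
  set κ := kap M₁ w₁ with hκ
  obtain ⟨u, hu⟩ := exists_dt f.ne₁
  have hu0 : u ≠ 0 := ne_zero_of_dt hu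
  have haW : M₁.e u ∈ LL V₁ R R := V_le_LL V₁ R (M₁.e_mem u)
  have haR : M₁.e u ∉ R := by
    intro h3
    rw [f.line₁] at h3
    obtain ⟨c, hc⟩ := M₁.e_mem_line.1 h3
    rw [hc, dt_smul, dt_self, mul_zero] at hu
    exact hu rfl
  -- `b` with the same action on `a`
  obtain ⟨c, hc⟩ := (p.κ_mem _).1 (inv_mem (h _ haW))
  obtain ⟨b, hb, hbc⟩ := f.exists_fm haW haR c
  have hb' := p.spec haW (p.tst hb)
  rw [hbc, hc] at hb'
  set a := M₁.e u with ha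
  set t := b⁻¹ * s with ht
  have htS : t ∈ S := mul_mem (inv_mem (hW hb)) hs
  have hta : t * a * t⁻¹ = a := by
    have e1 : a * b * a⁻¹ * b⁻¹ = a * s * a⁻¹ * s⁻¹ := by
      rw [← hb']; group
    have e2 : b * a⁻¹ * b⁻¹ = s * a⁻¹ * s⁻¹ := by
      have := congrArg (fun z => a⁻¹ * z) e1
      calc b * a⁻¹ * b⁻¹ = a⁻¹ * (a * b * a⁻¹ * b⁻¹) := by group
        _ = a⁻¹ * (a * s * a⁻¹ * s⁻¹) := this
        _ = s * a⁻¹ * s⁻¹ := by group
    have e3 : b * a * b⁻¹ = s * a * s⁻¹ := by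
      have := congrArg (fun z => z⁻¹) e2
      calc b * a * b⁻¹ = (b * a⁻¹ * b⁻¹)⁻¹ := by group
        _ = (s * a⁻¹ * s⁻¹)⁻¹ := this
        _ = s * a * s⁻¹ := by group
    calc t * a * t⁻¹ = b⁻¹ * (s * a * s⁻¹) * b := by rw [ht]; group
      _ = b⁻¹ * (b * a * b⁻¹) * b := by rw [e3]
      _ = a := by group
  have htV : ∀ v ∈ LL V₁ R R, t * v * t⁻¹ * v⁻¹ ∈ R := by
    intro v hv
    have h3 := h v hv
    have hbR : b ∈ normalizer (R : Set G) := hSR (hW hb)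
    have h4 := conj_inv_mem_of_normalizer hbR h3
    have h5 := p.cm v hv b⁻¹ (inv_mem hb)
    have e : t * v * t⁻¹ * v⁻¹ = b⁻¹ * (s * v * s⁻¹ * v⁻¹) * b * (v * b⁻¹ * v⁻¹ * b⁻¹⁻¹)⁻¹ := by rw [ht]; group
    rw [e]
    exact mul_mem h4 (inv_mem h5)
  obtain ⟨σ, hσ⟩ := M₁.exists_semi (hSN htS)
  have hact : M₁.act t u = u := by
    apply M₁.e_inj
    rw [M₁.e_act (hSN htS)]
    exact hta
  have hσ1 : ∀ c, σ c = c := by
    intro c
    have h3 := htV _ (V_le_LL V₁ R (M₁.e_mem (c • u)))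
    rw [← M₁.e_act (hSN htS), hσ, hact, ← M₁.e_sub, ← sub_smul, f.line₁] at h3
    obtain ⟨d, hd⟩ := M₁.e_mem_line.1 h3
    have h4 := congrArg (dt w₁) hd
    rw [dt_smul, dt_smul, dt_self, mul_zero] at h4
    exact sub_eq_zero.1 ((mul_eq_zero.1 h4).resolve_right hu)
  -- the action on `R`
  obtain ⟨d, hd⟩ : ∃ d : F₁, M₁.act t w₁ = d • w₁ := by
    have h3 : M₁.e w₁ ∈ R := by
      rw [f.line₁]
      exact M₁.e_mem_line.2 ⟨1, (one_smul _ _).symm⟩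
    have h4 := conj_mem_of_normalizer (hSR htS) h3
    rw [← M₁.e_act (hSN htS), f.line₁] at h4
    exact M₁.e_mem_line.1 h4
  have hpow : ∀ n : ℕ, ∀ z, t ^ n * κ z * (t ^ n)⁻¹ = κ (d ^ n * z) := by
    intro n
    induction n with
    | zero =>
      intro z
      simp
    | succ n ih =>
      intro z
      have h3 : t * κ z * t⁻¹ = κ (d * z) := by
        show t * M₁.e (z • w₁) * t⁻¹ = M₁.e ((d * z) • w₁)
        rw [← M₁.e_act (hSN htS), hσ, hσ1, hd, smul_smul, mul_comm]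
      calc t ^ (n + 1) * κ z * (t ^ (n + 1))⁻¹ = t ^ n * (t * κ z * t⁻¹) * (t ^ n)⁻¹ := by
            rw [pow_succ]; group
        _ = κ (d ^ (n + 1) * z) := by rw [h3, ih, ← mul_assoc, pow_succ]
  have hd1 : d = 1 := by
    obtain ⟨k, hk⟩ := hS ⟨t, htS⟩
    have hk' : t ^ 2 ^ k = 1 := congrArg Subtype.val hk
    have h3 := hpow (2 ^ k) 1
    rw [hk', one_mul, inv_one, mul_one, mul_one] at h3
    exact NatPair.eq_one_of_pow (p.κ_inj h3).symm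
  have htc : t ∈ centralizer (LL V₁ R R : Set G) := by
    rw [mem_centralizer_iff]
    intro v hv
    obtain ⟨x, rfl⟩ := (M₁.mem_iff v).1 (h₁ hv)
    obtain ⟨α, β, rfl⟩ := exists_comb hu x
    have h3 : t * M₁.e (α • w₁ + β • u) * t⁻¹ = M₁.e (α • w₁ + β • u) := by
      rw [← M₁.e_act (hSN htS), M₁.act_add (hSN htS), hσ, hσ, hσ1, hσ1, hact, hd, hd1, one_smul]
    exact (mul_inv_eq_iff_eq_mul.1 h3).symm
  refine ⟨t, f.cen_W₁ htc, b, hb, ?_⟩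
  rw [ht, mul_inv_cancel_left]

end FIn

namespace MixedN

variable (m : MixedN M₁ M₂ R) [Finite G] [Finite F₁] [Finite F₂] [CharP F₁ 2] [CharP F₂ 2]
include m

/-- **`V₁V₂` is a Sylow 2-subgroup of `L₃(q)`, normal in `S`** -/
theorem exists_co3 (h₁ : LL V₁ R R ≤ V₁) : ∃ S : Sylow 2 G, (S : Subgroup G) ≤ N₁ ∧ (S : Subgroup G) ≤ N₂ ∧
    (S : Subgroup G) ≤ normalizer (R : Set G) ∧ (∃ x y z : G → F₁, Co3 (LL V₁ R R) (LL V₂ R R) R x y z) ∧
    Ctx (S : Subgroup G) (LL V₁ R R ⊔ LL V₂ R R) R (LL V₁ R R) (LL V₂ R R) := by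
  obtain ⟨w₁, w₂, f⟩ := m.exists_fin
  obtain ⟨S, hS1, hS2, hS3, -⟩ := m.sylow
  have h₂ := f.le_of_le h₁
  have hQS := QQ_le_sylow hS3
  have hW₁ : LL V₁ R R ≤ (S : Subgroup G) := m.C_le_QQ.trans hQS
  have hW₂ : LL V₂ R R ≤ (S : Subgroup G) := m.symm.C_le_QQ.trans hQS
  have p := f.pai
  have hsup : ∀ g, g ∈ LL V₁ R R ⊔ LL V₂ R R ↔ ∃ a ∈ LL V₁ R R, ∃ b ∈ LL V₂ R R, g = a * b := by
    intro g
    constructor
    · intro hg
      let X : Subgroup G :=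
        { carrier := {g | ∃ x ∈ LL V₁ R R, ∃ y ∈ LL V₂ R R, g = x * y}
          one_mem' := ⟨1, one_mem _, 1, one_mem _, (mul_one 1).symm⟩
          mul_mem' := by
            rintro _ _ ⟨x, hx, y, hy, rfl⟩ ⟨x', hx', y', hy', rfl⟩
            refine ⟨x * x', mul_mem hx hx', x'⁻¹ * y * x' * y', mul_mem ?_ hy', by group⟩
            exact conj_inv_mem_of_normalizer (f.W₁_norm₂ hx') hy
          inv_mem' := by
            rintro _ ⟨x, hx, y, hy, rfl⟩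
            exact ⟨x⁻¹, inv_mem hx, x * y⁻¹ * x⁻¹, conj_mem_of_normalizer (f.W₁_norm₂ hx) (inv_mem hy), by group⟩ }
      have h3 : LL V₁ R R ⊔ LL V₂ R R ≤ X := sup_le (fun x hx => ⟨x, hx, 1, one_mem _, (mul_one x).symm⟩)
        (fun y hy => ⟨1, one_mem _, y, hy, (one_mul y).symm⟩)
      exact h3 hg
    · rintro ⟨a, ha, b, hb, rfl⟩
      exact mul_mem (mem_sup_left ha) (mem_sup_right hb)
  have hsq₁ := m.facts.C_sq
  have hsq₂ := m.symm.facts.C_sq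
  refine ⟨S, hS1, hS2, hS3, f.exists_co3 h₁ hsq₂, ?_⟩
  exact
    { le₁ := hW₁
      le₂ := hW₂
      n₁ := fun s hs a ha => conj_mem_of_normalizer (normalizer_le_LL V₁ R R (hS3 hs)) ha
      n₂ := fun s hs a ha => conj_mem_of_normalizer (normalizer_le_LL V₂ R R (hS3 hs)) ha
      sq₁ := hsq₁
      sq₂ := hsq₂
      inf := fun u => ⟨fun hu => ⟨f.R_W₁ hu, f.symm.R_W₁ hu⟩, fun hu =>
        p.nd u hu.1 fun b hb => f.comm₂ u hu.2 b hb⟩
      sup := hsup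
      faith₁ := fun s hs h => by
        obtain ⟨a, ha, b, hb, rfl⟩ := f.faith_one h₁ S.isPGroup' hS1 hS3 hW₂ hs fun a ha => by
          rw [inv_eq_of_mul_eq_one_right (hsq₁ a ha)]
          exact h a ha
        exact mul_mem (mem_sup_right hb) (mem_sup_left ha)
      faith₂ := fun s hs h => by
        obtain ⟨a, ha, b, hb, rfl⟩ := f.symm.faith_one h₂ S.isPGroup' hS2 hS3 hW₁ hs fun a ha => by
          rw [inv_eq_of_mul_eq_one_right (hsq₂ a ha)]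
          exact h a ha
        exact mul_mem (mem_sup_left hb) (mem_sup_right ha) }

/-- **`q = 4`, `W₁ = V₁`** -/
theorem rank_four (h₁ : LL V₁ R R ≤ V₁) (hF : Nat.card F₁ = 4) : Cfsg.SectionalPRankLE 2 4 G := by
  obtain ⟨S, -, -, -, ⟨x, y, z, h⟩, c⟩ := m.exists_co3 h₁
  exact Co3.rank_four S h c hF

end MixedN

end Cfsg.Agent.Omega.Mix
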